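import Cfsg.Agent.Lib.Helper9.TCData.X1689.Main

set_option autoImplicit false
set_option maxRecDepth 1000000

namespace Cfsg.Agent.Helper9.TCData.X1689
open Cfsg.Agent.Helper9.TC2

theorem m2_334 : allRange 12692 38 (fun u => chkFix tab mwords u) = true := by decide +kernel

theorem m2_335 : allRange 12730 38 (fun u => chkFix tab mwords u) = true := by decide +kernel

theorem m2_336 : allRange 12768 38 (fun u => chkFix tab mwords u) = true := by decide +kernel

theorem m2_337 : allRange 12806 38 (fun u => chkFix tab mwords u) = true := by decide +kernel

theorem m2_338 : allRange 12844 38 (fun u => chkFix tab mwords u) = true := by decide +kernel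

theorem m2_339 : allRange 12882 38 (fun u => chkFix tab mwords u) = true := by decide +kernel

theorem m2_340 : allRange 12920 38 (fun u => chkFix tab mwords u) = true := by decide +kernel

theorem m2_341 : allRange 12958 38 (fun u => chkFix tab mwords u) = true := by decide +kernel


end Cfsg.Agent.Helper9.TCData.X1689
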