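import Cfsg.Agent.Lib.Helper9.TCData.X1689.Main

set_option autoImplicit false
set_option maxRecDepth 1000000

namespace Cfsg.Agent.Helper9.TCData.X1689
open Cfsg.Agent.Helper9.TC2

theorem m2_342 : allRange 12996 38 (fun u => chkFix tab mwords u) = true := by decide +kernel

theorem m2_343 : allRange 13034 38 (fun u => chkFix tab mwords u) = true := by decide +kernel

theorem m2_344 : allRange 13072 38 (fun u => chkFix tab mwords u) = true := by decide +kernel

theorem m2_345 : allRange 13110 38 (fun u => chkFix tab mwords u) = true := by decide +kernel

theorem m2_346 : allRange 13148 38 (fun u => chkFix tab mwords u) = true := by decide +kernel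

theorem m2_347 : allRange 13186 38 (fun u => chkFix tab mwords u) = true := by decide +kernel

theorem m2_348 : allRange 13224 38 (fun u => chkFix tab mwords u) = true := by decide +kernel

theorem m2_349 : allRange 13262 38 (fun u => chkFix tab mwords u) = true := by decide +kernel


end Cfsg.Agent.Helper9.TCData.X1689
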