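import Cfsg.Agent.Lib.Helper9.TCData.X1689.Main

set_option autoImplicit false
set_option maxRecDepth 1000000

namespace Cfsg.Agent.Helper9.TCData.X1689
open Cfsg.Agent.Helper9.TC2

theorem m2_414 : allRange 15732 38 (fun u => chkFix tab mwords u) = true := by decide +kernel

theorem m2_415 : allRange 15770 38 (fun u => chkFix tab mwords u) = true := by decide +kernel

theorem m2_416 : allRange 15808 38 (fun u => chkFix tab mwords u) = true := by decide +kernel

theorem m2_417 : allRange 15846 38 (fun u => chkFix tab mwords u) = true := by decide +kernel

theorem m2_418 : allRange 15884 38 (fun u => chkFix tab mwords u) = true := by decide +kernel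

theorem m2_419 : allRange 15922 38 (fun u => chkFix tab mwords u) = true := by decide +kernel

theorem m2_420 : allRange 15960 38 (fun u => chkFix tab mwords u) = true := by decide +kernel

theorem m2_421 : allRange 15998 38 (fun u => chkFix tab mwords u) = true := by decide +kernel


end Cfsg.Agent.Helper9.TCData.X1689
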