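import Cfsg.Agent.Lib.Helper9.TCData.X1689.Main

set_option autoImplicit false
set_option maxRecDepth 1000000

namespace Cfsg.Agent.Helper9.TCData.X1689
open Cfsg.Agent.Helper9.TC2

theorem m2_422 : allRange 16036 38 (fun u => chkFix tab mwords u) = true := by decide +kernel

theorem m2_423 : allRange 16074 38 (fun u => chkFix tab mwords u) = true := by decide +kernel

theorem m2_424 : allRange 16112 38 (fun u => chkFix tab mwords u) = true := by decide +kernel

theorem m2_425 : allRange 16150 38 (fun u => chkFix tab mwords u) = true := by decide +kernel

theorem m2_426 : allRange 16188 38 (fun u => chkFix tab mwords u) = true := by decide +kernel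

theorem m2_427 : allRange 16226 38 (fun u => chkFix tab mwords u) = true := by decide +kernel

theorem m2_428 : allRange 16264 38 (fun u => chkFix tab mwords u) = true := by decide +kernel

theorem m2_429 : allRange 16302 38 (fun u => chkFix tab mwords u) = true := by decide +kernel


end Cfsg.Agent.Helper9.TCData.X1689
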