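import Cfsg.Agent.Lib.Helper9.TCData.X1689.Main

set_option autoImplicit false
set_option maxRecDepth 1000000

namespace Cfsg.Agent.Helper9.TCData.X1689
open Cfsg.Agent.Helper9.TC2

theorem m2_430 : allRange 16340 38 (fun u => chkFix tab mwords u) = true := by decide +kernel

theorem m2_431 : allRange 16378 38 (fun u => chkFix tab mwords u) = true := by decide +kernel

theorem m2_432 : allRange 16416 38 (fun u => chkFix tab mwords u) = true := by decide +kernel

theorem m2_433 : allRange 16454 38 (fun u => chkFix tab mwords u) = true := by decide +kernel

theorem m2_434 : allRange 16492 38 (fun u => chkFix tab mwords u) = true := by decide +kernel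

theorem m2_435 : allRange 16530 38 (fun u => chkFix tab mwords u) = true := by decide +kernel

theorem m2_436 : allRange 16568 38 (fun u => chkFix tab mwords u) = true := by decide +kernel

theorem m2_437 : allRange 16606 38 (fun u => chkFix tab mwords u) = true := by decide +kernel


end Cfsg.Agent.Helper9.TCData.X1689
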