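import Cfsg.Agent.Lib.Helper9.TCData.X1689.Main

set_option autoImplicit false
set_option maxRecDepth 1000000

namespace Cfsg.Agent.Helper9.TCData.X1689
open Cfsg.Agent.Helper9.TC2

theorem m2_438 : allRange 16644 38 (fun u => chkFix tab mwords u) = true := by decide +kernel

theorem m2_439 : allRange 16682 38 (fun u => chkFix tab mwords u) = true := by decide +kernel

theorem m2_440 : allRange 16720 38 (fun u => chkFix tab mwords u) = true := by decide +kernel

theorem m2_441 : allRange 16758 38 (fun u => chkFix tab mwords u) = true := by decide +kernel

theorem m2_442 : allRange 16796 38 (fun u => chkFix tab mwords u) = true := by decide +kernel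

theorem m2_443 : allRange 16834 38 (fun u => chkFix tab mwords u) = true := by decide +kernel

theorem m2_444 : allRange 16872 38 (fun u => chkFix tab mwords u) = true := by decide +kernel

theorem m2_445 : allRange 16910 38 (fun u => chkFix tab mwords u) = true := by decide +kernel


end Cfsg.Agent.Helper9.TCData.X1689
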