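import Cfsg.Agent.Lib.Helper9.TCData.X1689.Main

set_option autoImplicit false
set_option maxRecDepth 1000000

namespace Cfsg.Agent.Helper9.TCData.X1689
open Cfsg.Agent.Helper9.TC2

theorem m2_454 : allRange 17252 38 (fun u => chkFix tab mwords u) = true := by decide +kernel

theorem m2_455 : allRange 17290 38 (fun u => chkFix tab mwords u) = true := by decide +kernel

theorem m2_456 : allRange 17328 38 (fun u => chkFix tab mwords u) = true := by decide +kernel

theorem m2_457 : allRange 17366 38 (fun u => chkFix tab mwords u) = true := by decide +kernel

theorem m2_458 : allRange 17404 38 (fun u => chkFix tab mwords u) = true := by decide +kernel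

theorem m2_459 : allRange 17442 38 (fun u => chkFix tab mwords u) = true := by decide +kernel

theorem m2_460 : allRange 17480 38 (fun u => chkFix tab mwords u) = true := by decide +kernel

theorem m2_461 : allRange 17518 38 (fun u => chkFix tab mwords u) = true := by decide +kernel


end Cfsg.Agent.Helper9.TCData.X1689
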