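import Cfsg.Agent.Lib.Helper9.TCData.X1689.Main

set_option autoImplicit false
set_option maxRecDepth 1000000

namespace Cfsg.Agent.Helper9.TCData.X1689
open Cfsg.Agent.Helper9.TC2

theorem m2_470 : allRange 17860 38 (fun u => chkFix tab mwords u) = true := by decide +kernel

theorem m2_471 : allRange 17898 38 (fun u => chkFix tab mwords u) = true := by decide +kernel

theorem m2_472 : allRange 17936 38 (fun u => chkFix tab mwords u) = true := by decide +kernel

theorem m2_473 : allRange 17974 38 (fun u => chkFix tab mwords u) = true := by decide +kernel

theorem m2_474 : allRange 18012 38 (fun u => chkFix tab mwords u) = true := by decide +kernel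

theorem m2_475 : allRange 18050 38 (fun u => chkFix tab mwords u) = true := by decide +kernel

theorem m2_476 : allRange 18088 38 (fun u => chkFix tab mwords u) = true := by decide +kernel

theorem m2_477 : allRange 18126 38 (fun u => chkFix tab mwords u) = true := by decide +kernel


end Cfsg.Agent.Helper9.TCData.X1689
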