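import Cfsg.Agent.Lib.Helper9.TCData.X1689.Main

set_option autoImplicit false
set_option maxRecDepth 1000000

namespace Cfsg.Agent.Helper9.TCData.X1689
open Cfsg.Agent.Helper9.TC2

theorem m2_494 : allRange 18772 38 (fun u => chkFix tab mwords u) = true := by decide +kernel

theorem m2_495 : allRange 18810 38 (fun u => chkFix tab mwords u) = true := by decide +kernel

theorem m2_496 : allRange 18848 38 (fun u => chkFix tab mwords u) = true := by decide +kernel

theorem m2_497 : allRange 18886 38 (fun u => chkFix tab mwords u) = true := by decide +kernel

theorem m2_498 : allRange 18924 38 (fun u => chkFix tab mwords u) = true := by decide +kernel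

theorem m2_499 : allRange 18962 38 (fun u => chkFix tab mwords u) = true := by decide +kernel

theorem m2_500 : allRange 19000 38 (fun u => chkFix tab mwords u) = true := by decide +kernel

theorem m2_501 : allRange 19038 38 (fun u => chkFix tab mwords u) = true := by decide +kernel


end Cfsg.Agent.Helper9.TCData.X1689
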