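import Cfsg.Agent.Lib.Helper9.TCData.X1689.Main

set_option autoImplicit false
set_option maxRecDepth 1000000

namespace Cfsg.Agent.Helper9.TCData.X1689
open Cfsg.Agent.Helper9.TC2

theorem m2_502 : allRange 19076 38 (fun u => chkFix tab mwords u) = true := by decide +kernel

theorem m2_503 : allRange 19114 38 (fun u => chkFix tab mwords u) = true := by decide +kernel

theorem m2_504 : allRange 19152 38 (fun u => chkFix tab mwords u) = true := by decide +kernel

theorem m2_505 : allRange 19190 38 (fun u => chkFix tab mwords u) = true := by decide +kernel

theorem m2_506 : allRange 19228 38 (fun u => chkFix tab mwords u) = true := by decide +kernel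

theorem m2_507 : allRange 19266 38 (fun u => chkFix tab mwords u) = true := by decide +kernel

theorem m2_508 : allRange 19304 38 (fun u => chkFix tab mwords u) = true := by decide +kernel

theorem m2_509 : allRange 19342 38 (fun u => chkFix tab mwords u) = true := by decide +kernel


end Cfsg.Agent.Helper9.TCData.X1689
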