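import Cfsg.Agent.Lib.Helper9.TCData.X1689.Main

set_option autoImplicit false
set_option maxRecDepth 1000000

namespace Cfsg.Agent.Helper9.TCData.X1689
open Cfsg.Agent.Helper9.TC2

theorem m2_510 : allRange 19380 38 (fun u => chkFix tab mwords u) = true := by decide +kernel

theorem m2_511 : allRange 19418 38 (fun u => chkFix tab mwords u) = true := by decide +kernel

theorem m2_512 : allRange 19456 38 (fun u => chkFix tab mwords u) = true := by decide +kernel

theorem m2_513 : allRange 19494 38 (fun u => chkFix tab mwords u) = true := by decide +kernel

theorem m2_514 : allRange 19532 38 (fun u => chkFix tab mwords u) = true := by decide +kernel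

theorem m2_515 : allRange 19570 38 (fun u => chkFix tab mwords u) = true := by decide +kernel

theorem m2_516 : allRange 19608 38 (fun u => chkFix tab mwords u) = true := by decide +kernel

theorem m2_517 : allRange 19646 38 (fun u => chkFix tab mwords u) = true := by decide +kernel


end Cfsg.Agent.Helper9.TCData.X1689
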