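import Cfsg.Agent.Lib.Helper9.TCData.X1689.Main

set_option autoImplicit false
set_option maxRecDepth 1000000

namespace Cfsg.Agent.Helper9.TCData.X1689
open Cfsg.Agent.Helper9.TC2

theorem m2_526 : allRange 19988 38 (fun u => chkFix tab mwords u) = true := by decide +kernel

theorem m2_527 : allRange 20026 38 (fun u => chkFix tab mwords u) = true := by decide +kernel

theorem m2_528 : allRange 20064 38 (fun u => chkFix tab mwords u) = true := by decide +kernel

theorem m2_529 : allRange 20102 38 (fun u => chkFix tab mwords u) = true := by decide +kernel

theorem m2_530 : allRange 20140 38 (fun u => chkFix tab mwords u) = true := by decide +kernel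

theorem m2_531 : allRange 20178 38 (fun u => chkFix tab mwords u) = true := by decide +kernel

theorem m2_532 : allRange 20216 38 (fun u => chkFix tab mwords u) = true := by decide +kernel

theorem m2_533 : allRange 20254 38 (fun u => chkFix tab mwords u) = true := by decide +kernel


end Cfsg.Agent.Helper9.TCData.X1689
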