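import Cfsg.Agent.Lib.Helper9.TCData.X1689.Main

set_option autoImplicit false
set_option maxRecDepth 1000000

namespace Cfsg.Agent.Helper9.TCData.X1689
open Cfsg.Agent.Helper9.TC2

theorem m2_542 : allRange 20596 38 (fun u => chkFix tab mwords u) = true := by decide +kernel

theorem m2_543 : allRange 20634 38 (fun u => chkFix tab mwords u) = true := by decide +kernel

theorem m2_544 : allRange 20672 38 (fun u => chkFix tab mwords u) = true := by decide +kernel

theorem m2_545 : allRange 20710 38 (fun u => chkFix tab mwords u) = true := by decide +kernel

theorem m2_546 : allRange 20748 38 (fun u => chkFix tab mwords u) = true := by decide +kernel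

theorem m2_547 : allRange 20786 38 (fun u => chkFix tab mwords u) = true := by decide +kernel

theorem m2_548 : allRange 20824 38 (fun u => chkFix tab mwords u) = true := by decide +kernel

theorem m2_549 : allRange 20862 38 (fun u => chkFix tab mwords u) = true := by decide +kernel


end Cfsg.Agent.Helper9.TCData.X1689
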