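import Cfsg.Agent.Lib.Helper9.TCData.X1689.Main

set_option autoImplicit false
set_option maxRecDepth 1000000

namespace Cfsg.Agent.Helper9.TCData.X1689
open Cfsg.Agent.Helper9.TC2

theorem m2_550 : allRange 20900 38 (fun u => chkFix tab mwords u) = true := by decide +kernel

theorem m2_551 : allRange 20938 38 (fun u => chkFix tab mwords u) = true := by decide +kernel

theorem m2_552 : allRange 20976 38 (fun u => chkFix tab mwords u) = true := by decide +kernel

theorem m2_553 : allRange 21014 38 (fun u => chkFix tab mwords u) = true := by decide +kernel

theorem m2_554 : allRange 21052 38 (fun u => chkFix tab mwords u) = true := by decide +kernel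

theorem m2_555 : allRange 21090 38 (fun u => chkFix tab mwords u) = true := by decide +kernel

theorem m2_556 : allRange 21128 38 (fun u => chkFix tab mwords u) = true := by decide +kernel

theorem m2_557 : allRange 21166 38 (fun u => chkFix tab mwords u) = true := by decide +kernel


end Cfsg.Agent.Helper9.TCData.X1689
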