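import Cfsg.Agent.Lib.Helper9.TCData.X1689.Main

set_option autoImplicit false
set_option maxRecDepth 1000000

namespace Cfsg.Agent.Helper9.TCData.X1689
open Cfsg.Agent.Helper9.TC2

theorem m2_558 : allRange 21204 38 (fun u => chkFix tab mwords u) = true := by decide +kernel

theorem m2_559 : allRange 21242 38 (fun u => chkFix tab mwords u) = true := by decide +kernel

theorem m2_560 : allRange 21280 38 (fun u => chkFix tab mwords u) = true := by decide +kernel

theorem m2_561 : allRange 21318 38 (fun u => chkFix tab mwords u) = true := by decide +kernel

theorem m2_562 : allRange 21356 38 (fun u => chkFix tab mwords u) = true := by decide +kernel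

theorem m2_563 : allRange 21394 38 (fun u => chkFix tab mwords u) = true := by decide +kernel

theorem m2_564 : allRange 21432 38 (fun u => chkFix tab mwords u) = true := by decide +kernel

theorem m2_565 : allRange 21470 38 (fun u => chkFix tab mwords u) = true := by decide +kernel


end Cfsg.Agent.Helper9.TCData.X1689
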