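import Cfsg.Agent.Lib.Helper9.TCData.X1689.Main

set_option autoImplicit false
set_option maxRecDepth 1000000

namespace Cfsg.Agent.Helper9.TCData.X1689
open Cfsg.Agent.Helper9.TC2

theorem m2_582 : allRange 22116 38 (fun u => chkFix tab mwords u) = true := by decide +kernel

theorem m2_583 : allRange 22154 38 (fun u => chkFix tab mwords u) = true := by decide +kernel

theorem m2_584 : allRange 22192 38 (fun u => chkFix tab mwords u) = true := by decide +kernel

theorem m2_585 : allRange 22230 38 (fun u => chkFix tab mwords u) = true := by decide +kernel

theorem m2_586 : allRange 22268 38 (fun u => chkFix tab mwords u) = true := by decide +kernel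

theorem m2_587 : allRange 22306 38 (fun u => chkFix tab mwords u) = true := by decide +kernel

theorem m2_588 : allRange 22344 38 (fun u => chkFix tab mwords u) = true := by decide +kernel

theorem m2_589 : allRange 22382 38 (fun u => chkFix tab mwords u) = true := by decide +kernel


end Cfsg.Agent.Helper9.TCData.X1689
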