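import Cfsg.Agent.Lib.Helper9.TCData.X1689.Main

set_option autoImplicit false
set_option maxRecDepth 1000000

namespace Cfsg.Agent.Helper9.TCData.X1689
open Cfsg.Agent.Helper9.TC2

theorem m2_590 : allRange 22420 38 (fun u => chkFix tab mwords u) = true := by decide +kernel

theorem m2_591 : allRange 22458 38 (fun u => chkFix tab mwords u) = true := by decide +kernel

theorem m2_592 : allRange 22496 38 (fun u => chkFix tab mwords u) = true := by decide +kernel

theorem m2_593 : allRange 22534 38 (fun u => chkFix tab mwords u) = true := by decide +kernel

theorem m2_594 : allRange 22572 38 (fun u => chkFix tab mwords u) = true := by decide +kernel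

theorem m2_595 : allRange 22610 38 (fun u => chkFix tab mwords u) = true := by decide +kernel

theorem m2_596 : allRange 22648 38 (fun u => chkFix tab mwords u) = true := by decide +kernel

theorem m2_597 : allRange 22686 38 (fun u => chkFix tab mwords u) = true := by decide +kernel


end Cfsg.Agent.Helper9.TCData.X1689
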