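import Cfsg.Agent.Lib.Helper9.TCData.X1689.Main

set_option autoImplicit false
set_option maxRecDepth 1000000

namespace Cfsg.Agent.Helper9.TCData.X1689
open Cfsg.Agent.Helper9.TC2

theorem m2_606 : allRange 23028 38 (fun u => chkFix tab mwords u) = true := by decide +kernel

theorem m2_607 : allRange 23066 38 (fun u => chkFix tab mwords u) = true := by decide +kernel

theorem m2_608 : allRange 23104 38 (fun u => chkFix tab mwords u) = true := by decide +kernel

theorem m2_609 : allRange 23142 38 (fun u => chkFix tab mwords u) = true := by decide +kernel

theorem m2_610 : allRange 23180 38 (fun u => chkFix tab mwords u) = true := by decide +kernel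

theorem m2_611 : allRange 23218 38 (fun u => chkFix tab mwords u) = true := by decide +kernel

theorem m2_612 : allRange 23256 38 (fun u => chkFix tab mwords u) = true := by decide +kernel

theorem m2_613 : allRange 23294 38 (fun u => chkFix tab mwords u) = true := by decide +kernel


end Cfsg.Agent.Helper9.TCData.X1689
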