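import Cfsg.Agent.Lib.Helper9.TCData.X1689.Main

set_option autoImplicit false
set_option maxRecDepth 1000000

namespace Cfsg.Agent.Helper9.TCData.X1689
open Cfsg.Agent.Helper9.TC2

theorem m2_622 : allRange 23636 38 (fun u => chkFix tab mwords u) = true := by decide +kernel

theorem m2_623 : allRange 23674 38 (fun u => chkFix tab mwords u) = true := by decide +kernel

theorem m2_624 : allRange 23712 38 (fun u => chkFix tab mwords u) = true := by decide +kernel

theorem m2_625 : allRange 23750 38 (fun u => chkFix tab mwords u) = true := by decide +kernel

theorem m2_626 : allRange 23788 38 (fun u => chkFix tab mwords u) = true := by decide +kernel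

theorem m2_627 : allRange 23826 38 (fun u => chkFix tab mwords u) = true := by decide +kernel

theorem m2_628 : allRange 23864 38 (fun u => chkFix tab mwords u) = true := by decide +kernel

theorem m2_629 : allRange 23902 38 (fun u => chkFix tab mwords u) = true := by decide +kernel


end Cfsg.Agent.Helper9.TCData.X1689
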