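import Cfsg.Agent.Lib.Helper9.TCData.X1689.Main

set_option autoImplicit false
set_option maxRecDepth 1000000

namespace Cfsg.Agent.Helper9.TCData.X1689
open Cfsg.Agent.Helper9.TC2

theorem m2_638 : allRange 24244 38 (fun u => chkFix tab mwords u) = true := by decide +kernel

theorem m2_639 : allRange 24282 38 (fun u => chkFix tab mwords u) = true := by decide +kernel

theorem m2_640 : allRange 24320 38 (fun u => chkFix tab mwords u) = true := by decide +kernel

theorem m2_641 : allRange 24358 38 (fun u => chkFix tab mwords u) = true := by decide +kernel

theorem m2_642 : allRange 24396 38 (fun u => chkFix tab mwords u) = true := by decide +kernel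

theorem m2_643 : allRange 24434 38 (fun u => chkFix tab mwords u) = true := by decide +kernel

theorem m2_644 : allRange 24472 38 (fun u => chkFix tab mwords u) = true := by decide +kernel

theorem m2_645 : allRange 24510 38 (fun u => chkFix tab mwords u) = true := by decide +kernel


end Cfsg.Agent.Helper9.TCData.X1689
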