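import Cfsg.Agent.Lib.Helper9.TCData.X1689.Main

set_option autoImplicit false
set_option maxRecDepth 1000000

namespace Cfsg.Agent.Helper9.TCData.X1689
open Cfsg.Agent.Helper9.TC2

theorem m2_654 : allRange 24852 38 (fun u => chkFix tab mwords u) = true := by decide +kernel

theorem m2_655 : allRange 24890 38 (fun u => chkFix tab mwords u) = true := by decide +kernel

theorem m2_656 : allRange 24928 38 (fun u => chkFix tab mwords u) = true := by decide +kernel

theorem m2_657 : allRange 24966 38 (fun u => chkFix tab mwords u) = true := by decide +kernel

theorem m2_658 : allRange 25004 38 (fun u => chkFix tab mwords u) = true := by decide +kernel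

theorem m2_659 : allRange 25042 38 (fun u => chkFix tab mwords u) = true := by decide +kernel

theorem m2_660 : allRange 25080 38 (fun u => chkFix tab mwords u) = true := by decide +kernel

theorem m2_661 : allRange 25118 38 (fun u => chkFix tab mwords u) = true := by decide +kernel


end Cfsg.Agent.Helper9.TCData.X1689
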