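import Cfsg.Agent.Lib.Helper9.TCData.X1689.Main

set_option autoImplicit false
set_option maxRecDepth 1000000

namespace Cfsg.Agent.Helper9.TCData.X1689
open Cfsg.Agent.Helper9.TC2

theorem m2_694 : allRange 26372 38 (fun u => chkFix tab mwords u) = true := by decide +kernel

theorem m2_695 : allRange 26410 38 (fun u => chkFix tab mwords u) = true := by decide +kernel

theorem m2_696 : allRange 26448 38 (fun u => chkFix tab mwords u) = true := by decide +kernel

theorem m2_697 : allRange 26486 38 (fun u => chkFix tab mwords u) = true := by decide +kernel

theorem m2_698 : allRange 26524 38 (fun u => chkFix tab mwords u) = true := by decide +kernel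

theorem m2_699 : allRange 26562 38 (fun u => chkFix tab mwords u) = true := by decide +kernel

theorem m2_700 : allRange 26600 38 (fun u => chkFix tab mwords u) = true := by decide +kernel

theorem m2_701 : allRange 26638 38 (fun u => chkFix tab mwords u) = true := by decide +kernel


end Cfsg.Agent.Helper9.TCData.X1689
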