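import Cfsg.Agent.Lib.Helper9.TCData.X1689.Main

set_option autoImplicit false
set_option maxRecDepth 1000000

namespace Cfsg.Agent.Helper9.TCData.X1689
open Cfsg.Agent.Helper9.TC2

theorem m2_702 : allRange 26676 38 (fun u => chkFix tab mwords u) = true := by decide +kernel

theorem m2_703 : allRange 26714 38 (fun u => chkFix tab mwords u) = true := by decide +kernel

theorem m2_704 : allRange 26752 38 (fun u => chkFix tab mwords u) = true := by decide +kernel

theorem m2_705 : allRange 26790 38 (fun u => chkFix tab mwords u) = true := by decide +kernel

theorem m2_706 : allRange 26828 38 (fun u => chkFix tab mwords u) = true := by decide +kernel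

theorem m2_707 : allRange 26866 38 (fun u => chkFix tab mwords u) = true := by decide +kernel

theorem m2_708 : allRange 26904 38 (fun u => chkFix tab mwords u) = true := by decide +kernel

theorem m2_709 : allRange 26942 38 (fun u => chkFix tab mwords u) = true := by decide +kernel


end Cfsg.Agent.Helper9.TCData.X1689
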