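import Cfsg.Agent.Lib.Helper9.TCData.X1689.Main

set_option autoImplicit false
set_option maxRecDepth 1000000

namespace Cfsg.Agent.Helper9.TCData.X1689
open Cfsg.Agent.Helper9.TC2

theorem m2_710 : allRange 26980 38 (fun u => chkFix tab mwords u) = true := by decide +kernel

theorem m2_711 : allRange 27018 38 (fun u => chkFix tab mwords u) = true := by decide +kernel

theorem m2_712 : allRange 27056 38 (fun u => chkFix tab mwords u) = true := by decide +kernel

theorem m2_713 : allRange 27094 38 (fun u => chkFix tab mwords u) = true := by decide +kernel

theorem m2_714 : allRange 27132 38 (fun u => chkFix tab mwords u) = true := by decide +kernel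

theorem m2_715 : allRange 27170 38 (fun u => chkFix tab mwords u) = true := by decide +kernel

theorem m2_716 : allRange 27208 38 (fun u => chkFix tab mwords u) = true := by decide +kernel

theorem m2_717 : allRange 27246 38 (fun u => chkFix tab mwords u) = true := by decide +kernel


end Cfsg.Agent.Helper9.TCData.X1689
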