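import Cfsg.Agent.Lib.Helper9.TCData.X1689.Main

set_option autoImplicit false
set_option maxRecDepth 1000000

namespace Cfsg.Agent.Helper9.TCData.X1689
open Cfsg.Agent.Helper9.TC2

theorem m2_718 : allRange 27284 38 (fun u => chkFix tab mwords u) = true := by decide +kernel

theorem m2_719 : allRange 27322 38 (fun u => chkFix tab mwords u) = true := by decide +kernel

theorem m2_720 : allRange 27360 38 (fun u => chkFix tab mwords u) = true := by decide +kernel

theorem m2_721 : allRange 27398 38 (fun u => chkFix tab mwords u) = true := by decide +kernel

theorem m2_722 : allRange 27436 38 (fun u => chkFix tab mwords u) = true := by decide +kernel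

theorem m2_723 : allRange 27474 38 (fun u => chkFix tab mwords u) = true := by decide +kernel

theorem m2_724 : allRange 27512 38 (fun u => chkFix tab mwords u) = true := by decide +kernel

theorem m2_725 : allRange 27550 38 (fun u => chkFix tab mwords u) = true := by decide +kernel


end Cfsg.Agent.Helper9.TCData.X1689
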