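import Cfsg.Agent.Lib.Helper9.TCData.X1689.Main

set_option autoImplicit false
set_option maxRecDepth 1000000

namespace Cfsg.Agent.Helper9.TCData.X1689
open Cfsg.Agent.Helper9.TC2

theorem e4_18 : allRange 48206 2466 (fun u => chkE tab 4 u) = true := by decide +kernel

theorem e4_19 : allRange 50672 2698 (fun u => chkE tab 4 u) = true := by decide +kernel

theorem e4_20 : allRange 53370 2785 (fun u => chkE tab 4 u) = true := by decide +kernel

theorem e4_21 : allRange 56155 3402 (fun u => chkE tab 4 u) = true := by decide +kernel

theorem e4_22 : allRange 59557 3429 (fun u => chkE tab 4 u) = true := by decide +kernel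

theorem e4_23 : allRange 62986 1495 (fun u => chkE tab 4 u) = true := by decide +kernel

theorem e5_0 : allRange 0 2300 (fun u => chkE tab 5 u) = true := by decide +kernel

theorem e5_1 : allRange 2300 2302 (fun u => chkE tab 5 u) = true := by decide +kernel


end Cfsg.Agent.Helper9.TCData.X1689
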