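import Cfsg.Agent.Lib.Helper9.TCData.X1689.Main

set_option autoImplicit false
set_option maxRecDepth 1000000

namespace Cfsg.Agent.Helper9.TCData.X1689
open Cfsg.Agent.Helper9.TC2

theorem m2_726 : allRange 27588 38 (fun u => chkFix tab mwords u) = true := by decide +kernel

theorem m2_727 : allRange 27626 38 (fun u => chkFix tab mwords u) = true := by decide +kernel

theorem m2_728 : allRange 27664 38 (fun u => chkFix tab mwords u) = true := by decide +kernel

theorem m2_729 : allRange 27702 38 (fun u => chkFix tab mwords u) = true := by decide +kernel

theorem m2_730 : allRange 27740 38 (fun u => chkFix tab mwords u) = true := by decide +kernel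

theorem m2_731 : allRange 27778 38 (fun u => chkFix tab mwords u) = true := by decide +kernel

theorem m2_732 : allRange 27816 38 (fun u => chkFix tab mwords u) = true := by decide +kernel

theorem m2_733 : allRange 27854 38 (fun u => chkFix tab mwords u) = true := by decide +kernel


end Cfsg.Agent.Helper9.TCData.X1689
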