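import Cfsg.Agent.Lib.Helper9.TCData.X1689.Main

set_option autoImplicit false
set_option maxRecDepth 1000000

namespace Cfsg.Agent.Helper9.TCData.X1689
open Cfsg.Agent.Helper9.TC2

theorem m2_734 : allRange 27892 38 (fun u => chkFix tab mwords u) = true := by decide +kernel

theorem m2_735 : allRange 27930 38 (fun u => chkFix tab mwords u) = true := by decide +kernel

theorem m2_736 : allRange 27968 38 (fun u => chkFix tab mwords u) = true := by decide +kernel

theorem m2_737 : allRange 28006 38 (fun u => chkFix tab mwords u) = true := by decide +kernel

theorem m2_738 : allRange 28044 38 (fun u => chkFix tab mwords u) = true := by decide +kernel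

theorem m2_739 : allRange 28082 38 (fun u => chkFix tab mwords u) = true := by decide +kernel

theorem m2_740 : allRange 28120 38 (fun u => chkFix tab mwords u) = true := by decide +kernel

theorem m2_741 : allRange 28158 38 (fun u => chkFix tab mwords u) = true := by decide +kernel


end Cfsg.Agent.Helper9.TCData.X1689
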