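import Cfsg.Agent.Lib.Helper9.TCData.X1689.Main

set_option autoImplicit false
set_option maxRecDepth 1000000

namespace Cfsg.Agent.Helper9.TCData.X1689
open Cfsg.Agent.Helper9.TC2

theorem m2_742 : allRange 28196 38 (fun u => chkFix tab mwords u) = true := by decide +kernel

theorem m2_743 : allRange 28234 38 (fun u => chkFix tab mwords u) = true := by decide +kernel

theorem m2_744 : allRange 28272 38 (fun u => chkFix tab mwords u) = true := by decide +kernel

theorem m2_745 : allRange 28310 38 (fun u => chkFix tab mwords u) = true := by decide +kernel

theorem m2_746 : allRange 28348 38 (fun u => chkFix tab mwords u) = true := by decide +kernel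

theorem m2_747 : allRange 28386 38 (fun u => chkFix tab mwords u) = true := by decide +kernel

theorem m2_748 : allRange 28424 38 (fun u => chkFix tab mwords u) = true := by decide +kernel

theorem m2_749 : allRange 28462 38 (fun u => chkFix tab mwords u) = true := by decide +kernel


end Cfsg.Agent.Helper9.TCData.X1689
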