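import Cfsg.Agent.Lib.Helper9.TCData.X1689.Main

set_option autoImplicit false
set_option maxRecDepth 1000000

namespace Cfsg.Agent.Helper9.TCData.X1689
open Cfsg.Agent.Helper9.TC2

theorem m2_750 : allRange 28500 38 (fun u => chkFix tab mwords u) = true := by decide +kernel

theorem m2_751 : allRange 28538 38 (fun u => chkFix tab mwords u) = true := by decide +kernel

theorem m2_752 : allRange 28576 38 (fun u => chkFix tab mwords u) = true := by decide +kernel

theorem m2_753 : allRange 28614 38 (fun u => chkFix tab mwords u) = true := by decide +kernel

theorem m2_754 : allRange 28652 38 (fun u => chkFix tab mwords u) = true := by decide +kernel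

theorem m2_755 : allRange 28690 38 (fun u => chkFix tab mwords u) = true := by decide +kernel

theorem m2_756 : allRange 28728 38 (fun u => chkFix tab mwords u) = true := by decide +kernel

theorem m2_757 : allRange 28766 38 (fun u => chkFix tab mwords u) = true := by decide +kernel


end Cfsg.Agent.Helper9.TCData.X1689
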