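import Cfsg.Agent.Lib.Helper9.TCData.X1689.Main

set_option autoImplicit false
set_option maxRecDepth 1000000

namespace Cfsg.Agent.Helper9.TCData.X1689
open Cfsg.Agent.Helper9.TC2

theorem m2_774 : allRange 29412 38 (fun u => chkFix tab mwords u) = true := by decide +kernel

theorem m2_775 : allRange 29450 38 (fun u => chkFix tab mwords u) = true := by decide +kernel

theorem m2_776 : allRange 29488 38 (fun u => chkFix tab mwords u) = true := by decide +kernel

theorem m2_777 : allRange 29526 38 (fun u => chkFix tab mwords u) = true := by decide +kernel

theorem m2_778 : allRange 29564 38 (fun u => chkFix tab mwords u) = true := by decide +kernel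

theorem m2_779 : allRange 29602 38 (fun u => chkFix tab mwords u) = true := by decide +kernel

theorem m2_780 : allRange 29640 38 (fun u => chkFix tab mwords u) = true := by decide +kernel

theorem m2_781 : allRange 29678 38 (fun u => chkFix tab mwords u) = true := by decide +kernel


end Cfsg.Agent.Helper9.TCData.X1689
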