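import Cfsg.Agent.Lib.Helper9.TCData.X1689.Main

set_option autoImplicit false
set_option maxRecDepth 1000000

namespace Cfsg.Agent.Helper9.TCData.X1689
open Cfsg.Agent.Helper9.TC2

theorem m2_782 : allRange 29716 38 (fun u => chkFix tab mwords u) = true := by decide +kernel

theorem m2_783 : allRange 29754 38 (fun u => chkFix tab mwords u) = true := by decide +kernel

theorem m2_784 : allRange 29792 38 (fun u => chkFix tab mwords u) = true := by decide +kernel

theorem m2_785 : allRange 29830 38 (fun u => chkFix tab mwords u) = true := by decide +kernel

theorem m2_786 : allRange 29868 38 (fun u => chkFix tab mwords u) = true := by decide +kernel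

theorem m2_787 : allRange 29906 38 (fun u => chkFix tab mwords u) = true := by decide +kernel

theorem m2_788 : allRange 29944 38 (fun u => chkFix tab mwords u) = true := by decide +kernel

theorem m2_789 : allRange 29982 38 (fun u => chkFix tab mwords u) = true := by decide +kernel


end Cfsg.Agent.Helper9.TCData.X1689
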