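import Cfsg.Agent.Lib.Helper9.TCData.X1689.Main

set_option autoImplicit false
set_option maxRecDepth 1000000

namespace Cfsg.Agent.Helper9.TCData.X1689
open Cfsg.Agent.Helper9.TC2

theorem m2_790 : allRange 30020 38 (fun u => chkFix tab mwords u) = true := by decide +kernel

theorem m2_791 : allRange 30058 38 (fun u => chkFix tab mwords u) = true := by decide +kernel

theorem m2_792 : allRange 30096 38 (fun u => chkFix tab mwords u) = true := by decide +kernel

theorem m2_793 : allRange 30134 38 (fun u => chkFix tab mwords u) = true := by decide +kernel

theorem m2_794 : allRange 30172 38 (fun u => chkFix tab mwords u) = true := by decide +kernel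

theorem m2_795 : allRange 30210 38 (fun u => chkFix tab mwords u) = true := by decide +kernel

theorem m2_796 : allRange 30248 38 (fun u => chkFix tab mwords u) = true := by decide +kernel

theorem m2_797 : allRange 30286 38 (fun u => chkFix tab mwords u) = true := by decide +kernel


end Cfsg.Agent.Helper9.TCData.X1689
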