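import Cfsg.Agent.Lib.Helper9.TCData.X1689.Main

set_option autoImplicit false
set_option maxRecDepth 1000000

namespace Cfsg.Agent.Helper9.TCData.X1689
open Cfsg.Agent.Helper9.TC2

theorem m2_798 : allRange 30324 38 (fun u => chkFix tab mwords u) = true := by decide +kernel

theorem m2_799 : allRange 30362 38 (fun u => chkFix tab mwords u) = true := by decide +kernel

theorem m2_800 : allRange 30400 38 (fun u => chkFix tab mwords u) = true := by decide +kernel

theorem m2_801 : allRange 30438 38 (fun u => chkFix tab mwords u) = true := by decide +kernel

theorem m2_802 : allRange 30476 38 (fun u => chkFix tab mwords u) = true := by decide +kernel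

theorem m2_803 : allRange 30514 38 (fun u => chkFix tab mwords u) = true := by decide +kernel

theorem m2_804 : allRange 30552 38 (fun u => chkFix tab mwords u) = true := by decide +kernel

theorem m2_805 : allRange 30590 38 (fun u => chkFix tab mwords u) = true := by decide +kernel


end Cfsg.Agent.Helper9.TCData.X1689
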