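import Cfsg.Agent.Lib.Helper9.TCData.X1689.Main

set_option autoImplicit false
set_option maxRecDepth 1000000

namespace Cfsg.Agent.Helper9.TCData.X1689
open Cfsg.Agent.Helper9.TC2

theorem m2_806 : allRange 30628 38 (fun u => chkFix tab mwords u) = true := by decide +kernel

theorem m2_807 : allRange 30666 38 (fun u => chkFix tab mwords u) = true := by decide +kernel

theorem m2_808 : allRange 30704 38 (fun u => chkFix tab mwords u) = true := by decide +kernel

theorem m2_809 : allRange 30742 38 (fun u => chkFix tab mwords u) = true := by decide +kernel

theorem m2_810 : allRange 30780 38 (fun u => chkFix tab mwords u) = true := by decide +kernel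

theorem m2_811 : allRange 30818 38 (fun u => chkFix tab mwords u) = true := by decide +kernel

theorem m2_812 : allRange 30856 38 (fun u => chkFix tab mwords u) = true := by decide +kernel

theorem m2_813 : allRange 30894 38 (fun u => chkFix tab mwords u) = true := by decide +kernel


end Cfsg.Agent.Helper9.TCData.X1689
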