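import Cfsg.Agent.Lib.Helper9.TCData.X1689.Main

set_option autoImplicit false
set_option maxRecDepth 1000000

namespace Cfsg.Agent.Helper9.TCData.X1689
open Cfsg.Agent.Helper9.TC2

theorem m2_822 : allRange 31236 38 (fun u => chkFix tab mwords u) = true := by decide +kernel

theorem m2_823 : allRange 31274 38 (fun u => chkFix tab mwords u) = true := by decide +kernel

theorem m2_824 : allRange 31312 38 (fun u => chkFix tab mwords u) = true := by decide +kernel

theorem m2_825 : allRange 31350 38 (fun u => chkFix tab mwords u) = true := by decide +kernel

theorem m2_826 : allRange 31388 38 (fun u => chkFix tab mwords u) = true := by decide +kernel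

theorem m2_827 : allRange 31426 38 (fun u => chkFix tab mwords u) = true := by decide +kernel

theorem m2_828 : allRange 31464 38 (fun u => chkFix tab mwords u) = true := by decide +kernel

theorem m2_829 : allRange 31502 38 (fun u => chkFix tab mwords u) = true := by decide +kernel


end Cfsg.Agent.Helper9.TCData.X1689
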