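import Cfsg.Agent.Lib.Helper9.TCData.X1689.Main

set_option autoImplicit false
set_option maxRecDepth 1000000

namespace Cfsg.Agent.Helper9.TCData.X1689
open Cfsg.Agent.Helper9.TC2

theorem m2_830 : allRange 31540 38 (fun u => chkFix tab mwords u) = true := by decide +kernel

theorem m2_831 : allRange 31578 38 (fun u => chkFix tab mwords u) = true := by decide +kernel

theorem m2_832 : allRange 31616 38 (fun u => chkFix tab mwords u) = true := by decide +kernel

theorem m2_833 : allRange 31654 17 (fun u => chkFix tab mwords u) = true := by decide +kernel


end Cfsg.Agent.Helper9.TCData.X1689
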