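import Cfsg.Agent.Lib.Helper9.TCData.X1689.Main

set_option autoImplicit false
set_option maxRecDepth 1000000

namespace Cfsg.Agent.Helper9.TCData.X1689
open Cfsg.Agent.Helper9.TC2

theorem o1_8 : allRange 2736 342 (fun u => chkO1 tab orb u) = true := by decide +kernel

theorem o1_9 : allRange 3078 342 (fun u => chkO1 tab orb u) = true := by decide +kernel

theorem o1_10 : allRange 3420 342 (fun u => chkO1 tab orb u) = true := by decide +kernel

theorem o1_11 : allRange 3762 342 (fun u => chkO1 tab orb u) = true := by decide +kernel

theorem o1_12 : allRange 4104 342 (fun u => chkO1 tab orb u) = true := by decide +kernel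

theorem o1_13 : allRange 4446 342 (fun u => chkO1 tab orb u) = true := by decide +kernel

theorem o1_14 : allRange 4788 342 (fun u => chkO1 tab orb u) = true := by decide +kernel

theorem o1_15 : allRange 5130 342 (fun u => chkO1 tab orb u) = true := by decide +kernel


end Cfsg.Agent.Helper9.TCData.X1689
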