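import Cfsg.Agent.Lib.Helper9.TCData.X1689.Main

set_option autoImplicit false
set_option maxRecDepth 1000000

namespace Cfsg.Agent.Helper9.TCData.X1689
open Cfsg.Agent.Helper9.TC2

theorem e5_10 : allRange 21932 2104 (fun u => chkE tab 5 u) = true := by decide +kernel

theorem e5_11 : allRange 24036 2145 (fun u => chkE tab 5 u) = true := by decide +kernel

theorem e5_12 : allRange 26181 2167 (fun u => chkE tab 5 u) = true := by decide +kernel

theorem e5_13 : allRange 28348 2274 (fun u => chkE tab 5 u) = true := by decide +kernel

theorem e5_14 : allRange 30622 3093 (fun u => chkE tab 5 u) = true := by decide +kernel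

theorem e5_15 : allRange 33715 5100 (fun u => chkE tab 5 u) = true := by decide +kernel

theorem e5_16 : allRange 38815 4263 (fun u => chkE tab 5 u) = true := by decide +kernel

theorem e5_17 : allRange 43078 3669 (fun u => chkE tab 5 u) = true := by decide +kernel


end Cfsg.Agent.Helper9.TCData.X1689
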