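import Cfsg.Agent.Lib.Helper9.TCData.X1689.Main

set_option autoImplicit false
set_option maxRecDepth 1000000

namespace Cfsg.Agent.Helper9.TCData.X1689
open Cfsg.Agent.Helper9.TC2

theorem o1_72 : allRange 24624 342 (fun u => chkO1 tab orb u) = true := by decide +kernel

theorem o1_73 : allRange 24966 342 (fun u => chkO1 tab orb u) = true := by decide +kernel

theorem o1_74 : allRange 25308 342 (fun u => chkO1 tab orb u) = true := by decide +kernel

theorem o1_75 : allRange 25650 342 (fun u => chkO1 tab orb u) = true := by decide +kernel

theorem o1_76 : allRange 25992 342 (fun u => chkO1 tab orb u) = true := by decide +kernel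

theorem o1_77 : allRange 26334 342 (fun u => chkO1 tab orb u) = true := by decide +kernel

theorem o1_78 : allRange 26676 342 (fun u => chkO1 tab orb u) = true := by decide +kernel

theorem o1_79 : allRange 27018 342 (fun u => chkO1 tab orb u) = true := by decide +kernel


end Cfsg.Agent.Helper9.TCData.X1689
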