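import Cfsg.Agent.Lib.Helper9.TCData.X1689.Main

set_option autoImplicit false
set_option maxRecDepth 1000000

namespace Cfsg.Agent.Helper9.TCData.X1689
open Cfsg.Agent.Helper9.TC2

theorem o1_80 : allRange 27360 342 (fun u => chkO1 tab orb u) = true := by decide +kernel

theorem o1_81 : allRange 27702 342 (fun u => chkO1 tab orb u) = true := by decide +kernel

theorem o1_82 : allRange 28044 342 (fun u => chkO1 tab orb u) = true := by decide +kernel

theorem o1_83 : allRange 28386 342 (fun u => chkO1 tab orb u) = true := by decide +kernel

theorem o1_84 : allRange 28728 342 (fun u => chkO1 tab orb u) = true := by decide +kernel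

theorem o1_85 : allRange 29070 342 (fun u => chkO1 tab orb u) = true := by decide +kernel

theorem o1_86 : allRange 29412 342 (fun u => chkO1 tab orb u) = true := by decide +kernel

theorem o1_87 : allRange 29754 342 (fun u => chkO1 tab orb u) = true := by decide +kernel


end Cfsg.Agent.Helper9.TCData.X1689
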