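import Cfsg.Agent.Lib.Helper9.TCData.X1689.Main

set_option autoImplicit false
set_option maxRecDepth 1000000

namespace Cfsg.Agent.Helper9.TCData.X1689
open Cfsg.Agent.Helper9.TC2

theorem e5_18 : allRange 46747 2396 (fun u => chkE tab 5 u) = true := by decide +kernel

theorem e5_19 : allRange 49143 2508 (fun u => chkE tab 5 u) = true := by decide +kernel

theorem e5_20 : allRange 51651 2421 (fun u => chkE tab 5 u) = true := by decide +kernel

theorem e5_21 : allRange 54072 2375 (fun u => chkE tab 5 u) = true := by decide +kernel

theorem e5_22 : allRange 56447 2506 (fun u => chkE tab 5 u) = true := by decide +kernel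

theorem e5_23 : allRange 58953 2718 (fun u => chkE tab 5 u) = true := by decide +kernel

theorem e5_24 : allRange 61671 2810 (fun u => chkE tab 5 u) = true := by decide +kernel

theorem e6_0 : allRange 0 2107 (fun u => chkE tab 6 u) = true := by decide +kernel


end Cfsg.Agent.Helper9.TCData.X1689
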