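import Cfsg.Agent.Lib.Helper9.TCData.X1689.Main

set_option autoImplicit false
set_option maxRecDepth 1000000

namespace Cfsg.Agent.Helper9.TCData.X1689
open Cfsg.Agent.Helper9.TC2

theorem e6_1 : allRange 2107 2265 (fun u => chkE tab 6 u) = true := by decide +kernel

theorem e6_2 : allRange 4372 2239 (fun u => chkE tab 6 u) = true := by decide +kernel

theorem e6_3 : allRange 6611 2195 (fun u => chkE tab 6 u) = true := by decide +kernel

theorem e6_4 : allRange 8806 2191 (fun u => chkE tab 6 u) = true := by decide +kernel

theorem e6_5 : allRange 10997 2161 (fun u => chkE tab 6 u) = true := by decide +kernel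

theorem e6_6 : allRange 13158 2139 (fun u => chkE tab 6 u) = true := by decide +kernel

theorem e6_7 : allRange 15297 2209 (fun u => chkE tab 6 u) = true := by decide +kernel

theorem e6_8 : allRange 17506 2078 (fun u => chkE tab 6 u) = true := by decide +kernel


end Cfsg.Agent.Helper9.TCData.X1689
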