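import Cfsg.Agent.Lib.Helper9.TCData.X1689.Main

set_option autoImplicit false
set_option maxRecDepth 1000000

namespace Cfsg.Agent.Helper9.TCData.X1689
open Cfsg.Agent.Helper9.TC2

theorem e6_9 : allRange 19584 2192 (fun u => chkE tab 6 u) = true := by decide +kernel

theorem e6_10 : allRange 21776 2116 (fun u => chkE tab 6 u) = true := by decide +kernel

theorem e6_11 : allRange 23892 2171 (fun u => chkE tab 6 u) = true := by decide +kernel

theorem e6_12 : allRange 26063 2129 (fun u => chkE tab 6 u) = true := by decide +kernel

theorem e6_13 : allRange 28192 2254 (fun u => chkE tab 6 u) = true := by decide +kernel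

theorem e6_14 : allRange 30446 2734 (fun u => chkE tab 6 u) = true := by decide +kernel

theorem e6_15 : allRange 33180 5527 (fun u => chkE tab 6 u) = true := by decide +kernel

theorem e6_16 : allRange 38707 4331 (fun u => chkE tab 6 u) = true := by decide +kernel


end Cfsg.Agent.Helper9.TCData.X1689
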