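import Cfsg.Agent.Lib.Helper9.TCData.X1689.Main

set_option autoImplicit false
set_option maxRecDepth 1000000

namespace Cfsg.Agent.Helper9.TCData.X1689
open Cfsg.Agent.Helper9.TC2

theorem e7_15 : allRange 32309 5620 (fun u => chkE tab 7 u) = true := by decide +kernel

theorem e7_16 : allRange 37929 4673 (fun u => chkE tab 7 u) = true := by decide +kernel

theorem e7_17 : allRange 42602 3226 (fun u => chkE tab 7 u) = true := by decide +kernel

theorem e7_18 : allRange 45828 2617 (fun u => chkE tab 7 u) = true := by decide +kernel

theorem e7_19 : allRange 48445 2368 (fun u => chkE tab 7 u) = true := by decide +kernel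

theorem e7_20 : allRange 50813 2599 (fun u => chkE tab 7 u) = true := by decide +kernel

theorem e7_21 : allRange 53412 2483 (fun u => chkE tab 7 u) = true := by decide +kernel

theorem e7_22 : allRange 55895 2512 (fun u => chkE tab 7 u) = true := by decide +kernel


end Cfsg.Agent.Helper9.TCData.X1689
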