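import Cfsg.Agent.Lib.Helper9.TCData.X1689.Main

set_option autoImplicit false
set_option maxRecDepth 1000000

namespace Cfsg.Agent.Helper9.TCData.X1689
open Cfsg.Agent.Helper9.TC2

theorem e9_8 : allRange 24596 3444 (fun u => chkE tab 9 u) = true := by decide +kernel

theorem e9_9 : allRange 28040 3849 (fun u => chkE tab 9 u) = true := by decide +kernel

theorem e9_10 : allRange 31889 4849 (fun u => chkE tab 9 u) = true := by decide +kernel

theorem e9_11 : allRange 36738 5426 (fun u => chkE tab 9 u) = true := by decide +kernel

theorem e9_12 : allRange 42164 5267 (fun u => chkE tab 9 u) = true := by decide +kernel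

theorem e9_13 : allRange 47431 3262 (fun u => chkE tab 9 u) = true := by decide +kernel

theorem e9_14 : allRange 50693 2667 (fun u => chkE tab 9 u) = true := by decide +kernel

theorem e9_15 : allRange 53360 2545 (fun u => chkE tab 9 u) = true := by decide +kernel


end Cfsg.Agent.Helper9.TCData.X1689
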