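import Cfsg.Agent.Lib.Helper9.TCData.X1689.Main

set_option autoImplicit false
set_option maxRecDepth 1000000

namespace Cfsg.Agent.Helper9.TCData.X1689
open Cfsg.Agent.Helper9.TC2

theorem l_8 : allRange 22198 1685 (fun u => chkL tab u) = true := by decide +kernel

theorem l_9 : allRange 23883 1645 (fun u => chkL tab u) = true := by decide +kernel

theorem l_10 : allRange 25528 1600 (fun u => chkL tab u) = true := by decide +kernel

theorem l_11 : allRange 27128 1814 (fun u => chkL tab u) = true := by decide +kernel

theorem l_12 : allRange 28942 3079 (fun u => chkL tab u) = true := by decide +kernel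

theorem l_13 : allRange 32021 1733 (fun u => chkL tab u) = true := by decide +kernel

theorem l_14 : allRange 33754 1678 (fun u => chkL tab u) = true := by decide +kernel

theorem l_15 : allRange 35432 1583 (fun u => chkL tab u) = true := by decide +kernel


end Cfsg.Agent.Helper9.TCData.X1689
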