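import Cfsg.Agent.Lib.Helper9.TCData.X1689.Main

set_option autoImplicit false
set_option maxRecDepth 1000000

namespace Cfsg.Agent.Helper9.TCData.X1689
open Cfsg.Agent.Helper9.TC2

theorem e1_14 : allRange 28881 2104 (fun u => chkE tab 1 u) = true := by decide +kernel

theorem e1_15 : allRange 30985 4004 (fun u => chkE tab 1 u) = true := by decide +kernel

theorem e1_16 : allRange 34989 6142 (fun u => chkE tab 1 u) = true := by decide +kernel

theorem e1_17 : allRange 41131 3373 (fun u => chkE tab 1 u) = true := by decide +kernel

theorem e1_18 : allRange 44504 3022 (fun u => chkE tab 1 u) = true := by decide +kernel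

theorem e1_19 : allRange 47526 2356 (fun u => chkE tab 1 u) = true := by decide +kernel

theorem e1_20 : allRange 49882 2453 (fun u => chkE tab 1 u) = true := by decide +kernel

theorem e1_21 : allRange 52335 2544 (fun u => chkE tab 1 u) = true := by decide +kernel


end Cfsg.Agent.Helper9.TCData.X1689
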