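import Cfsg.Agent.Lib.Helper9.TCData.X1689.Main

set_option autoImplicit false
set_option maxRecDepth 1000000

namespace Cfsg.Agent.Helper9.TCData.X1689
open Cfsg.Agent.Helper9.TC2

theorem m1_32 : allRange 20480 640 (fun u => chkM1 tab u) = true := by decide +kernel

theorem m1_33 : allRange 21120 640 (fun u => chkM1 tab u) = true := by decide +kernel

theorem m1_34 : allRange 21760 640 (fun u => chkM1 tab u) = true := by decide +kernel

theorem m1_35 : allRange 22400 640 (fun u => chkM1 tab u) = true := by decide +kernel

theorem m1_36 : allRange 23040 640 (fun u => chkM1 tab u) = true := by decide +kernel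

theorem m1_37 : allRange 23680 640 (fun u => chkM1 tab u) = true := by decide +kernel

theorem m1_38 : allRange 24320 640 (fun u => chkM1 tab u) = true := by decide +kernel

theorem m1_39 : allRange 24960 640 (fun u => chkM1 tab u) = true := by decide +kernel


end Cfsg.Agent.Helper9.TCData.X1689
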