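import Cfsg.Agent.Lib.Helper9.TCData.X1689.Main

set_option autoImplicit false
set_option maxRecDepth 1000000

namespace Cfsg.Agent.Helper9.TCData.X1689
open Cfsg.Agent.Helper9.TC2

theorem m1_40 : allRange 25600 640 (fun u => chkM1 tab u) = true := by decide +kernel

theorem m1_41 : allRange 26240 640 (fun u => chkM1 tab u) = true := by decide +kernel

theorem m1_42 : allRange 26880 640 (fun u => chkM1 tab u) = true := by decide +kernel

theorem m1_43 : allRange 27520 640 (fun u => chkM1 tab u) = true := by decide +kernel

theorem m1_44 : allRange 28160 640 (fun u => chkM1 tab u) = true := by decide +kernel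

theorem m1_45 : allRange 28800 640 (fun u => chkM1 tab u) = true := by decide +kernel

theorem m1_46 : allRange 29440 640 (fun u => chkM1 tab u) = true := by decide +kernel

theorem m1_47 : allRange 30080 640 (fun u => chkM1 tab u) = true := by decide +kernel


end Cfsg.Agent.Helper9.TCData.X1689
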