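import Cfsg.Agent.Lib.Helper9.TCData.X1689.Main

set_option autoImplicit false
set_option maxRecDepth 1000000

namespace Cfsg.Agent.Helper9.TCData.X1689
open Cfsg.Agent.Helper9.TC2

theorem e1_22 : allRange 54879 2759 (fun u => chkE tab 1 u) = true := by decide +kernel

theorem e1_23 : allRange 57638 2905 (fun u => chkE tab 1 u) = true := by decide +kernel

theorem e1_24 : allRange 60543 2597 (fun u => chkE tab 1 u) = true := by decide +kernel

theorem e1_25 : allRange 63140 1341 (fun u => chkE tab 1 u) = true := by decide +kernel

theorem e2_0 : allRange 0 2057 (fun u => chkE tab 2 u) = true := by decide +kernel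

theorem e2_1 : allRange 2057 2057 (fun u => chkE tab 2 u) = true := by decide +kernel

theorem e2_2 : allRange 4114 2067 (fun u => chkE tab 2 u) = true := by decide +kernel

theorem e2_3 : allRange 6181 2095 (fun u => chkE tab 2 u) = true := by decide +kernel


end Cfsg.Agent.Helper9.TCData.X1689
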