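import Cfsg.Agent.Lib.Helper9.TCData.X1689.Main

set_option autoImplicit false
set_option maxRecDepth 1000000

namespace Cfsg.Agent.Helper9.TCData.X1689
open Cfsg.Agent.Helper9.TC2

theorem m2_46 : allRange 1748 38 (fun u => chkFix tab mwords u) = true := by decide +kernel

theorem m2_47 : allRange 1786 38 (fun u => chkFix tab mwords u) = true := by decide +kernel

theorem m2_48 : allRange 1824 38 (fun u => chkFix tab mwords u) = true := by decide +kernel

theorem m2_49 : allRange 1862 38 (fun u => chkFix tab mwords u) = true := by decide +kernel

theorem m2_50 : allRange 1900 38 (fun u => chkFix tab mwords u) = true := by decide +kernel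

theorem m2_51 : allRange 1938 38 (fun u => chkFix tab mwords u) = true := by decide +kernel

theorem m2_52 : allRange 1976 38 (fun u => chkFix tab mwords u) = true := by decide +kernel

theorem m2_53 : allRange 2014 38 (fun u => chkFix tab mwords u) = true := by decide +kernel


end Cfsg.Agent.Helper9.TCData.X1689
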