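import Cfsg.Agent.Lib.Helper9.TCData.X1689.Main

set_option autoImplicit false
set_option maxRecDepth 1000000

namespace Cfsg.Agent.Helper9.TCData.X1689
open Cfsg.Agent.Helper9.TC2

theorem e2_4 : allRange 8276 2106 (fun u => chkE tab 2 u) = true := by decide +kernel

theorem e2_5 : allRange 10382 2128 (fun u => chkE tab 2 u) = true := by decide +kernel

theorem e2_6 : allRange 12510 2114 (fun u => chkE tab 2 u) = true := by decide +kernel

theorem e2_7 : allRange 14624 2207 (fun u => chkE tab 2 u) = true := by decide +kernel

theorem e2_8 : allRange 16831 2127 (fun u => chkE tab 2 u) = true := by decide +kernel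

theorem e2_9 : allRange 18958 2098 (fun u => chkE tab 2 u) = true := by decide +kernel

theorem e2_10 : allRange 21056 2190 (fun u => chkE tab 2 u) = true := by decide +kernel

theorem e2_11 : allRange 23246 2206 (fun u => chkE tab 2 u) = true := by decide +kernel


end Cfsg.Agent.Helper9.TCData.X1689
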