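import Cfsg.Agent.Lib.Helper9.TCData.X1689.Main

set_option autoImplicit false
set_option maxRecDepth 1000000

namespace Cfsg.Agent.Helper9.TCData.X1689
open Cfsg.Agent.Helper9.TC2

theorem m2_86 : allRange 3268 38 (fun u => chkFix tab mwords u) = true := by decide +kernel

theorem m2_87 : allRange 3306 38 (fun u => chkFix tab mwords u) = true := by decide +kernel

theorem m2_88 : allRange 3344 38 (fun u => chkFix tab mwords u) = true := by decide +kernel

theorem m2_89 : allRange 3382 38 (fun u => chkFix tab mwords u) = true := by decide +kernel

theorem m2_90 : allRange 3420 38 (fun u => chkFix tab mwords u) = true := by decide +kernel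

theorem m2_91 : allRange 3458 38 (fun u => chkFix tab mwords u) = true := by decide +kernel

theorem m2_92 : allRange 3496 38 (fun u => chkFix tab mwords u) = true := by decide +kernel

theorem m2_93 : allRange 3534 38 (fun u => chkFix tab mwords u) = true := by decide +kernel


end Cfsg.Agent.Helper9.TCData.X1689
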