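import Cfsg.Agent.Lib.Helper9.TCData.X1689.Main

set_option autoImplicit false
set_option maxRecDepth 1000000

namespace Cfsg.Agent.Helper9.TCData.X1689
open Cfsg.Agent.Helper9.TC2

theorem m2_102 : allRange 3876 38 (fun u => chkFix tab mwords u) = true := by decide +kernel

theorem m2_103 : allRange 3914 38 (fun u => chkFix tab mwords u) = true := by decide +kernel

theorem m2_104 : allRange 3952 38 (fun u => chkFix tab mwords u) = true := by decide +kernel

theorem m2_105 : allRange 3990 38 (fun u => chkFix tab mwords u) = true := by decide +kernel

theorem m2_106 : allRange 4028 38 (fun u => chkFix tab mwords u) = true := by decide +kernel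

theorem m2_107 : allRange 4066 38 (fun u => chkFix tab mwords u) = true := by decide +kernel

theorem m2_108 : allRange 4104 38 (fun u => chkFix tab mwords u) = true := by decide +kernel

theorem m2_109 : allRange 4142 38 (fun u => chkFix tab mwords u) = true := by decide +kernel


end Cfsg.Agent.Helper9.TCData.X1689
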