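import Cfsg.Agent.Lib.Helper9.TCData.X1689.Main

set_option autoImplicit false
set_option maxRecDepth 1000000

namespace Cfsg.Agent.Helper9.TCData.X1689
open Cfsg.Agent.Helper9.TC2

theorem m2_150 : allRange 5700 38 (fun u => chkFix tab mwords u) = true := by decide +kernel

theorem m2_151 : allRange 5738 38 (fun u => chkFix tab mwords u) = true := by decide +kernel

theorem m2_152 : allRange 5776 38 (fun u => chkFix tab mwords u) = true := by decide +kernel

theorem m2_153 : allRange 5814 38 (fun u => chkFix tab mwords u) = true := by decide +kernel

theorem m2_154 : allRange 5852 38 (fun u => chkFix tab mwords u) = true := by decide +kernel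

theorem m2_155 : allRange 5890 38 (fun u => chkFix tab mwords u) = true := by decide +kernel

theorem m2_156 : allRange 5928 38 (fun u => chkFix tab mwords u) = true := by decide +kernel

theorem m2_157 : allRange 5966 38 (fun u => chkFix tab mwords u) = true := by decide +kernel


end Cfsg.Agent.Helper9.TCData.X1689
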