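import Cfsg.Agent.Lib.Helper9.TCData.X1689.Main

set_option autoImplicit false
set_option maxRecDepth 1000000

namespace Cfsg.Agent.Helper9.TCData.X1689
open Cfsg.Agent.Helper9.TC2

theorem m2_158 : allRange 6004 38 (fun u => chkFix tab mwords u) = true := by decide +kernel

theorem m2_159 : allRange 6042 38 (fun u => chkFix tab mwords u) = true := by decide +kernel

theorem m2_160 : allRange 6080 38 (fun u => chkFix tab mwords u) = true := by decide +kernel

theorem m2_161 : allRange 6118 38 (fun u => chkFix tab mwords u) = true := by decide +kernel

theorem m2_162 : allRange 6156 38 (fun u => chkFix tab mwords u) = true := by decide +kernel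

theorem m2_163 : allRange 6194 38 (fun u => chkFix tab mwords u) = true := by decide +kernel

theorem m2_164 : allRange 6232 38 (fun u => chkFix tab mwords u) = true := by decide +kernel

theorem m2_165 : allRange 6270 38 (fun u => chkFix tab mwords u) = true := by decide +kernel


end Cfsg.Agent.Helper9.TCData.X1689
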