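import Cfsg.Agent.Lib.Helper9.TCData.X1689.Main

set_option autoImplicit false
set_option maxRecDepth 1000000

namespace Cfsg.Agent.Helper9.TCData.X1689
open Cfsg.Agent.Helper9.TC2

theorem m2_174 : allRange 6612 38 (fun u => chkFix tab mwords u) = true := by decide +kernel

theorem m2_175 : allRange 6650 38 (fun u => chkFix tab mwords u) = true := by decide +kernel

theorem m2_176 : allRange 6688 38 (fun u => chkFix tab mwords u) = true := by decide +kernel

theorem m2_177 : allRange 6726 38 (fun u => chkFix tab mwords u) = true := by decide +kernel

theorem m2_178 : allRange 6764 38 (fun u => chkFix tab mwords u) = true := by decide +kernel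

theorem m2_179 : allRange 6802 38 (fun u => chkFix tab mwords u) = true := by decide +kernel

theorem m2_180 : allRange 6840 38 (fun u => chkFix tab mwords u) = true := by decide +kernel

theorem m2_181 : allRange 6878 38 (fun u => chkFix tab mwords u) = true := by decide +kernel


end Cfsg.Agent.Helper9.TCData.X1689
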