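import Cfsg.Agent.Lib.Helper9.TCData.X1689.Main

set_option autoImplicit false
set_option maxRecDepth 1000000

namespace Cfsg.Agent.Helper9.TCData.X1689
open Cfsg.Agent.Helper9.TC2

theorem m2_198 : allRange 7524 38 (fun u => chkFix tab mwords u) = true := by decide +kernel

theorem m2_199 : allRange 7562 38 (fun u => chkFix tab mwords u) = true := by decide +kernel

theorem m2_200 : allRange 7600 38 (fun u => chkFix tab mwords u) = true := by decide +kernel

theorem m2_201 : allRange 7638 38 (fun u => chkFix tab mwords u) = true := by decide +kernel

theorem m2_202 : allRange 7676 38 (fun u => chkFix tab mwords u) = true := by decide +kernel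

theorem m2_203 : allRange 7714 38 (fun u => chkFix tab mwords u) = true := by decide +kernel

theorem m2_204 : allRange 7752 38 (fun u => chkFix tab mwords u) = true := by decide +kernel

theorem m2_205 : allRange 7790 38 (fun u => chkFix tab mwords u) = true := by decide +kernel


end Cfsg.Agent.Helper9.TCData.X1689
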