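import Cfsg.Agent.Lib.Helper9.TCData.X1689.Main

set_option autoImplicit false
set_option maxRecDepth 1000000

namespace Cfsg.Agent.Helper9.TCData.X1689
open Cfsg.Agent.Helper9.TC2

theorem m2_206 : allRange 7828 38 (fun u => chkFix tab mwords u) = true := by decide +kernel

theorem m2_207 : allRange 7866 38 (fun u => chkFix tab mwords u) = true := by decide +kernel

theorem m2_208 : allRange 7904 38 (fun u => chkFix tab mwords u) = true := by decide +kernel

theorem m2_209 : allRange 7942 38 (fun u => chkFix tab mwords u) = true := by decide +kernel

theorem m2_210 : allRange 7980 38 (fun u => chkFix tab mwords u) = true := by decide +kernel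

theorem m2_211 : allRange 8018 38 (fun u => chkFix tab mwords u) = true := by decide +kernel

theorem m2_212 : allRange 8056 38 (fun u => chkFix tab mwords u) = true := by decide +kernel

theorem m2_213 : allRange 8094 38 (fun u => chkFix tab mwords u) = true := by decide +kernel


end Cfsg.Agent.Helper9.TCData.X1689
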