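import Cfsg.Agent.Lib.Helper9.TCData.X1689.Main

set_option autoImplicit false
set_option maxRecDepth 1000000

namespace Cfsg.Agent.Helper9.TCData.X1689
open Cfsg.Agent.Helper9.TC2

theorem m2_214 : allRange 8132 38 (fun u => chkFix tab mwords u) = true := by decide +kernel

theorem m2_215 : allRange 8170 38 (fun u => chkFix tab mwords u) = true := by decide +kernel

theorem m2_216 : allRange 8208 38 (fun u => chkFix tab mwords u) = true := by decide +kernel

theorem m2_217 : allRange 8246 38 (fun u => chkFix tab mwords u) = true := by decide +kernel

theorem m2_218 : allRange 8284 38 (fun u => chkFix tab mwords u) = true := by decide +kernel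

theorem m2_219 : allRange 8322 38 (fun u => chkFix tab mwords u) = true := by decide +kernel

theorem m2_220 : allRange 8360 38 (fun u => chkFix tab mwords u) = true := by decide +kernel

theorem m2_221 : allRange 8398 38 (fun u => chkFix tab mwords u) = true := by decide +kernel


end Cfsg.Agent.Helper9.TCData.X1689
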