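import Cfsg.Agent.Lib.Helper9.TCData.X1689.Main

set_option autoImplicit false
set_option maxRecDepth 1000000

namespace Cfsg.Agent.Helper9.TCData.X1689
open Cfsg.Agent.Helper9.TC2

theorem m2_254 : allRange 9652 38 (fun u => chkFix tab mwords u) = true := by decide +kernel

theorem m2_255 : allRange 9690 38 (fun u => chkFix tab mwords u) = true := by decide +kernel

theorem m2_256 : allRange 9728 38 (fun u => chkFix tab mwords u) = true := by decide +kernel

theorem m2_257 : allRange 9766 38 (fun u => chkFix tab mwords u) = true := by decide +kernel

theorem m2_258 : allRange 9804 38 (fun u => chkFix tab mwords u) = true := by decide +kernel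

theorem m2_259 : allRange 9842 38 (fun u => chkFix tab mwords u) = true := by decide +kernel

theorem m2_260 : allRange 9880 38 (fun u => chkFix tab mwords u) = true := by decide +kernel

theorem m2_261 : allRange 9918 38 (fun u => chkFix tab mwords u) = true := by decide +kernel


end Cfsg.Agent.Helper9.TCData.X1689
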