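import Cfsg.Agent.Lib.Helper9.TCData.X1689.Main

set_option autoImplicit false
set_option maxRecDepth 1000000

namespace Cfsg.Agent.Helper9.TCData.X1689
open Cfsg.Agent.Helper9.TC2

theorem m2_270 : allRange 10260 38 (fun u => chkFix tab mwords u) = true := by decide +kernel

theorem m2_271 : allRange 10298 38 (fun u => chkFix tab mwords u) = true := by decide +kernel

theorem m2_272 : allRange 10336 38 (fun u => chkFix tab mwords u) = true := by decide +kernel

theorem m2_273 : allRange 10374 38 (fun u => chkFix tab mwords u) = true := by decide +kernel

theorem m2_274 : allRange 10412 38 (fun u => chkFix tab mwords u) = true := by decide +kernel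

theorem m2_275 : allRange 10450 38 (fun u => chkFix tab mwords u) = true := by decide +kernel

theorem m2_276 : allRange 10488 38 (fun u => chkFix tab mwords u) = true := by decide +kernel

theorem m2_277 : allRange 10526 38 (fun u => chkFix tab mwords u) = true := by decide +kernel


end Cfsg.Agent.Helper9.TCData.X1689
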