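import Cfsg.Agent.Lib.Helper9.TCData.X1689.Main

set_option autoImplicit false
set_option maxRecDepth 1000000

namespace Cfsg.Agent.Helper9.TCData.X1689
open Cfsg.Agent.Helper9.TC2

theorem m2_278 : allRange 10564 38 (fun u => chkFix tab mwords u) = true := by decide +kernel

theorem m2_279 : allRange 10602 38 (fun u => chkFix tab mwords u) = true := by decide +kernel

theorem m2_280 : allRange 10640 38 (fun u => chkFix tab mwords u) = true := by decide +kernel

theorem m2_281 : allRange 10678 38 (fun u => chkFix tab mwords u) = true := by decide +kernel

theorem m2_282 : allRange 10716 38 (fun u => chkFix tab mwords u) = true := by decide +kernel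

theorem m2_283 : allRange 10754 38 (fun u => chkFix tab mwords u) = true := by decide +kernel

theorem m2_284 : allRange 10792 38 (fun u => chkFix tab mwords u) = true := by decide +kernel

theorem m2_285 : allRange 10830 38 (fun u => chkFix tab mwords u) = true := by decide +kernel


end Cfsg.Agent.Helper9.TCData.X1689
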