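import Cfsg.Agent.Lib.Helper9.TCData.X1689.S0
import Cfsg.Agent.Lib.Helper9.TCData.X1689.S1
import Cfsg.Agent.Lib.Helper9.TCData.X1689.S2
import Cfsg.Agent.Lib.Helper9.TCData.X1689.S3
import Cfsg.Agent.Lib.Helper9.TCData.X1689.S4
import Cfsg.Agent.Lib.Helper9.TCData.X1689.S5
import Cfsg.Agent.Lib.Helper9.TCData.X1689.S6
import Cfsg.Agent.Lib.Helper9.TCData.X1689.S7
import Cfsg.Agent.Lib.Helper9.TCData.X1689.S8
import Cfsg.Agent.Lib.Helper9.TCData.X1689.S9
import Cfsg.Agent.Lib.Helper9.TCData.X1689.S10
import Cfsg.Agent.Lib.Helper9.TCData.X1689.S11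
import Cfsg.Agent.Lib.Helper9.TCData.X1689.S12
import Cfsg.Agent.Lib.Helper9.TCData.X1689.S13
import Cfsg.Agent.Lib.Helper9.TCData.X1689.S14
import Cfsg.Agent.Lib.Helper9.TCData.X1689.S15
import Cfsg.Agent.Lib.Helper9.TCData.X1689.S16
import Cfsg.Agent.Lib.Helper9.TCData.X1689.S17
import Cfsg.Agent.Lib.Helper9.TCData.X1689.S18
import Cfsg.Agent.Lib.Helper9.TCData.X1689.S19
import Cfsg.Agent.Lib.Helper9.TCData.X1689.S20
import Cfsg.Agent.Lib.Helper9.TCData.X1689.S21
import Cfsg.Agent.Lib.Helper9.TCData.X1689.S22
import Cfsg.Agent.Lib.Helper9.TCData.X1689.S23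
import Cfsg.Agent.Lib.Helper9.TCData.X1689.S24
import Cfsg.Agent.Lib.Helper9.TCData.X1689.S25
import Cfsg.Agent.Lib.Helper9.TCData.X1689.S26
import Cfsg.Agent.Lib.Helper9.TCData.X1689.S27
import Cfsg.Agent.Lib.Helper9.TCData.X1689.S28
import Cfsg.Agent.Lib.Helper9.TCData.X1689.S29
import Cfsg.Agent.Lib.Helper9.TCData.X1689.S30
import Cfsg.Agent.Lib.Helper9.TCData.X1689.S31
import Cfsg.Agent.Lib.Helper9.TCData.X1689.S32
import Cfsg.Agent.Lib.Helper9.TCData.X1689.S33
import Cfsg.Agent.Lib.Helper9.TCData.X1689.S34
import Cfsg.Agent.Lib.Helper9.TCData.X1689.S35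
import Cfsg.Agent.Lib.Helper9.TCData.X1689.S36
import Cfsg.Agent.Lib.Helper9.TCData.X1689.S37
import Cfsg.Agent.Lib.Helper9.TCData.X1689.S38
import Cfsg.Agent.Lib.Helper9.TCData.X1689.S39
import Cfsg.Agent.Lib.Helper9.TCData.X1689.S40
import Cfsg.Agent.Lib.Helper9.TCData.X1689.S41
import Cfsg.Agent.Lib.Helper9.TCData.X1689.S42
import Cfsg.Agent.Lib.Helper9.TCData.X1689.S43
import Cfsg.Agent.Lib.Helper9.TCData.X1689.S44
import Cfsg.Agent.Lib.Helper9.TCData.X1689.S45
import Cfsg.Agent.Lib.Helper9.TCData.X1689.S46
import Cfsg.Agent.Lib.Helper9.TCData.X1689.S47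
import Cfsg.Agent.Lib.Helper9.TCData.X1689.S48
import Cfsg.Agent.Lib.Helper9.TCData.X1689.S49
import Cfsg.Agent.Lib.Helper9.TCData.X1689.S50
import Cfsg.Agent.Lib.Helper9.TCData.X1689.S51
import Cfsg.Agent.Lib.Helper9.TCData.X1689.S52
import Cfsg.Agent.Lib.Helper9.TCData.X1689.S53
import Cfsg.Agent.Lib.Helper9.TCData.X1689.S54
import Cfsg.Agent.Lib.Helper9.TCData.X1689.S55
import Cfsg.Agent.Lib.Helper9.TCData.X1689.S56
import Cfsg.Agent.Lib.Helper9.TCData.X1689.S57
import Cfsg.Agent.Lib.Helper9.TCData.X1689.S58
import Cfsg.Agent.Lib.Helper9.TCData.X1689.S59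
import Cfsg.Agent.Lib.Helper9.TCData.X1689.S60
import Cfsg.Agent.Lib.Helper9.TCData.X1689.S61
import Cfsg.Agent.Lib.Helper9.TCData.X1689.S62
import Cfsg.Agent.Lib.Helper9.TCData.X1689.S63
import Cfsg.Agent.Lib.Helper9.TCData.X1689.S64
import Cfsg.Agent.Lib.Helper9.TCData.X1689.S65
import Cfsg.Agent.Lib.Helper9.TCData.X1689.S66
import Cfsg.Agent.Lib.Helper9.TCData.X1689.S67
import Cfsg.Agent.Lib.Helper9.TCData.X1689.S68
import Cfsg.Agent.Lib.Helper9.TCData.X1689.S69
import Cfsg.Agent.Lib.Helper9.TCData.X1689.S70
import Cfsg.Agent.Lib.Helper9.TCData.X1689.S71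
import Cfsg.Agent.Lib.Helper9.TCData.X1689.S72
import Cfsg.Agent.Lib.Helper9.TCData.X1689.S73
import Cfsg.Agent.Lib.Helper9.TCData.X1689.S74
import Cfsg.Agent.Lib.Helper9.TCData.X1689.S75
import Cfsg.Agent.Lib.Helper9.TCData.X1689.S76
import Cfsg.Agent.Lib.Helper9.TCData.X1689.S77
import Cfsg.Agent.Lib.Helper9.TCData.X1689.S78
import Cfsg.Agent.Lib.Helper9.TCData.X1689.S79
import Cfsg.Agent.Lib.Helper9.TCData.X1689.S80
import Cfsg.Agent.Lib.Helper9.TCData.X1689.S81
import Cfsg.Agent.Lib.Helper9.TCData.X1689.S82
import Cfsg.Agent.Lib.Helper9.TCData.X1689.S83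
import Cfsg.Agent.Lib.Helper9.TCData.X1689.S84
import Cfsg.Agent.Lib.Helper9.TCData.X1689.S85
import Cfsg.Agent.Lib.Helper9.TCData.X1689.S86
import Cfsg.Agent.Lib.Helper9.TCData.X1689.S87
import Cfsg.Agent.Lib.Helper9.TCData.X1689.S88
import Cfsg.Agent.Lib.Helper9.TCData.X1689.S89
import Cfsg.Agent.Lib.Helper9.TCData.X1689.S90
import Cfsg.Agent.Lib.Helper9.TCData.X1689.S91
import Cfsg.Agent.Lib.Helper9.TCData.X1689.S92
import Cfsg.Agent.Lib.Helper9.TCData.X1689.S93
import Cfsg.Agent.Lib.Helper9.TCData.X1689.S94
import Cfsg.Agent.Lib.Helper9.TCData.X1689.S95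
import Cfsg.Agent.Lib.Helper9.TCData.X1689.S96
import Cfsg.Agent.Lib.Helper9.TCData.X1689.S97
import Cfsg.Agent.Lib.Helper9.TCData.X1689.S98
import Cfsg.Agent.Lib.Helper9.TCData.X1689.S99
import Cfsg.Agent.Lib.Helper9.TCData.X1689.S100
import Cfsg.Agent.Lib.Helper9.TCData.X1689.S101
import Cfsg.Agent.Lib.Helper9.TCData.X1689.S102
import Cfsg.Agent.Lib.Helper9.TCData.X1689.S103
import Cfsg.Agent.Lib.Helper9.TCData.X1689.S104
import Cfsg.Agent.Lib.Helper9.TCData.X1689.S105
import Cfsg.Agent.Lib.Helper9.TCData.X1689.S106
import Cfsg.Agent.Lib.Helper9.TCData.X1689.S107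
import Cfsg.Agent.Lib.Helper9.TCData.X1689.S108
import Cfsg.Agent.Lib.Helper9.TCData.X1689.S109
import Cfsg.Agent.Lib.Helper9.TCData.X1689.S110
import Cfsg.Agent.Lib.Helper9.TCData.X1689.S111
import Cfsg.Agent.Lib.Helper9.TCData.X1689.S112
import Cfsg.Agent.Lib.Helper9.TCData.X1689.S113
import Cfsg.Agent.Lib.Helper9.TCData.X1689.S114
import Cfsg.Agent.Lib.Helper9.TCData.X1689.S115
import Cfsg.Agent.Lib.Helper9.TCData.X1689.S116
import Cfsg.Agent.Lib.Helper9.TCData.X1689.S117
import Cfsg.Agent.Lib.Helper9.TCData.X1689.S118
import Cfsg.Agent.Lib.Helper9.TCData.X1689.S119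
import Cfsg.Agent.Lib.Helper9.TCData.X1689.S120
import Cfsg.Agent.Lib.Helper9.TCData.X1689.S121
import Cfsg.Agent.Lib.Helper9.TCData.X1689.S122
import Cfsg.Agent.Lib.Helper9.TCData.X1689.S123
import Cfsg.Agent.Lib.Helper9.TCData.X1689.S124
import Cfsg.Agent.Lib.Helper9.TCData.X1689.S125
import Cfsg.Agent.Lib.Helper9.TCData.X1689.S126
import Cfsg.Agent.Lib.Helper9.TCData.X1689.S127
import Cfsg.Agent.Lib.Helper9.TCData.X1689.S128
import Cfsg.Agent.Lib.Helper9.TCData.X1689.S129
import Cfsg.Agent.Lib.Helper9.TCData.X1689.S130
import Cfsg.Agent.Lib.Helper9.TCData.X1689.S131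
import Cfsg.Agent.Lib.Helper9.TCData.X1689.S132
import Cfsg.Agent.Lib.Helper9.TCData.X1689.S133
import Cfsg.Agent.Lib.Helper9.TCData.X1689.S134
import Cfsg.Agent.Lib.Helper9.TCData.X1689.S135
import Cfsg.Agent.Lib.Helper9.TCData.X1689.S136
import Cfsg.Agent.Lib.Helper9.TCData.X1689.S137
import Cfsg.Agent.Lib.Helper9.TCData.X1689.S138
import Cfsg.Agent.Lib.Helper9.TCData.X1689.S139
import Cfsg.Agent.Lib.Helper9.TCData.X1689.S140
import Cfsg.Agent.Lib.Helper9.TCData.X1689.S141
import Cfsg.Agent.Lib.Helper9.TCData.X1689.S142
import Cfsg.Agent.Lib.Helper9.TCData.X1689.S143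
import Cfsg.Agent.Lib.Helper9.TCData.X1689.S144
import Cfsg.Agent.Lib.Helper9.TCData.X1689.S145
import Cfsg.Agent.Lib.Helper9.TCData.X1689.S146
import Cfsg.Agent.Lib.Helper9.TCData.X1689.S147
import Cfsg.Agent.Lib.Helper9.TCData.X1689.S148
import Cfsg.Agent.Lib.Helper9.TCData.X1689.S149
import Cfsg.Agent.Lib.Helper9.TCData.X1689.S150
import Cfsg.Agent.Lib.Helper9.TCData.X1689.S151
import Cfsg.Agent.Lib.Helper9.TCData.X1689.S152
import Cfsg.Agent.Lib.Helper9.TCData.X1689.S153
import Cfsg.Agent.Lib.Helper9.TCData.X1689.S154
import Cfsg.Agent.Lib.Helper9.TCData.X1689.S155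
import Cfsg.Agent.Lib.Helper9.TCData.X1689.S156
import Cfsg.Agent.Lib.Helper9.TCData.X1689.S157
import Cfsg.Agent.Lib.Helper9.TCData.X1689.S158
import Cfsg.Agent.Lib.Helper9.TCData.X1689.S159
import Cfsg.Agent.Lib.Helper9.TCData.X1689.S160
import Cfsg.Agent.Lib.Helper9.TCData.X1689.S161
import Cfsg.Agent.Lib.Helper9.TCData.X1689.S162
import Cfsg.Agent.Lib.Helper9.TCData.X1689.S163
import Cfsg.Agent.Lib.Helper9.TCData.X1689.S164
import Cfsg.Agent.Lib.Helper9.TCData.X1689.S165
import Cfsg.Agent.Lib.Helper9.TCData.X1689.S166
import Cfsg.Agent.Lib.Helper9.TCData.X1689.S167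
import Cfsg.Agent.Lib.Helper9.TCData.X1689.S168
import Cfsg.Agent.Lib.Helper9.TCData.X1689.S169
import Cfsg.Agent.Lib.Helper9.TCData.X1689.S170
import Cfsg.Agent.Lib.Helper9.TCData.X1689.S171
import Cfsg.Agent.Lib.Helper9.TCData.X1689.S172
import Cfsg.Agent.Lib.Helper9.TCData.X1689.S173
import Cfsg.Agent.Lib.Helper9.TCData.X1689.S174
import Cfsg.Agent.Lib.Helper9.TCData.X1689.S175
import Cfsg.Agent.Lib.Helper9.TCData.X1689.S176
import Cfsg.Agent.Lib.Helper9.TCData.X1689.S177
import Cfsg.Agent.Lib.Helper9.TCData.X1689.S178

set_option autoImplicit false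
set_option maxRecDepth 1000000

namespace Cfsg.Agent.Helper9.TCData.X1689
open Cfsg.Agent.Helper9.TC2


theorem hE0 : ∀ u < 64481, chkE tab 0 u = true := by
  have h0 : ∀ u < 0, (fun u => chkE tab 0 u) u = true := range_zero
  have h1 : ∀ u < 2010, (fun u => chkE tab 0 u) u = true := ext_range (a := 0) (len := 2010) h0 e0_0
  have h2 : ∀ u < 4025, (fun u => chkE tab 0 u) u = true := ext_range (a := 2010) (len := 2015) h1 e0_1
  have h3 : ∀ u < 6031, (fun u => chkE tab 0 u) u = true := ext_range (a := 4025) (len := 2006) h2 e0_2
  have h4 : ∀ u < 8091, (fun u => chkE tab 0 u) u = true := ext_range (a := 6031) (len := 2060) h3 e0_3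
  have h5 : ∀ u < 9992, (fun u => chkE tab 0 u) u = true := ext_range (a := 8091) (len := 1901) h4 e0_4
  have h6 : ∀ u < 12134, (fun u => chkE tab 0 u) u = true := ext_range (a := 9992) (len := 2142) h5 e0_5
  have h7 : ∀ u < 14090, (fun u => chkE tab 0 u) u = true := ext_range (a := 12134) (len := 1956) h6 e0_6
  have h8 : ∀ u < 16289, (fun u => chkE tab 0 u) u = true := ext_range (a := 14090) (len := 2199) h7 e0_7
  have h9 : ∀ u < 18294, (fun u => chkE tab 0 u) u = true := ext_range (a := 16289) (len := 2005) h8 e0_8
  have h10 : ∀ u < 20253, (fun u => chkE tab 0 u) u = true := ext_range (a := 18294) (len := 1959) h9 e0_9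
  have h11 : ∀ u < 22249, (fun u => chkE tab 0 u) u = true := ext_range (a := 20253) (len := 1996) h10 e0_10
  have h12 : ∀ u < 24575, (fun u => chkE tab 0 u) u = true := ext_range (a := 22249) (len := 2326) h11 e0_11
  have h13 : ∀ u < 26617, (fun u => chkE tab 0 u) u = true := ext_range (a := 24575) (len := 2042) h12 e0_12
  have h14 : ∀ u < 28581, (fun u => chkE tab 0 u) u = true := ext_range (a := 26617) (len := 1964) h13 e0_13
  have h15 : ∀ u < 30572, (fun u => chkE tab 0 u) u = true := ext_range (a := 28581) (len := 1991) h14 e0_14
  have h16 : ∀ u < 34421, (fun u => chkE tab 0 u) u = true := ext_range (a := 30572) (len := 3849) h15 e0_15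
  have h17 : ∀ u < 40747, (fun u => chkE tab 0 u) u = true := ext_range (a := 34421) (len := 6326) h16 e0_16
  have h18 : ∀ u < 44186, (fun u => chkE tab 0 u) u = true := ext_range (a := 40747) (len := 3439) h17 e0_17
  have h19 : ∀ u < 47355, (fun u => chkE tab 0 u) u = true := ext_range (a := 44186) (len := 3169) h18 e0_18
  have h20 : ∀ u < 49799, (fun u => chkE tab 0 u) u = true := ext_range (a := 47355) (len := 2444) h19 e0_19
  have h21 : ∀ u < 52311, (fun u => chkE tab 0 u) u = true := ext_range (a := 49799) (len := 2512) h20 e0_20
  have h22 : ∀ u < 54878, (fun u => chkE tab 0 u) u = true := ext_range (a := 52311) (len := 2567) h21 e0_21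
  have h23 : ∀ u < 57528, (fun u => chkE tab 0 u) u = true := ext_range (a := 54878) (len := 2650) h22 e0_22
  have h24 : ∀ u < 60520, (fun u => chkE tab 0 u) u = true := ext_range (a := 57528) (len := 2992) h23 e0_23
  have h25 : ∀ u < 63418, (fun u => chkE tab 0 u) u = true := ext_range (a := 60520) (len := 2898) h24 e0_24
  have h26 : ∀ u < 64481, (fun u => chkE tab 0 u) u = true := ext_range (a := 63418) (len := 1063) h25 e0_25
  exact h26

theorem hE1 : ∀ u < 64481, chkE tab 1 u = true := by
  have h0 : ∀ u < 0, (fun u => chkE tab 1 u) u = true := range_zero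
  have h1 : ∀ u < 2021, (fun u => chkE tab 1 u) u = true := ext_range (a := 0) (len := 2021) h0 e1_0
  have h2 : ∀ u < 4079, (fun u => chkE tab 1 u) u = true := ext_range (a := 2021) (len := 2058) h1 e1_1
  have h3 : ∀ u < 6106, (fun u => chkE tab 1 u) u = true := ext_range (a := 4079) (len := 2027) h2 e1_2
  have h4 : ∀ u < 8164, (fun u => chkE tab 1 u) u = true := ext_range (a := 6106) (len := 2058) h3 e1_3
  have h5 : ∀ u < 10151, (fun u => chkE tab 1 u) u = true := ext_range (a := 8164) (len := 1987) h4 e1_4
  have h6 : ∀ u < 12301, (fun u => chkE tab 1 u) u = true := ext_range (a := 10151) (len := 2150) h5 e1_5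
  have h7 : ∀ u < 14260, (fun u => chkE tab 1 u) u = true := ext_range (a := 12301) (len := 1959) h6 e1_6
  have h8 : ∀ u < 16451, (fun u => chkE tab 1 u) u = true := ext_range (a := 14260) (len := 2191) h7 e1_7
  have h9 : ∀ u < 18509, (fun u => chkE tab 1 u) u = true := ext_range (a := 16451) (len := 2058) h8 e1_8
  have h10 : ∀ u < 20492, (fun u => chkE tab 1 u) u = true := ext_range (a := 18509) (len := 1983) h9 e1_9
  have h11 : ∀ u < 22561, (fun u => chkE tab 1 u) u = true := ext_range (a := 20492) (len := 2069) h10 e1_10
  have h12 : ∀ u < 24786, (fun u => chkE tab 1 u) u = true := ext_range (a := 22561) (len := 2225) h11 e1_11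
  have h13 : ∀ u < 26907, (fun u => chkE tab 1 u) u = true := ext_range (a := 24786) (len := 2121) h12 e1_12
  have h14 : ∀ u < 28881, (fun u => chkE tab 1 u) u = true := ext_range (a := 26907) (len := 1974) h13 e1_13
  have h15 : ∀ u < 30985, (fun u => chkE tab 1 u) u = true := ext_range (a := 28881) (len := 2104) h14 e1_14
  have h16 : ∀ u < 34989, (fun u => chkE tab 1 u) u = true := ext_range (a := 30985) (len := 4004) h15 e1_15
  have h17 : ∀ u < 41131, (fun u => chkE tab 1 u) u = true := ext_range (a := 34989) (len := 6142) h16 e1_16
  have h18 : ∀ u < 44504, (fun u => chkE tab 1 u) u = true := ext_range (a := 41131) (len := 3373) h17 e1_17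
  have h19 : ∀ u < 47526, (fun u => chkE tab 1 u) u = true := ext_range (a := 44504) (len := 3022) h18 e1_18
  have h20 : ∀ u < 49882, (fun u => chkE tab 1 u) u = true := ext_range (a := 47526) (len := 2356) h19 e1_19
  have h21 : ∀ u < 52335, (fun u => chkE tab 1 u) u = true := ext_range (a := 49882) (len := 2453) h20 e1_20
  have h22 : ∀ u < 54879, (fun u => chkE tab 1 u) u = true := ext_range (a := 52335) (len := 2544) h21 e1_21
  have h23 : ∀ u < 57638, (fun u => chkE tab 1 u) u = true := ext_range (a := 54879) (len := 2759) h22 e1_22
  have h24 : ∀ u < 60543, (fun u => chkE tab 1 u) u = true := ext_range (a := 57638) (len := 2905) h23 e1_23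
  have h25 : ∀ u < 63140, (fun u => chkE tab 1 u) u = true := ext_range (a := 60543) (len := 2597) h24 e1_24
  have h26 : ∀ u < 64481, (fun u => chkE tab 1 u) u = true := ext_range (a := 63140) (len := 1341) h25 e1_25
  exact h26

theorem hE2 : ∀ u < 64481, chkE tab 2 u = true := by
  have h0 : ∀ u < 0, (fun u => chkE tab 2 u) u = true := range_zero
  have h1 : ∀ u < 2057, (fun u => chkE tab 2 u) u = true := ext_range (a := 0) (len := 2057) h0 e2_0
  have h2 : ∀ u < 4114, (fun u => chkE tab 2 u) u = true := ext_range (a := 2057) (len := 2057) h1 e2_1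
  have h3 : ∀ u < 6181, (fun u => chkE tab 2 u) u = true := ext_range (a := 4114) (len := 2067) h2 e2_2
  have h4 : ∀ u < 8276, (fun u => chkE tab 2 u) u = true := ext_range (a := 6181) (len := 2095) h3 e2_3
  have h5 : ∀ u < 10382, (fun u => chkE tab 2 u) u = true := ext_range (a := 8276) (len := 2106) h4 e2_4
  have h6 : ∀ u < 12510, (fun u => chkE tab 2 u) u = true := ext_range (a := 10382) (len := 2128) h5 e2_5
  have h7 : ∀ u < 14624, (fun u => chkE tab 2 u) u = true := ext_range (a := 12510) (len := 2114) h6 e2_6
  have h8 : ∀ u < 16831, (fun u => chkE tab 2 u) u = true := ext_range (a := 14624) (len := 2207) h7 e2_7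
  have h9 : ∀ u < 18958, (fun u => chkE tab 2 u) u = true := ext_range (a := 16831) (len := 2127) h8 e2_8
  have h10 : ∀ u < 21056, (fun u => chkE tab 2 u) u = true := ext_range (a := 18958) (len := 2098) h9 e2_9
  have h11 : ∀ u < 23246, (fun u => chkE tab 2 u) u = true := ext_range (a := 21056) (len := 2190) h10 e2_10
  have h12 : ∀ u < 25452, (fun u => chkE tab 2 u) u = true := ext_range (a := 23246) (len := 2206) h11 e2_11
  have h13 : ∀ u < 27599, (fun u => chkE tab 2 u) u = true := ext_range (a := 25452) (len := 2147) h12 e2_12
  have h14 : ∀ u < 29731, (fun u => chkE tab 2 u) u = true := ext_range (a := 27599) (len := 2132) h13 e2_13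
  have h15 : ∀ u < 31985, (fun u => chkE tab 2 u) u = true := ext_range (a := 29731) (len := 2254) h14 e2_14
  have h16 : ∀ u < 37384, (fun u => chkE tab 2 u) u = true := ext_range (a := 31985) (len := 5399) h15 e2_15
  have h17 : ∀ u < 42370, (fun u => chkE tab 2 u) u = true := ext_range (a := 37384) (len := 4986) h16 e2_16
  have h18 : ∀ u < 45811, (fun u => chkE tab 2 u) u = true := ext_range (a := 42370) (len := 3441) h17 e2_17
  have h19 : ∀ u < 48400, (fun u => chkE tab 2 u) u = true := ext_range (a := 45811) (len := 2589) h18 e2_18
  have h20 : ∀ u < 50699, (fun u => chkE tab 2 u) u = true := ext_range (a := 48400) (len := 2299) h19 e2_19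
  have h21 : ∀ u < 53209, (fun u => chkE tab 2 u) u = true := ext_range (a := 50699) (len := 2510) h20 e2_20
  have h22 : ∀ u < 55893, (fun u => chkE tab 2 u) u = true := ext_range (a := 53209) (len := 2684) h21 e2_21
  have h23 : ∀ u < 59021, (fun u => chkE tab 2 u) u = true := ext_range (a := 55893) (len := 3128) h22 e2_22
  have h24 : ∀ u < 61491, (fun u => chkE tab 2 u) u = true := ext_range (a := 59021) (len := 2470) h23 e2_23
  have h25 : ∀ u < 64267, (fun u => chkE tab 2 u) u = true := ext_range (a := 61491) (len := 2776) h24 e2_24
  have h26 : ∀ u < 64481, (fun u => chkE tab 2 u) u = true := ext_range (a := 64267) (len := 214) h25 e2_25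
  exact h26

theorem hE3 : ∀ u < 64481, chkE tab 3 u = true := by
  have h0 : ∀ u < 0, (fun u => chkE tab 3 u) u = true := range_zero
  have h1 : ∀ u < 2140, (fun u => chkE tab 3 u) u = true := ext_range (a := 0) (len := 2140) h0 e3_0
  have h2 : ∀ u < 4289, (fun u => chkE tab 3 u) u = true := ext_range (a := 2140) (len := 2149) h1 e3_1
  have h3 : ∀ u < 6483, (fun u => chkE tab 3 u) u = true := ext_range (a := 4289) (len := 2194) h2 e3_2
  have h4 : ∀ u < 8704, (fun u => chkE tab 3 u) u = true := ext_range (a := 6483) (len := 2221) h3 e3_3
  have h5 : ∀ u < 10936, (fun u => chkE tab 3 u) u = true := ext_range (a := 8704) (len := 2232) h4 e3_4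
  have h6 : ∀ u < 13199, (fun u => chkE tab 3 u) u = true := ext_range (a := 10936) (len := 2263) h5 e3_5
  have h7 : ∀ u < 15492, (fun u => chkE tab 3 u) u = true := ext_range (a := 13199) (len := 2293) h6 e3_6
  have h8 : ∀ u < 17792, (fun u => chkE tab 3 u) u = true := ext_range (a := 15492) (len := 2300) h7 e3_7
  have h9 : ∀ u < 20045, (fun u => chkE tab 3 u) u = true := ext_range (a := 17792) (len := 2253) h8 e3_8
  have h10 : ∀ u < 22415, (fun u => chkE tab 3 u) u = true := ext_range (a := 20045) (len := 2370) h9 e3_9
  have h11 : ∀ u < 24730, (fun u => chkE tab 3 u) u = true := ext_range (a := 22415) (len := 2315) h10 e3_10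
  have h12 : ∀ u < 27059, (fun u => chkE tab 3 u) u = true := ext_range (a := 24730) (len := 2329) h11 e3_11
  have h13 : ∀ u < 29407, (fun u => chkE tab 3 u) u = true := ext_range (a := 27059) (len := 2348) h12 e3_12
  have h14 : ∀ u < 31862, (fun u => chkE tab 3 u) u = true := ext_range (a := 29407) (len := 2455) h13 e3_13
  have h15 : ∀ u < 36656, (fun u => chkE tab 3 u) u = true := ext_range (a := 31862) (len := 4794) h14 e3_14
  have h16 : ∀ u < 42068, (fun u => chkE tab 3 u) u = true := ext_range (a := 36656) (len := 5412) h15 e3_15
  have h17 : ∀ u < 45800, (fun u => chkE tab 3 u) u = true := ext_range (a := 42068) (len := 3732) h16 e3_16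
  have h18 : ∀ u < 48529, (fun u => chkE tab 3 u) u = true := ext_range (a := 45800) (len := 2729) h17 e3_17
  have h19 : ∀ u < 51048, (fun u => chkE tab 3 u) u = true := ext_range (a := 48529) (len := 2519) h18 e3_18
  have h20 : ∀ u < 53878, (fun u => chkE tab 3 u) u = true := ext_range (a := 51048) (len := 2830) h19 e3_19
  have h21 : ∀ u < 57050, (fun u => chkE tab 3 u) u = true := ext_range (a := 53878) (len := 3172) h20 e3_20
  have h22 : ∀ u < 59530, (fun u => chkE tab 3 u) u = true := ext_range (a := 57050) (len := 2480) h21 e3_21
  have h23 : ∀ u < 62343, (fun u => chkE tab 3 u) u = true := ext_range (a := 59530) (len := 2813) h22 e3_22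
  have h24 : ∀ u < 64481, (fun u => chkE tab 3 u) u = true := ext_range (a := 62343) (len := 2138) h23 e3_23
  exact h24

theorem hE4 : ∀ u < 64481, chkE tab 4 u = true := by
  have h0 : ∀ u < 0, (fun u => chkE tab 4 u) u = true := range_zero
  have h1 : ∀ u < 2315, (fun u => chkE tab 4 u) u = true := ext_range (a := 0) (len := 2315) h0 e4_0
  have h2 : ∀ u < 4443, (fun u => chkE tab 4 u) u = true := ext_range (a := 2315) (len := 2128) h1 e4_1
  have h3 : ∀ u < 6622, (fun u => chkE tab 4 u) u = true := ext_range (a := 4443) (len := 2179) h2 e4_2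
  have h4 : ∀ u < 8768, (fun u => chkE tab 4 u) u = true := ext_range (a := 6622) (len := 2146) h3 e4_3
  have h5 : ∀ u < 10978, (fun u => chkE tab 4 u) u = true := ext_range (a := 8768) (len := 2210) h4 e4_4
  have h6 : ∀ u < 13188, (fun u => chkE tab 4 u) u = true := ext_range (a := 10978) (len := 2210) h5 e4_5
  have h7 : ∀ u < 15460, (fun u => chkE tab 4 u) u = true := ext_range (a := 13188) (len := 2272) h6 e4_6
  have h8 : ∀ u < 17674, (fun u => chkE tab 4 u) u = true := ext_range (a := 15460) (len := 2214) h7 e4_7
  have h9 : ∀ u < 19983, (fun u => chkE tab 4 u) u = true := ext_range (a := 17674) (len := 2309) h8 e4_8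
  have h10 : ∀ u < 22321, (fun u => chkE tab 4 u) u = true := ext_range (a := 19983) (len := 2338) h9 e4_9
  have h11 : ∀ u < 24612, (fun u => chkE tab 4 u) u = true := ext_range (a := 22321) (len := 2291) h10 e4_10
  have h12 : ∀ u < 26893, (fun u => chkE tab 4 u) u = true := ext_range (a := 24612) (len := 2281) h11 e4_11
  have h13 : ∀ u < 29203, (fun u => chkE tab 4 u) u = true := ext_range (a := 26893) (len := 2310) h12 e4_12
  have h14 : ∀ u < 31598, (fun u => chkE tab 4 u) u = true := ext_range (a := 29203) (len := 2395) h13 e4_13
  have h15 : ∀ u < 36325, (fun u => chkE tab 4 u) u = true := ext_range (a := 31598) (len := 4727) h14 e4_14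
  have h16 : ∀ u < 41767, (fun u => chkE tab 4 u) u = true := ext_range (a := 36325) (len := 5442) h15 e4_15
  have h17 : ∀ u < 45336, (fun u => chkE tab 4 u) u = true := ext_range (a := 41767) (len := 3569) h16 e4_16
  have h18 : ∀ u < 48206, (fun u => chkE tab 4 u) u = true := ext_range (a := 45336) (len := 2870) h17 e4_17
  have h19 : ∀ u < 50672, (fun u => chkE tab 4 u) u = true := ext_range (a := 48206) (len := 2466) h18 e4_18
  have h20 : ∀ u < 53370, (fun u => chkE tab 4 u) u = true := ext_range (a := 50672) (len := 2698) h19 e4_19
  have h21 : ∀ u < 56155, (fun u => chkE tab 4 u) u = true := ext_range (a := 53370) (len := 2785) h20 e4_20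
  have h22 : ∀ u < 59557, (fun u => chkE tab 4 u) u = true := ext_range (a := 56155) (len := 3402) h21 e4_21
  have h23 : ∀ u < 62986, (fun u => chkE tab 4 u) u = true := ext_range (a := 59557) (len := 3429) h22 e4_22
  have h24 : ∀ u < 64481, (fun u => chkE tab 4 u) u = true := ext_range (a := 62986) (len := 1495) h23 e4_23
  exact h24

theorem hE5 : ∀ u < 64481, chkE tab 5 u = true := by
  have h0 : ∀ u < 0, (fun u => chkE tab 5 u) u = true := range_zero
  have h1 : ∀ u < 2300, (fun u => chkE tab 5 u) u = true := ext_range (a := 0) (len := 2300) h0 e5_0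
  have h2 : ∀ u < 4602, (fun u => chkE tab 5 u) u = true := ext_range (a := 2300) (len := 2302) h1 e5_1
  have h3 : ∀ u < 6864, (fun u => chkE tab 5 u) u = true := ext_range (a := 4602) (len := 2262) h2 e5_2
  have h4 : ∀ u < 8999, (fun u => chkE tab 5 u) u = true := ext_range (a := 6864) (len := 2135) h3 e5_3
  have h5 : ∀ u < 11154, (fun u => chkE tab 5 u) u = true := ext_range (a := 8999) (len := 2155) h4 e5_4
  have h6 : ∀ u < 13302, (fun u => chkE tab 5 u) u = true := ext_range (a := 11154) (len := 2148) h5 e5_5
  have h7 : ∀ u < 15474, (fun u => chkE tab 5 u) u = true := ext_range (a := 13302) (len := 2172) h6 e5_6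
  have h8 : ∀ u < 17617, (fun u => chkE tab 5 u) u = true := ext_range (a := 15474) (len := 2143) h7 e5_7
  have h9 : ∀ u < 19739, (fun u => chkE tab 5 u) u = true := ext_range (a := 17617) (len := 2122) h8 e5_8
  have h10 : ∀ u < 21932, (fun u => chkE tab 5 u) u = true := ext_range (a := 19739) (len := 2193) h9 e5_9
  have h11 : ∀ u < 24036, (fun u => chkE tab 5 u) u = true := ext_range (a := 21932) (len := 2104) h10 e5_10
  have h12 : ∀ u < 26181, (fun u => chkE tab 5 u) u = true := ext_range (a := 24036) (len := 2145) h11 e5_11
  have h13 : ∀ u < 28348, (fun u => chkE tab 5 u) u = true := ext_range (a := 26181) (len := 2167) h12 e5_12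
  have h14 : ∀ u < 30622, (fun u => chkE tab 5 u) u = true := ext_range (a := 28348) (len := 2274) h13 e5_13
  have h15 : ∀ u < 33715, (fun u => chkE tab 5 u) u = true := ext_range (a := 30622) (len := 3093) h14 e5_14
  have h16 : ∀ u < 38815, (fun u => chkE tab 5 u) u = true := ext_range (a := 33715) (len := 5100) h15 e5_15
  have h17 : ∀ u < 43078, (fun u => chkE tab 5 u) u = true := ext_range (a := 38815) (len := 4263) h16 e5_16
  have h18 : ∀ u < 46747, (fun u => chkE tab 5 u) u = true := ext_range (a := 43078) (len := 3669) h17 e5_17
  have h19 : ∀ u < 49143, (fun u => chkE tab 5 u) u = true := ext_range (a := 46747) (len := 2396) h18 e5_18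
  have h20 : ∀ u < 51651, (fun u => chkE tab 5 u) u = true := ext_range (a := 49143) (len := 2508) h19 e5_19
  have h21 : ∀ u < 54072, (fun u => chkE tab 5 u) u = true := ext_range (a := 51651) (len := 2421) h20 e5_20
  have h22 : ∀ u < 56447, (fun u => chkE tab 5 u) u = true := ext_range (a := 54072) (len := 2375) h21 e5_21
  have h23 : ∀ u < 58953, (fun u => chkE tab 5 u) u = true := ext_range (a := 56447) (len := 2506) h22 e5_22
  have h24 : ∀ u < 61671, (fun u => chkE tab 5 u) u = true := ext_range (a := 58953) (len := 2718) h23 e5_23
  have h25 : ∀ u < 64481, (fun u => chkE tab 5 u) u = true := ext_range (a := 61671) (len := 2810) h24 e5_24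
  exact h25

theorem hE6 : ∀ u < 64481, chkE tab 6 u = true := by
  have h0 : ∀ u < 0, (fun u => chkE tab 6 u) u = true := range_zero
  have h1 : ∀ u < 2107, (fun u => chkE tab 6 u) u = true := ext_range (a := 0) (len := 2107) h0 e6_0
  have h2 : ∀ u < 4372, (fun u => chkE tab 6 u) u = true := ext_range (a := 2107) (len := 2265) h1 e6_1
  have h3 : ∀ u < 6611, (fun u => chkE tab 6 u) u = true := ext_range (a := 4372) (len := 2239) h2 e6_2
  have h4 : ∀ u < 8806, (fun u => chkE tab 6 u) u = true := ext_range (a := 6611) (len := 2195) h3 e6_3
  have h5 : ∀ u < 10997, (fun u => chkE tab 6 u) u = true := ext_range (a := 8806) (len := 2191) h4 e6_4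
  have h6 : ∀ u < 13158, (fun u => chkE tab 6 u) u = true := ext_range (a := 10997) (len := 2161) h5 e6_5
  have h7 : ∀ u < 15297, (fun u => chkE tab 6 u) u = true := ext_range (a := 13158) (len := 2139) h6 e6_6
  have h8 : ∀ u < 17506, (fun u => chkE tab 6 u) u = true := ext_range (a := 15297) (len := 2209) h7 e6_7
  have h9 : ∀ u < 19584, (fun u => chkE tab 6 u) u = true := ext_range (a := 17506) (len := 2078) h8 e6_8
  have h10 : ∀ u < 21776, (fun u => chkE tab 6 u) u = true := ext_range (a := 19584) (len := 2192) h9 e6_9
  have h11 : ∀ u < 23892, (fun u => chkE tab 6 u) u = true := ext_range (a := 21776) (len := 2116) h10 e6_10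
  have h12 : ∀ u < 26063, (fun u => chkE tab 6 u) u = true := ext_range (a := 23892) (len := 2171) h11 e6_11
  have h13 : ∀ u < 28192, (fun u => chkE tab 6 u) u = true := ext_range (a := 26063) (len := 2129) h12 e6_12
  have h14 : ∀ u < 30446, (fun u => chkE tab 6 u) u = true := ext_range (a := 28192) (len := 2254) h13 e6_13
  have h15 : ∀ u < 33180, (fun u => chkE tab 6 u) u = true := ext_range (a := 30446) (len := 2734) h14 e6_14
  have h16 : ∀ u < 38707, (fun u => chkE tab 6 u) u = true := ext_range (a := 33180) (len := 5527) h15 e6_15
  have h17 : ∀ u < 43038, (fun u => chkE tab 6 u) u = true := ext_range (a := 38707) (len := 4331) h16 e6_16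
  have h18 : ∀ u < 46734, (fun u => chkE tab 6 u) u = true := ext_range (a := 43038) (len := 3696) h17 e6_17
  have h19 : ∀ u < 49123, (fun u => chkE tab 6 u) u = true := ext_range (a := 46734) (len := 2389) h18 e6_18
  have h20 : ∀ u < 51585, (fun u => chkE tab 6 u) u = true := ext_range (a := 49123) (len := 2462) h19 e6_19
  have h21 : ∀ u < 54043, (fun u => chkE tab 6 u) u = true := ext_range (a := 51585) (len := 2458) h20 e6_20
  have h22 : ∀ u < 56561, (fun u => chkE tab 6 u) u = true := ext_range (a := 54043) (len := 2518) h21 e6_21
  have h23 : ∀ u < 59034, (fun u => chkE tab 6 u) u = true := ext_range (a := 56561) (len := 2473) h22 e6_22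
  have h24 : ∀ u < 61554, (fun u => chkE tab 6 u) u = true := ext_range (a := 59034) (len := 2520) h23 e6_23
  have h25 : ∀ u < 64308, (fun u => chkE tab 6 u) u = true := ext_range (a := 61554) (len := 2754) h24 e6_24
  have h26 : ∀ u < 64481, (fun u => chkE tab 6 u) u = true := ext_range (a := 64308) (len := 173) h25 e6_25
  exact h26

theorem hE7 : ∀ u < 64481, chkE tab 7 u = true := by
  have h0 : ∀ u < 0, (fun u => chkE tab 7 u) u = true := range_zero
  have h1 : ∀ u < 1907, (fun u => chkE tab 7 u) u = true := ext_range (a := 0) (len := 1907) h0 e7_0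
  have h2 : ∀ u < 4033, (fun u => chkE tab 7 u) u = true := ext_range (a := 1907) (len := 2126) h1 e7_1
  have h3 : ∀ u < 6242, (fun u => chkE tab 7 u) u = true := ext_range (a := 4033) (len := 2209) h2 e7_2
  have h4 : ∀ u < 8433, (fun u => chkE tab 7 u) u = true := ext_range (a := 6242) (len := 2191) h3 e7_3
  have h5 : ∀ u < 10571, (fun u => chkE tab 7 u) u = true := ext_range (a := 8433) (len := 2138) h4 e7_4
  have h6 : ∀ u < 12788, (fun u => chkE tab 7 u) u = true := ext_range (a := 10571) (len := 2217) h5 e7_5
  have h7 : ∀ u < 14946, (fun u => chkE tab 7 u) u = true := ext_range (a := 12788) (len := 2158) h6 e7_6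
  have h8 : ∀ u < 17148, (fun u => chkE tab 7 u) u = true := ext_range (a := 14946) (len := 2202) h7 e7_7
  have h9 : ∀ u < 19284, (fun u => chkE tab 7 u) u = true := ext_range (a := 17148) (len := 2136) h8 e7_8
  have h10 : ∀ u < 21448, (fun u => chkE tab 7 u) u = true := ext_range (a := 19284) (len := 2164) h9 e7_9
  have h11 : ∀ u < 23588, (fun u => chkE tab 7 u) u = true := ext_range (a := 21448) (len := 2140) h10 e7_10
  have h12 : ∀ u < 25777, (fun u => chkE tab 7 u) u = true := ext_range (a := 23588) (len := 2189) h11 e7_11
  have h13 : ∀ u < 27860, (fun u => chkE tab 7 u) u = true := ext_range (a := 25777) (len := 2083) h12 e7_12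
  have h14 : ∀ u < 29973, (fun u => chkE tab 7 u) u = true := ext_range (a := 27860) (len := 2113) h13 e7_13
  have h15 : ∀ u < 32309, (fun u => chkE tab 7 u) u = true := ext_range (a := 29973) (len := 2336) h14 e7_14
  have h16 : ∀ u < 37929, (fun u => chkE tab 7 u) u = true := ext_range (a := 32309) (len := 5620) h15 e7_15
  have h17 : ∀ u < 42602, (fun u => chkE tab 7 u) u = true := ext_range (a := 37929) (len := 4673) h16 e7_16
  have h18 : ∀ u < 45828, (fun u => chkE tab 7 u) u = true := ext_range (a := 42602) (len := 3226) h17 e7_17
  have h19 : ∀ u < 48445, (fun u => chkE tab 7 u) u = true := ext_range (a := 45828) (len := 2617) h18 e7_18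
  have h20 : ∀ u < 50813, (fun u => chkE tab 7 u) u = true := ext_range (a := 48445) (len := 2368) h19 e7_19
  have h21 : ∀ u < 53412, (fun u => chkE tab 7 u) u = true := ext_range (a := 50813) (len := 2599) h20 e7_20
  have h22 : ∀ u < 55895, (fun u => chkE tab 7 u) u = true := ext_range (a := 53412) (len := 2483) h21 e7_21
  have h23 : ∀ u < 58407, (fun u => chkE tab 7 u) u = true := ext_range (a := 55895) (len := 2512) h22 e7_22
  have h24 : ∀ u < 60916, (fun u => chkE tab 7 u) u = true := ext_range (a := 58407) (len := 2509) h23 e7_23
  have h25 : ∀ u < 63574, (fun u => chkE tab 7 u) u = true := ext_range (a := 60916) (len := 2658) h24 e7_24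
  have h26 : ∀ u < 64481, (fun u => chkE tab 7 u) u = true := ext_range (a := 63574) (len := 907) h25 e7_25
  exact h26

theorem hE8 : ∀ u < 64481, chkE tab 8 u = true := by
  have h0 : ∀ u < 0, (fun u => chkE tab 8 u) u = true := range_zero
  have h1 : ∀ u < 2400, (fun u => chkE tab 8 u) u = true := ext_range (a := 0) (len := 2400) h0 e8_0
  have h2 : ∀ u < 5128, (fun u => chkE tab 8 u) u = true := ext_range (a := 2400) (len := 2728) h1 e8_1
  have h3 : ∀ u < 7977, (fun u => chkE tab 8 u) u = true := ext_range (a := 5128) (len := 2849) h2 e8_2
  have h4 : ∀ u < 10914, (fun u => chkE tab 8 u) u = true := ext_range (a := 7977) (len := 2937) h3 e8_3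
  have h5 : ∀ u < 13566, (fun u => chkE tab 8 u) u = true := ext_range (a := 10914) (len := 2652) h4 e8_4
  have h6 : ∀ u < 16516, (fun u => chkE tab 8 u) u = true := ext_range (a := 13566) (len := 2950) h5 e8_5
  have h7 : ∀ u < 19156, (fun u => chkE tab 8 u) u = true := ext_range (a := 16516) (len := 2640) h6 e8_6
  have h8 : ∀ u < 22134, (fun u => chkE tab 8 u) u = true := ext_range (a := 19156) (len := 2978) h7 e8_7
  have h9 : ∀ u < 24847, (fun u => chkE tab 8 u) u = true := ext_range (a := 22134) (len := 2713) h8 e8_8
  have h10 : ∀ u < 27480, (fun u => chkE tab 8 u) u = true := ext_range (a := 24847) (len := 2633) h9 e8_9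
  have h11 : ∀ u < 30281, (fun u => chkE tab 8 u) u = true := ext_range (a := 27480) (len := 2801) h10 e8_10
  have h12 : ∀ u < 33953, (fun u => chkE tab 8 u) u = true := ext_range (a := 30281) (len := 3672) h11 e8_11
  have h13 : ∀ u < 38984, (fun u => chkE tab 8 u) u = true := ext_range (a := 33953) (len := 5031) h12 e8_12
  have h14 : ∀ u < 43194, (fun u => chkE tab 8 u) u = true := ext_range (a := 38984) (len := 4210) h13 e8_13
  have h15 : ∀ u < 47372, (fun u => chkE tab 8 u) u = true := ext_range (a := 43194) (len := 4178) h14 e8_14
  have h16 : ∀ u < 50722, (fun u => chkE tab 8 u) u = true := ext_range (a := 47372) (len := 3350) h15 e8_15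
  have h17 : ∀ u < 54324, (fun u => chkE tab 8 u) u = true := ext_range (a := 50722) (len := 3602) h16 e8_16
  have h18 : ∀ u < 57100, (fun u => chkE tab 8 u) u = true := ext_range (a := 54324) (len := 2776) h17 e8_17
  have h19 : ∀ u < 59387, (fun u => chkE tab 8 u) u = true := ext_range (a := 57100) (len := 2287) h18 e8_18
  have h20 : ∀ u < 61946, (fun u => chkE tab 8 u) u = true := ext_range (a := 59387) (len := 2559) h19 e8_19
  have h21 : ∀ u < 64481, (fun u => chkE tab 8 u) u = true := ext_range (a := 61946) (len := 2535) h20 e8_20
  exact h21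

theorem hE9 : ∀ u < 64481, chkE tab 9 u = true := by
  have h0 : ∀ u < 0, (fun u => chkE tab 9 u) u = true := range_zero
  have h1 : ∀ u < 2193, (fun u => chkE tab 9 u) u = true := ext_range (a := 0) (len := 2193) h0 e9_0
  have h2 : ∀ u < 4729, (fun u => chkE tab 9 u) u = true := ext_range (a := 2193) (len := 2536) h1 e9_1
  have h3 : ∀ u < 7690, (fun u => chkE tab 9 u) u = true := ext_range (a := 4729) (len := 2961) h2 e9_2
  have h4 : ∀ u < 10839, (fun u => chkE tab 9 u) u = true := ext_range (a := 7690) (len := 3149) h3 e9_3
  have h5 : ∀ u < 14152, (fun u => chkE tab 9 u) u = true := ext_range (a := 10839) (len := 3313) h4 e9_4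
  have h6 : ∀ u < 17510, (fun u => chkE tab 9 u) u = true := ext_range (a := 14152) (len := 3358) h5 e9_5
  have h7 : ∀ u < 21002, (fun u => chkE tab 9 u) u = true := ext_range (a := 17510) (len := 3492) h6 e9_6
  have h8 : ∀ u < 24596, (fun u => chkE tab 9 u) u = true := ext_range (a := 21002) (len := 3594) h7 e9_7
  have h9 : ∀ u < 28040, (fun u => chkE tab 9 u) u = true := ext_range (a := 24596) (len := 3444) h8 e9_8
  have h10 : ∀ u < 31889, (fun u => chkE tab 9 u) u = true := ext_range (a := 28040) (len := 3849) h9 e9_9
  have h11 : ∀ u < 36738, (fun u => chkE tab 9 u) u = true := ext_range (a := 31889) (len := 4849) h10 e9_10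
  have h12 : ∀ u < 42164, (fun u => chkE tab 9 u) u = true := ext_range (a := 36738) (len := 5426) h11 e9_11
  have h13 : ∀ u < 47431, (fun u => chkE tab 9 u) u = true := ext_range (a := 42164) (len := 5267) h12 e9_12
  have h14 : ∀ u < 50693, (fun u => chkE tab 9 u) u = true := ext_range (a := 47431) (len := 3262) h13 e9_13
  have h15 : ∀ u < 53360, (fun u => chkE tab 9 u) u = true := ext_range (a := 50693) (len := 2667) h14 e9_14
  have h16 : ∀ u < 55905, (fun u => chkE tab 9 u) u = true := ext_range (a := 53360) (len := 2545) h15 e9_15
  have h17 : ∀ u < 58249, (fun u => chkE tab 9 u) u = true := ext_range (a := 55905) (len := 2344) h16 e9_16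
  have h18 : ∀ u < 60714, (fun u => chkE tab 9 u) u = true := ext_range (a := 58249) (len := 2465) h17 e9_17
  have h19 : ∀ u < 63571, (fun u => chkE tab 9 u) u = true := ext_range (a := 60714) (len := 2857) h18 e9_18
  have h20 : ∀ u < 64481, (fun u => chkE tab 9 u) u = true := ext_range (a := 63571) (len := 910) h19 e9_19
  exact h20

theorem hL : ∀ u < 64481, chkL tab u = true := by
  have h0 : ∀ u < 0, (fun u => chkL tab u) u = true := range_zero
  have h1 : ∀ u < 5676, (fun u => chkL tab u) u = true := ext_range (a := 0) (len := 5676) h0 l_0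
  have h2 : ∀ u < 8366, (fun u => chkL tab u) u = true := ext_range (a := 5676) (len := 2690) h1 l_1
  have h3 : ∀ u < 11066, (fun u => chkL tab u) u = true := ext_range (a := 8366) (len := 2700) h2 l_2
  have h4 : ∀ u < 12808, (fun u => chkL tab u) u = true := ext_range (a := 11066) (len := 1742) h3 l_3
  have h5 : ∀ u < 15688, (fun u => chkL tab u) u = true := ext_range (a := 12808) (len := 2880) h4 l_4
  have h6 : ∀ u < 17449, (fun u => chkL tab u) u = true := ext_range (a := 15688) (len := 1761) h5 l_5
  have h7 : ∀ u < 19049, (fun u => chkL tab u) u = true := ext_range (a := 17449) (len := 1600) h6 l_6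
  have h8 : ∀ u < 22198, (fun u => chkL tab u) u = true := ext_range (a := 19049) (len := 3149) h7 l_7
  have h9 : ∀ u < 23883, (fun u => chkL tab u) u = true := ext_range (a := 22198) (len := 1685) h8 l_8
  have h10 : ∀ u < 25528, (fun u => chkL tab u) u = true := ext_range (a := 23883) (len := 1645) h9 l_9
  have h11 : ∀ u < 27128, (fun u => chkL tab u) u = true := ext_range (a := 25528) (len := 1600) h10 l_10
  have h12 : ∀ u < 28942, (fun u => chkL tab u) u = true := ext_range (a := 27128) (len := 1814) h11 l_11
  have h13 : ∀ u < 32021, (fun u => chkL tab u) u = true := ext_range (a := 28942) (len := 3079) h12 l_12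
  have h14 : ∀ u < 33754, (fun u => chkL tab u) u = true := ext_range (a := 32021) (len := 1733) h13 l_13
  have h15 : ∀ u < 35432, (fun u => chkL tab u) u = true := ext_range (a := 33754) (len := 1678) h14 l_14
  have h16 : ∀ u < 37015, (fun u => chkL tab u) u = true := ext_range (a := 35432) (len := 1583) h15 l_15
  have h17 : ∀ u < 38615, (fun u => chkL tab u) u = true := ext_range (a := 37015) (len := 1600) h16 l_16
  have h18 : ∀ u < 40215, (fun u => chkL tab u) u = true := ext_range (a := 38615) (len := 1600) h17 l_17
  have h19 : ∀ u < 41875, (fun u => chkL tab u) u = true := ext_range (a := 40215) (len := 1660) h18 l_18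
  have h20 : ∀ u < 44514, (fun u => chkL tab u) u = true := ext_range (a := 41875) (len := 2639) h19 l_19
  have h21 : ∀ u < 64481, (fun u => chkL tab u) u = true := ext_range (a := 44514) (len := 19967) h20 l_20
  exact h21

theorem hF : ∀ u < 31671, chkFin tab u = true := by
  have h0 : ∀ u < 0, (fun u => chkFin tab u) u = true := range_zero
  have h1 : ∀ u < 250, (fun u => chkFin tab u) u = true := ext_range (a := 0) (len := 250) h0 f_0
  have h2 : ∀ u < 500, (fun u => chkFin tab u) u = true := ext_range (a := 250) (len := 250) h1 f_1
  have h3 : ∀ u < 750, (fun u => chkFin tab u) u = true := ext_range (a := 500) (len := 250) h2 f_2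
  have h4 : ∀ u < 1000, (fun u => chkFin tab u) u = true := ext_range (a := 750) (len := 250) h3 f_3
  have h5 : ∀ u < 1250, (fun u => chkFin tab u) u = true := ext_range (a := 1000) (len := 250) h4 f_4
  have h6 : ∀ u < 1500, (fun u => chkFin tab u) u = true := ext_range (a := 1250) (len := 250) h5 f_5
  have h7 : ∀ u < 1750, (fun u => chkFin tab u) u = true := ext_range (a := 1500) (len := 250) h6 f_6
  have h8 : ∀ u < 2000, (fun u => chkFin tab u) u = true := ext_range (a := 1750) (len := 250) h7 f_7
  have h9 : ∀ u < 2250, (fun u => chkFin tab u) u = true := ext_range (a := 2000) (len := 250) h8 f_8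
  have h10 : ∀ u < 2500, (fun u => chkFin tab u) u = true := ext_range (a := 2250) (len := 250) h9 f_9
  have h11 : ∀ u < 2750, (fun u => chkFin tab u) u = true := ext_range (a := 2500) (len := 250) h10 f_10
  have h12 : ∀ u < 3000, (fun u => chkFin tab u) u = true := ext_range (a := 2750) (len := 250) h11 f_11
  have h13 : ∀ u < 3250, (fun u => chkFin tab u) u = true := ext_range (a := 3000) (len := 250) h12 f_12
  have h14 : ∀ u < 3500, (fun u => chkFin tab u) u = true := ext_range (a := 3250) (len := 250) h13 f_13
  have h15 : ∀ u < 3750, (fun u => chkFin tab u) u = true := ext_range (a := 3500) (len := 250) h14 f_14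
  have h16 : ∀ u < 4000, (fun u => chkFin tab u) u = true := ext_range (a := 3750) (len := 250) h15 f_15
  have h17 : ∀ u < 4250, (fun u => chkFin tab u) u = true := ext_range (a := 4000) (len := 250) h16 f_16
  have h18 : ∀ u < 4500, (fun u => chkFin tab u) u = true := ext_range (a := 4250) (len := 250) h17 f_17
  have h19 : ∀ u < 4750, (fun u => chkFin tab u) u = true := ext_range (a := 4500) (len := 250) h18 f_18
  have h20 : ∀ u < 5000, (fun u => chkFin tab u) u = true := ext_range (a := 4750) (len := 250) h19 f_19
  have h21 : ∀ u < 5250, (fun u => chkFin tab u) u = true := ext_range (a := 5000) (len := 250) h20 f_20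
  have h22 : ∀ u < 5500, (fun u => chkFin tab u) u = true := ext_range (a := 5250) (len := 250) h21 f_21
  have h23 : ∀ u < 5750, (fun u => chkFin tab u) u = true := ext_range (a := 5500) (len := 250) h22 f_22
  have h24 : ∀ u < 6000, (fun u => chkFin tab u) u = true := ext_range (a := 5750) (len := 250) h23 f_23
  have h25 : ∀ u < 6250, (fun u => chkFin tab u) u = true := ext_range (a := 6000) (len := 250) h24 f_24
  have h26 : ∀ u < 6500, (fun u => chkFin tab u) u = true := ext_range (a := 6250) (len := 250) h25 f_25
  have h27 : ∀ u < 6750, (fun u => chkFin tab u) u = true := ext_range (a := 6500) (len := 250) h26 f_26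
  have h28 : ∀ u < 7000, (fun u => chkFin tab u) u = true := ext_range (a := 6750) (len := 250) h27 f_27
  have h29 : ∀ u < 7250, (fun u => chkFin tab u) u = true := ext_range (a := 7000) (len := 250) h28 f_28
  have h30 : ∀ u < 7500, (fun u => chkFin tab u) u = true := ext_range (a := 7250) (len := 250) h29 f_29
  have h31 : ∀ u < 7750, (fun u => chkFin tab u) u = true := ext_range (a := 7500) (len := 250) h30 f_30
  have h32 : ∀ u < 8000, (fun u => chkFin tab u) u = true := ext_range (a := 7750) (len := 250) h31 f_31
  have h33 : ∀ u < 8250, (fun u => chkFin tab u) u = true := ext_range (a := 8000) (len := 250) h32 f_32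
  have h34 : ∀ u < 8500, (fun u => chkFin tab u) u = true := ext_range (a := 8250) (len := 250) h33 f_33
  have h35 : ∀ u < 8750, (fun u => chkFin tab u) u = true := ext_range (a := 8500) (len := 250) h34 f_34
  have h36 : ∀ u < 9000, (fun u => chkFin tab u) u = true := ext_range (a := 8750) (len := 250) h35 f_35
  have h37 : ∀ u < 9250, (fun u => chkFin tab u) u = true := ext_range (a := 9000) (len := 250) h36 f_36
  have h38 : ∀ u < 9500, (fun u => chkFin tab u) u = true := ext_range (a := 9250) (len := 250) h37 f_37
  have h39 : ∀ u < 9750, (fun u => chkFin tab u) u = true := ext_range (a := 9500) (len := 250) h38 f_38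
  have h40 : ∀ u < 10000, (fun u => chkFin tab u) u = true := ext_range (a := 9750) (len := 250) h39 f_39
  have h41 : ∀ u < 10250, (fun u => chkFin tab u) u = true := ext_range (a := 10000) (len := 250) h40 f_40
  have h42 : ∀ u < 10500, (fun u => chkFin tab u) u = true := ext_range (a := 10250) (len := 250) h41 f_41
  have h43 : ∀ u < 10750, (fun u => chkFin tab u) u = true := ext_range (a := 10500) (len := 250) h42 f_42
  have h44 : ∀ u < 11000, (fun u => chkFin tab u) u = true := ext_range (a := 10750) (len := 250) h43 f_43
  have h45 : ∀ u < 11250, (fun u => chkFin tab u) u = true := ext_range (a := 11000) (len := 250) h44 f_44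
  have h46 : ∀ u < 11500, (fun u => chkFin tab u) u = true := ext_range (a := 11250) (len := 250) h45 f_45
  have h47 : ∀ u < 11750, (fun u => chkFin tab u) u = true := ext_range (a := 11500) (len := 250) h46 f_46
  have h48 : ∀ u < 12000, (fun u => chkFin tab u) u = true := ext_range (a := 11750) (len := 250) h47 f_47
  have h49 : ∀ u < 12250, (fun u => chkFin tab u) u = true := ext_range (a := 12000) (len := 250) h48 f_48
  have h50 : ∀ u < 12500, (fun u => chkFin tab u) u = true := ext_range (a := 12250) (len := 250) h49 f_49
  have h51 : ∀ u < 12750, (fun u => chkFin tab u) u = true := ext_range (a := 12500) (len := 250) h50 f_50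
  have h52 : ∀ u < 13000, (fun u => chkFin tab u) u = true := ext_range (a := 12750) (len := 250) h51 f_51
  have h53 : ∀ u < 13250, (fun u => chkFin tab u) u = true := ext_range (a := 13000) (len := 250) h52 f_52
  have h54 : ∀ u < 13500, (fun u => chkFin tab u) u = true := ext_range (a := 13250) (len := 250) h53 f_53
  have h55 : ∀ u < 13750, (fun u => chkFin tab u) u = true := ext_range (a := 13500) (len := 250) h54 f_54
  have h56 : ∀ u < 14000, (fun u => chkFin tab u) u = true := ext_range (a := 13750) (len := 250) h55 f_55
  have h57 : ∀ u < 14250, (fun u => chkFin tab u) u = true := ext_range (a := 14000) (len := 250) h56 f_56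
  have h58 : ∀ u < 14500, (fun u => chkFin tab u) u = true := ext_range (a := 14250) (len := 250) h57 f_57
  have h59 : ∀ u < 14750, (fun u => chkFin tab u) u = true := ext_range (a := 14500) (len := 250) h58 f_58
  have h60 : ∀ u < 15000, (fun u => chkFin tab u) u = true := ext_range (a := 14750) (len := 250) h59 f_59
  have h61 : ∀ u < 15250, (fun u => chkFin tab u) u = true := ext_range (a := 15000) (len := 250) h60 f_60
  have h62 : ∀ u < 15500, (fun u => chkFin tab u) u = true := ext_range (a := 15250) (len := 250) h61 f_61
  have h63 : ∀ u < 15750, (fun u => chkFin tab u) u = true := ext_range (a := 15500) (len := 250) h62 f_62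
  have h64 : ∀ u < 16000, (fun u => chkFin tab u) u = true := ext_range (a := 15750) (len := 250) h63 f_63
  have h65 : ∀ u < 16250, (fun u => chkFin tab u) u = true := ext_range (a := 16000) (len := 250) h64 f_64
  have h66 : ∀ u < 16500, (fun u => chkFin tab u) u = true := ext_range (a := 16250) (len := 250) h65 f_65
  have h67 : ∀ u < 16750, (fun u => chkFin tab u) u = true := ext_range (a := 16500) (len := 250) h66 f_66
  have h68 : ∀ u < 17000, (fun u => chkFin tab u) u = true := ext_range (a := 16750) (len := 250) h67 f_67
  have h69 : ∀ u < 17250, (fun u => chkFin tab u) u = true := ext_range (a := 17000) (len := 250) h68 f_68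
  have h70 : ∀ u < 17500, (fun u => chkFin tab u) u = true := ext_range (a := 17250) (len := 250) h69 f_69
  have h71 : ∀ u < 17750, (fun u => chkFin tab u) u = true := ext_range (a := 17500) (len := 250) h70 f_70
  have h72 : ∀ u < 18000, (fun u => chkFin tab u) u = true := ext_range (a := 17750) (len := 250) h71 f_71
  have h73 : ∀ u < 18250, (fun u => chkFin tab u) u = true := ext_range (a := 18000) (len := 250) h72 f_72
  have h74 : ∀ u < 18500, (fun u => chkFin tab u) u = true := ext_range (a := 18250) (len := 250) h73 f_73
  have h75 : ∀ u < 18750, (fun u => chkFin tab u) u = true := ext_range (a := 18500) (len := 250) h74 f_74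
  have h76 : ∀ u < 19000, (fun u => chkFin tab u) u = true := ext_range (a := 18750) (len := 250) h75 f_75
  have h77 : ∀ u < 19250, (fun u => chkFin tab u) u = true := ext_range (a := 19000) (len := 250) h76 f_76
  have h78 : ∀ u < 19500, (fun u => chkFin tab u) u = true := ext_range (a := 19250) (len := 250) h77 f_77
  have h79 : ∀ u < 19750, (fun u => chkFin tab u) u = true := ext_range (a := 19500) (len := 250) h78 f_78
  have h80 : ∀ u < 20000, (fun u => chkFin tab u) u = true := ext_range (a := 19750) (len := 250) h79 f_79
  have h81 : ∀ u < 20250, (fun u => chkFin tab u) u = true := ext_range (a := 20000) (len := 250) h80 f_80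
  have h82 : ∀ u < 20500, (fun u => chkFin tab u) u = true := ext_range (a := 20250) (len := 250) h81 f_81
  have h83 : ∀ u < 20750, (fun u => chkFin tab u) u = true := ext_range (a := 20500) (len := 250) h82 f_82
  have h84 : ∀ u < 21000, (fun u => chkFin tab u) u = true := ext_range (a := 20750) (len := 250) h83 f_83
  have h85 : ∀ u < 21250, (fun u => chkFin tab u) u = true := ext_range (a := 21000) (len := 250) h84 f_84
  have h86 : ∀ u < 21500, (fun u => chkFin tab u) u = true := ext_range (a := 21250) (len := 250) h85 f_85
  have h87 : ∀ u < 21750, (fun u => chkFin tab u) u = true := ext_range (a := 21500) (len := 250) h86 f_86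
  have h88 : ∀ u < 22000, (fun u => chkFin tab u) u = true := ext_range (a := 21750) (len := 250) h87 f_87
  have h89 : ∀ u < 22250, (fun u => chkFin tab u) u = true := ext_range (a := 22000) (len := 250) h88 f_88
  have h90 : ∀ u < 22500, (fun u => chkFin tab u) u = true := ext_range (a := 22250) (len := 250) h89 f_89
  have h91 : ∀ u < 22750, (fun u => chkFin tab u) u = true := ext_range (a := 22500) (len := 250) h90 f_90
  have h92 : ∀ u < 23000, (fun u => chkFin tab u) u = true := ext_range (a := 22750) (len := 250) h91 f_91
  have h93 : ∀ u < 23250, (fun u => chkFin tab u) u = true := ext_range (a := 23000) (len := 250) h92 f_92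
  have h94 : ∀ u < 23500, (fun u => chkFin tab u) u = true := ext_range (a := 23250) (len := 250) h93 f_93
  have h95 : ∀ u < 23750, (fun u => chkFin tab u) u = true := ext_range (a := 23500) (len := 250) h94 f_94
  have h96 : ∀ u < 24000, (fun u => chkFin tab u) u = true := ext_range (a := 23750) (len := 250) h95 f_95
  have h97 : ∀ u < 24250, (fun u => chkFin tab u) u = true := ext_range (a := 24000) (len := 250) h96 f_96
  have h98 : ∀ u < 24500, (fun u => chkFin tab u) u = true := ext_range (a := 24250) (len := 250) h97 f_97
  have h99 : ∀ u < 24750, (fun u => chkFin tab u) u = true := ext_range (a := 24500) (len := 250) h98 f_98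
  have h100 : ∀ u < 25000, (fun u => chkFin tab u) u = true := ext_range (a := 24750) (len := 250) h99 f_99
  have h101 : ∀ u < 25250, (fun u => chkFin tab u) u = true := ext_range (a := 25000) (len := 250) h100 f_100
  have h102 : ∀ u < 25500, (fun u => chkFin tab u) u = true := ext_range (a := 25250) (len := 250) h101 f_101
  have h103 : ∀ u < 25750, (fun u => chkFin tab u) u = true := ext_range (a := 25500) (len := 250) h102 f_102
  have h104 : ∀ u < 26000, (fun u => chkFin tab u) u = true := ext_range (a := 25750) (len := 250) h103 f_103
  have h105 : ∀ u < 26250, (fun u => chkFin tab u) u = true := ext_range (a := 26000) (len := 250) h104 f_104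
  have h106 : ∀ u < 26500, (fun u => chkFin tab u) u = true := ext_range (a := 26250) (len := 250) h105 f_105
  have h107 : ∀ u < 26750, (fun u => chkFin tab u) u = true := ext_range (a := 26500) (len := 250) h106 f_106
  have h108 : ∀ u < 27000, (fun u => chkFin tab u) u = true := ext_range (a := 26750) (len := 250) h107 f_107
  have h109 : ∀ u < 27250, (fun u => chkFin tab u) u = true := ext_range (a := 27000) (len := 250) h108 f_108
  have h110 : ∀ u < 27500, (fun u => chkFin tab u) u = true := ext_range (a := 27250) (len := 250) h109 f_109
  have h111 : ∀ u < 27750, (fun u => chkFin tab u) u = true := ext_range (a := 27500) (len := 250) h110 f_110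
  have h112 : ∀ u < 28000, (fun u => chkFin tab u) u = true := ext_range (a := 27750) (len := 250) h111 f_111
  have h113 : ∀ u < 28250, (fun u => chkFin tab u) u = true := ext_range (a := 28000) (len := 250) h112 f_112
  have h114 : ∀ u < 28500, (fun u => chkFin tab u) u = true := ext_range (a := 28250) (len := 250) h113 f_113
  have h115 : ∀ u < 28750, (fun u => chkFin tab u) u = true := ext_range (a := 28500) (len := 250) h114 f_114
  have h116 : ∀ u < 29000, (fun u => chkFin tab u) u = true := ext_range (a := 28750) (len := 250) h115 f_115
  have h117 : ∀ u < 29250, (fun u => chkFin tab u) u = true := ext_range (a := 29000) (len := 250) h116 f_116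
  have h118 : ∀ u < 29500, (fun u => chkFin tab u) u = true := ext_range (a := 29250) (len := 250) h117 f_117
  have h119 : ∀ u < 29750, (fun u => chkFin tab u) u = true := ext_range (a := 29500) (len := 250) h118 f_118
  have h120 : ∀ u < 30000, (fun u => chkFin tab u) u = true := ext_range (a := 29750) (len := 250) h119 f_119
  have h121 : ∀ u < 30250, (fun u => chkFin tab u) u = true := ext_range (a := 30000) (len := 250) h120 f_120
  have h122 : ∀ u < 30500, (fun u => chkFin tab u) u = true := ext_range (a := 30250) (len := 250) h121 f_121
  have h123 : ∀ u < 30750, (fun u => chkFin tab u) u = true := ext_range (a := 30500) (len := 250) h122 f_122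
  have h124 : ∀ u < 31000, (fun u => chkFin tab u) u = true := ext_range (a := 30750) (len := 250) h123 f_123
  have h125 : ∀ u < 31250, (fun u => chkFin tab u) u = true := ext_range (a := 31000) (len := 250) h124 f_124
  have h126 : ∀ u < 31500, (fun u => chkFin tab u) u = true := ext_range (a := 31250) (len := 250) h125 f_125
  have h127 : ∀ u < 31671, (fun u => chkFin tab u) u = true := ext_range (a := 31500) (len := 171) h126 f_126
  exact h127

theorem hC : ∀ u < 64481, chkCls tab u = true := by
  have h0 : ∀ u < 0, (fun u => chkCls tab u) u = true := range_zero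
  have h1 : ∀ u < 2667, (fun u => chkCls tab u) u = true := ext_range (a := 0) (len := 2667) h0 c_0
  have h2 : ∀ u < 5334, (fun u => chkCls tab u) u = true := ext_range (a := 2667) (len := 2667) h1 c_1
  have h3 : ∀ u < 8001, (fun u => chkCls tab u) u = true := ext_range (a := 5334) (len := 2667) h2 c_2
  have h4 : ∀ u < 10668, (fun u => chkCls tab u) u = true := ext_range (a := 8001) (len := 2667) h3 c_3
  have h5 : ∀ u < 13335, (fun u => chkCls tab u) u = true := ext_range (a := 10668) (len := 2667) h4 c_4
  have h6 : ∀ u < 16002, (fun u => chkCls tab u) u = true := ext_range (a := 13335) (len := 2667) h5 c_5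
  have h7 : ∀ u < 18669, (fun u => chkCls tab u) u = true := ext_range (a := 16002) (len := 2667) h6 c_6
  have h8 : ∀ u < 21336, (fun u => chkCls tab u) u = true := ext_range (a := 18669) (len := 2667) h7 c_7
  have h9 : ∀ u < 24003, (fun u => chkCls tab u) u = true := ext_range (a := 21336) (len := 2667) h8 c_8
  have h10 : ∀ u < 26670, (fun u => chkCls tab u) u = true := ext_range (a := 24003) (len := 2667) h9 c_9
  have h11 : ∀ u < 29337, (fun u => chkCls tab u) u = true := ext_range (a := 26670) (len := 2667) h10 c_10
  have h12 : ∀ u < 32004, (fun u => chkCls tab u) u = true := ext_range (a := 29337) (len := 2667) h11 c_11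
  have h13 : ∀ u < 34671, (fun u => chkCls tab u) u = true := ext_range (a := 32004) (len := 2667) h12 c_12
  have h14 : ∀ u < 37338, (fun u => chkCls tab u) u = true := ext_range (a := 34671) (len := 2667) h13 c_13
  have h15 : ∀ u < 40005, (fun u => chkCls tab u) u = true := ext_range (a := 37338) (len := 2667) h14 c_14
  have h16 : ∀ u < 42672, (fun u => chkCls tab u) u = true := ext_range (a := 40005) (len := 2667) h15 c_15
  have h17 : ∀ u < 45339, (fun u => chkCls tab u) u = true := ext_range (a := 42672) (len := 2667) h16 c_16
  have h18 : ∀ u < 48006, (fun u => chkCls tab u) u = true := ext_range (a := 45339) (len := 2667) h17 c_17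
  have h19 : ∀ u < 50673, (fun u => chkCls tab u) u = true := ext_range (a := 48006) (len := 2667) h18 c_18
  have h20 : ∀ u < 53340, (fun u => chkCls tab u) u = true := ext_range (a := 50673) (len := 2667) h19 c_19
  have h21 : ∀ u < 56007, (fun u => chkCls tab u) u = true := ext_range (a := 53340) (len := 2667) h20 c_20
  have h22 : ∀ u < 58674, (fun u => chkCls tab u) u = true := ext_range (a := 56007) (len := 2667) h21 c_21
  have h23 : ∀ u < 61341, (fun u => chkCls tab u) u = true := ext_range (a := 58674) (len := 2667) h22 c_22
  have h24 : ∀ u < 64008, (fun u => chkCls tab u) u = true := ext_range (a := 61341) (len := 2667) h23 c_23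
  have h25 : ∀ u < 64481, (fun u => chkCls tab u) u = true := ext_range (a := 64008) (len := 473) h24 c_24
  exact h25

theorem hM1 : ∀ u < 31671, chkM1 tab u = true := by
  have h0 : ∀ u < 0, (fun u => chkM1 tab u) u = true := range_zero
  have h1 : ∀ u < 640, (fun u => chkM1 tab u) u = true := ext_range (a := 0) (len := 640) h0 m1_0
  have h2 : ∀ u < 1280, (fun u => chkM1 tab u) u = true := ext_range (a := 640) (len := 640) h1 m1_1
  have h3 : ∀ u < 1920, (fun u => chkM1 tab u) u = true := ext_range (a := 1280) (len := 640) h2 m1_2
  have h4 : ∀ u < 2560, (fun u => chkM1 tab u) u = true := ext_range (a := 1920) (len := 640) h3 m1_3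
  have h5 : ∀ u < 3200, (fun u => chkM1 tab u) u = true := ext_range (a := 2560) (len := 640) h4 m1_4
  have h6 : ∀ u < 3840, (fun u => chkM1 tab u) u = true := ext_range (a := 3200) (len := 640) h5 m1_5
  have h7 : ∀ u < 4480, (fun u => chkM1 tab u) u = true := ext_range (a := 3840) (len := 640) h6 m1_6
  have h8 : ∀ u < 5120, (fun u => chkM1 tab u) u = true := ext_range (a := 4480) (len := 640) h7 m1_7
  have h9 : ∀ u < 5760, (fun u => chkM1 tab u) u = true := ext_range (a := 5120) (len := 640) h8 m1_8
  have h10 : ∀ u < 6400, (fun u => chkM1 tab u) u = true := ext_range (a := 5760) (len := 640) h9 m1_9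
  have h11 : ∀ u < 7040, (fun u => chkM1 tab u) u = true := ext_range (a := 6400) (len := 640) h10 m1_10
  have h12 : ∀ u < 7680, (fun u => chkM1 tab u) u = true := ext_range (a := 7040) (len := 640) h11 m1_11
  have h13 : ∀ u < 8320, (fun u => chkM1 tab u) u = true := ext_range (a := 7680) (len := 640) h12 m1_12
  have h14 : ∀ u < 8960, (fun u => chkM1 tab u) u = true := ext_range (a := 8320) (len := 640) h13 m1_13
  have h15 : ∀ u < 9600, (fun u => chkM1 tab u) u = true := ext_range (a := 8960) (len := 640) h14 m1_14
  have h16 : ∀ u < 10240, (fun u => chkM1 tab u) u = true := ext_range (a := 9600) (len := 640) h15 m1_15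
  have h17 : ∀ u < 10880, (fun u => chkM1 tab u) u = true := ext_range (a := 10240) (len := 640) h16 m1_16
  have h18 : ∀ u < 11520, (fun u => chkM1 tab u) u = true := ext_range (a := 10880) (len := 640) h17 m1_17
  have h19 : ∀ u < 12160, (fun u => chkM1 tab u) u = true := ext_range (a := 11520) (len := 640) h18 m1_18
  have h20 : ∀ u < 12800, (fun u => chkM1 tab u) u = true := ext_range (a := 12160) (len := 640) h19 m1_19
  have h21 : ∀ u < 13440, (fun u => chkM1 tab u) u = true := ext_range (a := 12800) (len := 640) h20 m1_20
  have h22 : ∀ u < 14080, (fun u => chkM1 tab u) u = true := ext_range (a := 13440) (len := 640) h21 m1_21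
  have h23 : ∀ u < 14720, (fun u => chkM1 tab u) u = true := ext_range (a := 14080) (len := 640) h22 m1_22
  have h24 : ∀ u < 15360, (fun u => chkM1 tab u) u = true := ext_range (a := 14720) (len := 640) h23 m1_23
  have h25 : ∀ u < 16000, (fun u => chkM1 tab u) u = true := ext_range (a := 15360) (len := 640) h24 m1_24
  have h26 : ∀ u < 16640, (fun u => chkM1 tab u) u = true := ext_range (a := 16000) (len := 640) h25 m1_25
  have h27 : ∀ u < 17280, (fun u => chkM1 tab u) u = true := ext_range (a := 16640) (len := 640) h26 m1_26
  have h28 : ∀ u < 17920, (fun u => chkM1 tab u) u = true := ext_range (a := 17280) (len := 640) h27 m1_27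
  have h29 : ∀ u < 18560, (fun u => chkM1 tab u) u = true := ext_range (a := 17920) (len := 640) h28 m1_28
  have h30 : ∀ u < 19200, (fun u => chkM1 tab u) u = true := ext_range (a := 18560) (len := 640) h29 m1_29
  have h31 : ∀ u < 19840, (fun u => chkM1 tab u) u = true := ext_range (a := 19200) (len := 640) h30 m1_30
  have h32 : ∀ u < 20480, (fun u => chkM1 tab u) u = true := ext_range (a := 19840) (len := 640) h31 m1_31
  have h33 : ∀ u < 21120, (fun u => chkM1 tab u) u = true := ext_range (a := 20480) (len := 640) h32 m1_32
  have h34 : ∀ u < 21760, (fun u => chkM1 tab u) u = true := ext_range (a := 21120) (len := 640) h33 m1_33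
  have h35 : ∀ u < 22400, (fun u => chkM1 tab u) u = true := ext_range (a := 21760) (len := 640) h34 m1_34
  have h36 : ∀ u < 23040, (fun u => chkM1 tab u) u = true := ext_range (a := 22400) (len := 640) h35 m1_35
  have h37 : ∀ u < 23680, (fun u => chkM1 tab u) u = true := ext_range (a := 23040) (len := 640) h36 m1_36
  have h38 : ∀ u < 24320, (fun u => chkM1 tab u) u = true := ext_range (a := 23680) (len := 640) h37 m1_37
  have h39 : ∀ u < 24960, (fun u => chkM1 tab u) u = true := ext_range (a := 24320) (len := 640) h38 m1_38
  have h40 : ∀ u < 25600, (fun u => chkM1 tab u) u = true := ext_range (a := 24960) (len := 640) h39 m1_39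
  have h41 : ∀ u < 26240, (fun u => chkM1 tab u) u = true := ext_range (a := 25600) (len := 640) h40 m1_40
  have h42 : ∀ u < 26880, (fun u => chkM1 tab u) u = true := ext_range (a := 26240) (len := 640) h41 m1_41
  have h43 : ∀ u < 27520, (fun u => chkM1 tab u) u = true := ext_range (a := 26880) (len := 640) h42 m1_42
  have h44 : ∀ u < 28160, (fun u => chkM1 tab u) u = true := ext_range (a := 27520) (len := 640) h43 m1_43
  have h45 : ∀ u < 28800, (fun u => chkM1 tab u) u = true := ext_range (a := 28160) (len := 640) h44 m1_44
  have h46 : ∀ u < 29440, (fun u => chkM1 tab u) u = true := ext_range (a := 28800) (len := 640) h45 m1_45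
  have h47 : ∀ u < 30080, (fun u => chkM1 tab u) u = true := ext_range (a := 29440) (len := 640) h46 m1_46
  have h48 : ∀ u < 30720, (fun u => chkM1 tab u) u = true := ext_range (a := 30080) (len := 640) h47 m1_47
  have h49 : ∀ u < 31360, (fun u => chkM1 tab u) u = true := ext_range (a := 30720) (len := 640) h48 m1_48
  have h50 : ∀ u < 31671, (fun u => chkM1 tab u) u = true := ext_range (a := 31360) (len := 311) h49 m1_49
  exact h50

theorem hM2 : ∀ u < 31671, chkFix tab mwords u = true := by
  have h0 : ∀ u < 0, (fun u => chkFix tab mwords u) u = true := range_zero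
  have h1 : ∀ u < 38, (fun u => chkFix tab mwords u) u = true := ext_range (a := 0) (len := 38) h0 m2_0
  have h2 : ∀ u < 76, (fun u => chkFix tab mwords u) u = true := ext_range (a := 38) (len := 38) h1 m2_1
  have h3 : ∀ u < 114, (fun u => chkFix tab mwords u) u = true := ext_range (a := 76) (len := 38) h2 m2_2
  have h4 : ∀ u < 152, (fun u => chkFix tab mwords u) u = true := ext_range (a := 114) (len := 38) h3 m2_3
  have h5 : ∀ u < 190, (fun u => chkFix tab mwords u) u = true := ext_range (a := 152) (len := 38) h4 m2_4
  have h6 : ∀ u < 228, (fun u => chkFix tab mwords u) u = true := ext_range (a := 190) (len := 38) h5 m2_5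
  have h7 : ∀ u < 266, (fun u => chkFix tab mwords u) u = true := ext_range (a := 228) (len := 38) h6 m2_6
  have h8 : ∀ u < 304, (fun u => chkFix tab mwords u) u = true := ext_range (a := 266) (len := 38) h7 m2_7
  have h9 : ∀ u < 342, (fun u => chkFix tab mwords u) u = true := ext_range (a := 304) (len := 38) h8 m2_8
  have h10 : ∀ u < 380, (fun u => chkFix tab mwords u) u = true := ext_range (a := 342) (len := 38) h9 m2_9
  have h11 : ∀ u < 418, (fun u => chkFix tab mwords u) u = true := ext_range (a := 380) (len := 38) h10 m2_10
  have h12 : ∀ u < 456, (fun u => chkFix tab mwords u) u = true := ext_range (a := 418) (len := 38) h11 m2_11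
  have h13 : ∀ u < 494, (fun u => chkFix tab mwords u) u = true := ext_range (a := 456) (len := 38) h12 m2_12
  have h14 : ∀ u < 532, (fun u => chkFix tab mwords u) u = true := ext_range (a := 494) (len := 38) h13 m2_13
  have h15 : ∀ u < 570, (fun u => chkFix tab mwords u) u = true := ext_range (a := 532) (len := 38) h14 m2_14
  have h16 : ∀ u < 608, (fun u => chkFix tab mwords u) u = true := ext_range (a := 570) (len := 38) h15 m2_15
  have h17 : ∀ u < 646, (fun u => chkFix tab mwords u) u = true := ext_range (a := 608) (len := 38) h16 m2_16
  have h18 : ∀ u < 684, (fun u => chkFix tab mwords u) u = true := ext_range (a := 646) (len := 38) h17 m2_17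
  have h19 : ∀ u < 722, (fun u => chkFix tab mwords u) u = true := ext_range (a := 684) (len := 38) h18 m2_18
  have h20 : ∀ u < 760, (fun u => chkFix tab mwords u) u = true := ext_range (a := 722) (len := 38) h19 m2_19
  have h21 : ∀ u < 798, (fun u => chkFix tab mwords u) u = true := ext_range (a := 760) (len := 38) h20 m2_20
  have h22 : ∀ u < 836, (fun u => chkFix tab mwords u) u = true := ext_range (a := 798) (len := 38) h21 m2_21
  have h23 : ∀ u < 874, (fun u => chkFix tab mwords u) u = true := ext_range (a := 836) (len := 38) h22 m2_22
  have h24 : ∀ u < 912, (fun u => chkFix tab mwords u) u = true := ext_range (a := 874) (len := 38) h23 m2_23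
  have h25 : ∀ u < 950, (fun u => chkFix tab mwords u) u = true := ext_range (a := 912) (len := 38) h24 m2_24
  have h26 : ∀ u < 988, (fun u => chkFix tab mwords u) u = true := ext_range (a := 950) (len := 38) h25 m2_25
  have h27 : ∀ u < 1026, (fun u => chkFix tab mwords u) u = true := ext_range (a := 988) (len := 38) h26 m2_26
  have h28 : ∀ u < 1064, (fun u => chkFix tab mwords u) u = true := ext_range (a := 1026) (len := 38) h27 m2_27
  have h29 : ∀ u < 1102, (fun u => chkFix tab mwords u) u = true := ext_range (a := 1064) (len := 38) h28 m2_28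
  have h30 : ∀ u < 1140, (fun u => chkFix tab mwords u) u = true := ext_range (a := 1102) (len := 38) h29 m2_29
  have h31 : ∀ u < 1178, (fun u => chkFix tab mwords u) u = true := ext_range (a := 1140) (len := 38) h30 m2_30
  have h32 : ∀ u < 1216, (fun u => chkFix tab mwords u) u = true := ext_range (a := 1178) (len := 38) h31 m2_31
  have h33 : ∀ u < 1254, (fun u => chkFix tab mwords u) u = true := ext_range (a := 1216) (len := 38) h32 m2_32
  have h34 : ∀ u < 1292, (fun u => chkFix tab mwords u) u = true := ext_range (a := 1254) (len := 38) h33 m2_33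
  have h35 : ∀ u < 1330, (fun u => chkFix tab mwords u) u = true := ext_range (a := 1292) (len := 38) h34 m2_34
  have h36 : ∀ u < 1368, (fun u => chkFix tab mwords u) u = true := ext_range (a := 1330) (len := 38) h35 m2_35
  have h37 : ∀ u < 1406, (fun u => chkFix tab mwords u) u = true := ext_range (a := 1368) (len := 38) h36 m2_36
  have h38 : ∀ u < 1444, (fun u => chkFix tab mwords u) u = true := ext_range (a := 1406) (len := 38) h37 m2_37
  have h39 : ∀ u < 1482, (fun u => chkFix tab mwords u) u = true := ext_range (a := 1444) (len := 38) h38 m2_38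
  have h40 : ∀ u < 1520, (fun u => chkFix tab mwords u) u = true := ext_range (a := 1482) (len := 38) h39 m2_39
  have h41 : ∀ u < 1558, (fun u => chkFix tab mwords u) u = true := ext_range (a := 1520) (len := 38) h40 m2_40
  have h42 : ∀ u < 1596, (fun u => chkFix tab mwords u) u = true := ext_range (a := 1558) (len := 38) h41 m2_41
  have h43 : ∀ u < 1634, (fun u => chkFix tab mwords u) u = true := ext_range (a := 1596) (len := 38) h42 m2_42
  have h44 : ∀ u < 1672, (fun u => chkFix tab mwords u) u = true := ext_range (a := 1634) (len := 38) h43 m2_43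
  have h45 : ∀ u < 1710, (fun u => chkFix tab mwords u) u = true := ext_range (a := 1672) (len := 38) h44 m2_44
  have h46 : ∀ u < 1748, (fun u => chkFix tab mwords u) u = true := ext_range (a := 1710) (len := 38) h45 m2_45
  have h47 : ∀ u < 1786, (fun u => chkFix tab mwords u) u = true := ext_range (a := 1748) (len := 38) h46 m2_46
  have h48 : ∀ u < 1824, (fun u => chkFix tab mwords u) u = true := ext_range (a := 1786) (len := 38) h47 m2_47
  have h49 : ∀ u < 1862, (fun u => chkFix tab mwords u) u = true := ext_range (a := 1824) (len := 38) h48 m2_48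
  have h50 : ∀ u < 1900, (fun u => chkFix tab mwords u) u = true := ext_range (a := 1862) (len := 38) h49 m2_49
  have h51 : ∀ u < 1938, (fun u => chkFix tab mwords u) u = true := ext_range (a := 1900) (len := 38) h50 m2_50
  have h52 : ∀ u < 1976, (fun u => chkFix tab mwords u) u = true := ext_range (a := 1938) (len := 38) h51 m2_51
  have h53 : ∀ u < 2014, (fun u => chkFix tab mwords u) u = true := ext_range (a := 1976) (len := 38) h52 m2_52
  have h54 : ∀ u < 2052, (fun u => chkFix tab mwords u) u = true := ext_range (a := 2014) (len := 38) h53 m2_53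
  have h55 : ∀ u < 2090, (fun u => chkFix tab mwords u) u = true := ext_range (a := 2052) (len := 38) h54 m2_54
  have h56 : ∀ u < 2128, (fun u => chkFix tab mwords u) u = true := ext_range (a := 2090) (len := 38) h55 m2_55
  have h57 : ∀ u < 2166, (fun u => chkFix tab mwords u) u = true := ext_range (a := 2128) (len := 38) h56 m2_56
  have h58 : ∀ u < 2204, (fun u => chkFix tab mwords u) u = true := ext_range (a := 2166) (len := 38) h57 m2_57
  have h59 : ∀ u < 2242, (fun u => chkFix tab mwords u) u = true := ext_range (a := 2204) (len := 38) h58 m2_58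
  have h60 : ∀ u < 2280, (fun u => chkFix tab mwords u) u = true := ext_range (a := 2242) (len := 38) h59 m2_59
  have h61 : ∀ u < 2318, (fun u => chkFix tab mwords u) u = true := ext_range (a := 2280) (len := 38) h60 m2_60
  have h62 : ∀ u < 2356, (fun u => chkFix tab mwords u) u = true := ext_range (a := 2318) (len := 38) h61 m2_61
  have h63 : ∀ u < 2394, (fun u => chkFix tab mwords u) u = true := ext_range (a := 2356) (len := 38) h62 m2_62
  have h64 : ∀ u < 2432, (fun u => chkFix tab mwords u) u = true := ext_range (a := 2394) (len := 38) h63 m2_63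
  have h65 : ∀ u < 2470, (fun u => chkFix tab mwords u) u = true := ext_range (a := 2432) (len := 38) h64 m2_64
  have h66 : ∀ u < 2508, (fun u => chkFix tab mwords u) u = true := ext_range (a := 2470) (len := 38) h65 m2_65
  have h67 : ∀ u < 2546, (fun u => chkFix tab mwords u) u = true := ext_range (a := 2508) (len := 38) h66 m2_66
  have h68 : ∀ u < 2584, (fun u => chkFix tab mwords u) u = true := ext_range (a := 2546) (len := 38) h67 m2_67
  have h69 : ∀ u < 2622, (fun u => chkFix tab mwords u) u = true := ext_range (a := 2584) (len := 38) h68 m2_68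
  have h70 : ∀ u < 2660, (fun u => chkFix tab mwords u) u = true := ext_range (a := 2622) (len := 38) h69 m2_69
  have h71 : ∀ u < 2698, (fun u => chkFix tab mwords u) u = true := ext_range (a := 2660) (len := 38) h70 m2_70
  have h72 : ∀ u < 2736, (fun u => chkFix tab mwords u) u = true := ext_range (a := 2698) (len := 38) h71 m2_71
  have h73 : ∀ u < 2774, (fun u => chkFix tab mwords u) u = true := ext_range (a := 2736) (len := 38) h72 m2_72
  have h74 : ∀ u < 2812, (fun u => chkFix tab mwords u) u = true := ext_range (a := 2774) (len := 38) h73 m2_73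
  have h75 : ∀ u < 2850, (fun u => chkFix tab mwords u) u = true := ext_range (a := 2812) (len := 38) h74 m2_74
  have h76 : ∀ u < 2888, (fun u => chkFix tab mwords u) u = true := ext_range (a := 2850) (len := 38) h75 m2_75
  have h77 : ∀ u < 2926, (fun u => chkFix tab mwords u) u = true := ext_range (a := 2888) (len := 38) h76 m2_76
  have h78 : ∀ u < 2964, (fun u => chkFix tab mwords u) u = true := ext_range (a := 2926) (len := 38) h77 m2_77
  have h79 : ∀ u < 3002, (fun u => chkFix tab mwords u) u = true := ext_range (a := 2964) (len := 38) h78 m2_78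
  have h80 : ∀ u < 3040, (fun u => chkFix tab mwords u) u = true := ext_range (a := 3002) (len := 38) h79 m2_79
  have h81 : ∀ u < 3078, (fun u => chkFix tab mwords u) u = true := ext_range (a := 3040) (len := 38) h80 m2_80
  have h82 : ∀ u < 3116, (fun u => chkFix tab mwords u) u = true := ext_range (a := 3078) (len := 38) h81 m2_81
  have h83 : ∀ u < 3154, (fun u => chkFix tab mwords u) u = true := ext_range (a := 3116) (len := 38) h82 m2_82
  have h84 : ∀ u < 3192, (fun u => chkFix tab mwords u) u = true := ext_range (a := 3154) (len := 38) h83 m2_83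
  have h85 : ∀ u < 3230, (fun u => chkFix tab mwords u) u = true := ext_range (a := 3192) (len := 38) h84 m2_84
  have h86 : ∀ u < 3268, (fun u => chkFix tab mwords u) u = true := ext_range (a := 3230) (len := 38) h85 m2_85
  have h87 : ∀ u < 3306, (fun u => chkFix tab mwords u) u = true := ext_range (a := 3268) (len := 38) h86 m2_86
  have h88 : ∀ u < 3344, (fun u => chkFix tab mwords u) u = true := ext_range (a := 3306) (len := 38) h87 m2_87
  have h89 : ∀ u < 3382, (fun u => chkFix tab mwords u) u = true := ext_range (a := 3344) (len := 38) h88 m2_88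
  have h90 : ∀ u < 3420, (fun u => chkFix tab mwords u) u = true := ext_range (a := 3382) (len := 38) h89 m2_89
  have h91 : ∀ u < 3458, (fun u => chkFix tab mwords u) u = true := ext_range (a := 3420) (len := 38) h90 m2_90
  have h92 : ∀ u < 3496, (fun u => chkFix tab mwords u) u = true := ext_range (a := 3458) (len := 38) h91 m2_91
  have h93 : ∀ u < 3534, (fun u => chkFix tab mwords u) u = true := ext_range (a := 3496) (len := 38) h92 m2_92
  have h94 : ∀ u < 3572, (fun u => chkFix tab mwords u) u = true := ext_range (a := 3534) (len := 38) h93 m2_93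
  have h95 : ∀ u < 3610, (fun u => chkFix tab mwords u) u = true := ext_range (a := 3572) (len := 38) h94 m2_94
  have h96 : ∀ u < 3648, (fun u => chkFix tab mwords u) u = true := ext_range (a := 3610) (len := 38) h95 m2_95
  have h97 : ∀ u < 3686, (fun u => chkFix tab mwords u) u = true := ext_range (a := 3648) (len := 38) h96 m2_96
  have h98 : ∀ u < 3724, (fun u => chkFix tab mwords u) u = true := ext_range (a := 3686) (len := 38) h97 m2_97
  have h99 : ∀ u < 3762, (fun u => chkFix tab mwords u) u = true := ext_range (a := 3724) (len := 38) h98 m2_98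
  have h100 : ∀ u < 3800, (fun u => chkFix tab mwords u) u = true := ext_range (a := 3762) (len := 38) h99 m2_99
  have h101 : ∀ u < 3838, (fun u => chkFix tab mwords u) u = true := ext_range (a := 3800) (len := 38) h100 m2_100
  have h102 : ∀ u < 3876, (fun u => chkFix tab mwords u) u = true := ext_range (a := 3838) (len := 38) h101 m2_101
  have h103 : ∀ u < 3914, (fun u => chkFix tab mwords u) u = true := ext_range (a := 3876) (len := 38) h102 m2_102
  have h104 : ∀ u < 3952, (fun u => chkFix tab mwords u) u = true := ext_range (a := 3914) (len := 38) h103 m2_103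
  have h105 : ∀ u < 3990, (fun u => chkFix tab mwords u) u = true := ext_range (a := 3952) (len := 38) h104 m2_104
  have h106 : ∀ u < 4028, (fun u => chkFix tab mwords u) u = true := ext_range (a := 3990) (len := 38) h105 m2_105
  have h107 : ∀ u < 4066, (fun u => chkFix tab mwords u) u = true := ext_range (a := 4028) (len := 38) h106 m2_106
  have h108 : ∀ u < 4104, (fun u => chkFix tab mwords u) u = true := ext_range (a := 4066) (len := 38) h107 m2_107
  have h109 : ∀ u < 4142, (fun u => chkFix tab mwords u) u = true := ext_range (a := 4104) (len := 38) h108 m2_108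
  have h110 : ∀ u < 4180, (fun u => chkFix tab mwords u) u = true := ext_range (a := 4142) (len := 38) h109 m2_109
  have h111 : ∀ u < 4218, (fun u => chkFix tab mwords u) u = true := ext_range (a := 4180) (len := 38) h110 m2_110
  have h112 : ∀ u < 4256, (fun u => chkFix tab mwords u) u = true := ext_range (a := 4218) (len := 38) h111 m2_111
  have h113 : ∀ u < 4294, (fun u => chkFix tab mwords u) u = true := ext_range (a := 4256) (len := 38) h112 m2_112
  have h114 : ∀ u < 4332, (fun u => chkFix tab mwords u) u = true := ext_range (a := 4294) (len := 38) h113 m2_113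
  have h115 : ∀ u < 4370, (fun u => chkFix tab mwords u) u = true := ext_range (a := 4332) (len := 38) h114 m2_114
  have h116 : ∀ u < 4408, (fun u => chkFix tab mwords u) u = true := ext_range (a := 4370) (len := 38) h115 m2_115
  have h117 : ∀ u < 4446, (fun u => chkFix tab mwords u) u = true := ext_range (a := 4408) (len := 38) h116 m2_116
  have h118 : ∀ u < 4484, (fun u => chkFix tab mwords u) u = true := ext_range (a := 4446) (len := 38) h117 m2_117
  have h119 : ∀ u < 4522, (fun u => chkFix tab mwords u) u = true := ext_range (a := 4484) (len := 38) h118 m2_118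
  have h120 : ∀ u < 4560, (fun u => chkFix tab mwords u) u = true := ext_range (a := 4522) (len := 38) h119 m2_119
  have h121 : ∀ u < 4598, (fun u => chkFix tab mwords u) u = true := ext_range (a := 4560) (len := 38) h120 m2_120
  have h122 : ∀ u < 4636, (fun u => chkFix tab mwords u) u = true := ext_range (a := 4598) (len := 38) h121 m2_121
  have h123 : ∀ u < 4674, (fun u => chkFix tab mwords u) u = true := ext_range (a := 4636) (len := 38) h122 m2_122
  have h124 : ∀ u < 4712, (fun u => chkFix tab mwords u) u = true := ext_range (a := 4674) (len := 38) h123 m2_123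
  have h125 : ∀ u < 4750, (fun u => chkFix tab mwords u) u = true := ext_range (a := 4712) (len := 38) h124 m2_124
  have h126 : ∀ u < 4788, (fun u => chkFix tab mwords u) u = true := ext_range (a := 4750) (len := 38) h125 m2_125
  have h127 : ∀ u < 4826, (fun u => chkFix tab mwords u) u = true := ext_range (a := 4788) (len := 38) h126 m2_126
  have h128 : ∀ u < 4864, (fun u => chkFix tab mwords u) u = true := ext_range (a := 4826) (len := 38) h127 m2_127
  have h129 : ∀ u < 4902, (fun u => chkFix tab mwords u) u = true := ext_range (a := 4864) (len := 38) h128 m2_128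
  have h130 : ∀ u < 4940, (fun u => chkFix tab mwords u) u = true := ext_range (a := 4902) (len := 38) h129 m2_129
  have h131 : ∀ u < 4978, (fun u => chkFix tab mwords u) u = true := ext_range (a := 4940) (len := 38) h130 m2_130
  have h132 : ∀ u < 5016, (fun u => chkFix tab mwords u) u = true := ext_range (a := 4978) (len := 38) h131 m2_131
  have h133 : ∀ u < 5054, (fun u => chkFix tab mwords u) u = true := ext_range (a := 5016) (len := 38) h132 m2_132
  have h134 : ∀ u < 5092, (fun u => chkFix tab mwords u) u = true := ext_range (a := 5054) (len := 38) h133 m2_133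
  have h135 : ∀ u < 5130, (fun u => chkFix tab mwords u) u = true := ext_range (a := 5092) (len := 38) h134 m2_134
  have h136 : ∀ u < 5168, (fun u => chkFix tab mwords u) u = true := ext_range (a := 5130) (len := 38) h135 m2_135
  have h137 : ∀ u < 5206, (fun u => chkFix tab mwords u) u = true := ext_range (a := 5168) (len := 38) h136 m2_136
  have h138 : ∀ u < 5244, (fun u => chkFix tab mwords u) u = true := ext_range (a := 5206) (len := 38) h137 m2_137
  have h139 : ∀ u < 5282, (fun u => chkFix tab mwords u) u = true := ext_range (a := 5244) (len := 38) h138 m2_138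
  have h140 : ∀ u < 5320, (fun u => chkFix tab mwords u) u = true := ext_range (a := 5282) (len := 38) h139 m2_139
  have h141 : ∀ u < 5358, (fun u => chkFix tab mwords u) u = true := ext_range (a := 5320) (len := 38) h140 m2_140
  have h142 : ∀ u < 5396, (fun u => chkFix tab mwords u) u = true := ext_range (a := 5358) (len := 38) h141 m2_141
  have h143 : ∀ u < 5434, (fun u => chkFix tab mwords u) u = true := ext_range (a := 5396) (len := 38) h142 m2_142
  have h144 : ∀ u < 5472, (fun u => chkFix tab mwords u) u = true := ext_range (a := 5434) (len := 38) h143 m2_143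
  have h145 : ∀ u < 5510, (fun u => chkFix tab mwords u) u = true := ext_range (a := 5472) (len := 38) h144 m2_144
  have h146 : ∀ u < 5548, (fun u => chkFix tab mwords u) u = true := ext_range (a := 5510) (len := 38) h145 m2_145
  have h147 : ∀ u < 5586, (fun u => chkFix tab mwords u) u = true := ext_range (a := 5548) (len := 38) h146 m2_146
  have h148 : ∀ u < 5624, (fun u => chkFix tab mwords u) u = true := ext_range (a := 5586) (len := 38) h147 m2_147
  have h149 : ∀ u < 5662, (fun u => chkFix tab mwords u) u = true := ext_range (a := 5624) (len := 38) h148 m2_148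
  have h150 : ∀ u < 5700, (fun u => chkFix tab mwords u) u = true := ext_range (a := 5662) (len := 38) h149 m2_149
  have h151 : ∀ u < 5738, (fun u => chkFix tab mwords u) u = true := ext_range (a := 5700) (len := 38) h150 m2_150
  have h152 : ∀ u < 5776, (fun u => chkFix tab mwords u) u = true := ext_range (a := 5738) (len := 38) h151 m2_151
  have h153 : ∀ u < 5814, (fun u => chkFix tab mwords u) u = true := ext_range (a := 5776) (len := 38) h152 m2_152
  have h154 : ∀ u < 5852, (fun u => chkFix tab mwords u) u = true := ext_range (a := 5814) (len := 38) h153 m2_153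
  have h155 : ∀ u < 5890, (fun u => chkFix tab mwords u) u = true := ext_range (a := 5852) (len := 38) h154 m2_154
  have h156 : ∀ u < 5928, (fun u => chkFix tab mwords u) u = true := ext_range (a := 5890) (len := 38) h155 m2_155
  have h157 : ∀ u < 5966, (fun u => chkFix tab mwords u) u = true := ext_range (a := 5928) (len := 38) h156 m2_156
  have h158 : ∀ u < 6004, (fun u => chkFix tab mwords u) u = true := ext_range (a := 5966) (len := 38) h157 m2_157
  have h159 : ∀ u < 6042, (fun u => chkFix tab mwords u) u = true := ext_range (a := 6004) (len := 38) h158 m2_158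
  have h160 : ∀ u < 6080, (fun u => chkFix tab mwords u) u = true := ext_range (a := 6042) (len := 38) h159 m2_159
  have h161 : ∀ u < 6118, (fun u => chkFix tab mwords u) u = true := ext_range (a := 6080) (len := 38) h160 m2_160
  have h162 : ∀ u < 6156, (fun u => chkFix tab mwords u) u = true := ext_range (a := 6118) (len := 38) h161 m2_161
  have h163 : ∀ u < 6194, (fun u => chkFix tab mwords u) u = true := ext_range (a := 6156) (len := 38) h162 m2_162
  have h164 : ∀ u < 6232, (fun u => chkFix tab mwords u) u = true := ext_range (a := 6194) (len := 38) h163 m2_163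
  have h165 : ∀ u < 6270, (fun u => chkFix tab mwords u) u = true := ext_range (a := 6232) (len := 38) h164 m2_164
  have h166 : ∀ u < 6308, (fun u => chkFix tab mwords u) u = true := ext_range (a := 6270) (len := 38) h165 m2_165
  have h167 : ∀ u < 6346, (fun u => chkFix tab mwords u) u = true := ext_range (a := 6308) (len := 38) h166 m2_166
  have h168 : ∀ u < 6384, (fun u => chkFix tab mwords u) u = true := ext_range (a := 6346) (len := 38) h167 m2_167
  have h169 : ∀ u < 6422, (fun u => chkFix tab mwords u) u = true := ext_range (a := 6384) (len := 38) h168 m2_168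
  have h170 : ∀ u < 6460, (fun u => chkFix tab mwords u) u = true := ext_range (a := 6422) (len := 38) h169 m2_169
  have h171 : ∀ u < 6498, (fun u => chkFix tab mwords u) u = true := ext_range (a := 6460) (len := 38) h170 m2_170
  have h172 : ∀ u < 6536, (fun u => chkFix tab mwords u) u = true := ext_range (a := 6498) (len := 38) h171 m2_171
  have h173 : ∀ u < 6574, (fun u => chkFix tab mwords u) u = true := ext_range (a := 6536) (len := 38) h172 m2_172
  have h174 : ∀ u < 6612, (fun u => chkFix tab mwords u) u = true := ext_range (a := 6574) (len := 38) h173 m2_173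
  have h175 : ∀ u < 6650, (fun u => chkFix tab mwords u) u = true := ext_range (a := 6612) (len := 38) h174 m2_174
  have h176 : ∀ u < 6688, (fun u => chkFix tab mwords u) u = true := ext_range (a := 6650) (len := 38) h175 m2_175
  have h177 : ∀ u < 6726, (fun u => chkFix tab mwords u) u = true := ext_range (a := 6688) (len := 38) h176 m2_176
  have h178 : ∀ u < 6764, (fun u => chkFix tab mwords u) u = true := ext_range (a := 6726) (len := 38) h177 m2_177
  have h179 : ∀ u < 6802, (fun u => chkFix tab mwords u) u = true := ext_range (a := 6764) (len := 38) h178 m2_178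
  have h180 : ∀ u < 6840, (fun u => chkFix tab mwords u) u = true := ext_range (a := 6802) (len := 38) h179 m2_179
  have h181 : ∀ u < 6878, (fun u => chkFix tab mwords u) u = true := ext_range (a := 6840) (len := 38) h180 m2_180
  have h182 : ∀ u < 6916, (fun u => chkFix tab mwords u) u = true := ext_range (a := 6878) (len := 38) h181 m2_181
  have h183 : ∀ u < 6954, (fun u => chkFix tab mwords u) u = true := ext_range (a := 6916) (len := 38) h182 m2_182
  have h184 : ∀ u < 6992, (fun u => chkFix tab mwords u) u = true := ext_range (a := 6954) (len := 38) h183 m2_183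
  have h185 : ∀ u < 7030, (fun u => chkFix tab mwords u) u = true := ext_range (a := 6992) (len := 38) h184 m2_184
  have h186 : ∀ u < 7068, (fun u => chkFix tab mwords u) u = true := ext_range (a := 7030) (len := 38) h185 m2_185
  have h187 : ∀ u < 7106, (fun u => chkFix tab mwords u) u = true := ext_range (a := 7068) (len := 38) h186 m2_186
  have h188 : ∀ u < 7144, (fun u => chkFix tab mwords u) u = true := ext_range (a := 7106) (len := 38) h187 m2_187
  have h189 : ∀ u < 7182, (fun u => chkFix tab mwords u) u = true := ext_range (a := 7144) (len := 38) h188 m2_188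
  have h190 : ∀ u < 7220, (fun u => chkFix tab mwords u) u = true := ext_range (a := 7182) (len := 38) h189 m2_189
  have h191 : ∀ u < 7258, (fun u => chkFix tab mwords u) u = true := ext_range (a := 7220) (len := 38) h190 m2_190
  have h192 : ∀ u < 7296, (fun u => chkFix tab mwords u) u = true := ext_range (a := 7258) (len := 38) h191 m2_191
  have h193 : ∀ u < 7334, (fun u => chkFix tab mwords u) u = true := ext_range (a := 7296) (len := 38) h192 m2_192
  have h194 : ∀ u < 7372, (fun u => chkFix tab mwords u) u = true := ext_range (a := 7334) (len := 38) h193 m2_193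
  have h195 : ∀ u < 7410, (fun u => chkFix tab mwords u) u = true := ext_range (a := 7372) (len := 38) h194 m2_194
  have h196 : ∀ u < 7448, (fun u => chkFix tab mwords u) u = true := ext_range (a := 7410) (len := 38) h195 m2_195
  have h197 : ∀ u < 7486, (fun u => chkFix tab mwords u) u = true := ext_range (a := 7448) (len := 38) h196 m2_196
  have h198 : ∀ u < 7524, (fun u => chkFix tab mwords u) u = true := ext_range (a := 7486) (len := 38) h197 m2_197
  have h199 : ∀ u < 7562, (fun u => chkFix tab mwords u) u = true := ext_range (a := 7524) (len := 38) h198 m2_198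
  have h200 : ∀ u < 7600, (fun u => chkFix tab mwords u) u = true := ext_range (a := 7562) (len := 38) h199 m2_199
  have h201 : ∀ u < 7638, (fun u => chkFix tab mwords u) u = true := ext_range (a := 7600) (len := 38) h200 m2_200
  have h202 : ∀ u < 7676, (fun u => chkFix tab mwords u) u = true := ext_range (a := 7638) (len := 38) h201 m2_201
  have h203 : ∀ u < 7714, (fun u => chkFix tab mwords u) u = true := ext_range (a := 7676) (len := 38) h202 m2_202
  have h204 : ∀ u < 7752, (fun u => chkFix tab mwords u) u = true := ext_range (a := 7714) (len := 38) h203 m2_203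
  have h205 : ∀ u < 7790, (fun u => chkFix tab mwords u) u = true := ext_range (a := 7752) (len := 38) h204 m2_204
  have h206 : ∀ u < 7828, (fun u => chkFix tab mwords u) u = true := ext_range (a := 7790) (len := 38) h205 m2_205
  have h207 : ∀ u < 7866, (fun u => chkFix tab mwords u) u = true := ext_range (a := 7828) (len := 38) h206 m2_206
  have h208 : ∀ u < 7904, (fun u => chkFix tab mwords u) u = true := ext_range (a := 7866) (len := 38) h207 m2_207
  have h209 : ∀ u < 7942, (fun u => chkFix tab mwords u) u = true := ext_range (a := 7904) (len := 38) h208 m2_208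
  have h210 : ∀ u < 7980, (fun u => chkFix tab mwords u) u = true := ext_range (a := 7942) (len := 38) h209 m2_209
  have h211 : ∀ u < 8018, (fun u => chkFix tab mwords u) u = true := ext_range (a := 7980) (len := 38) h210 m2_210
  have h212 : ∀ u < 8056, (fun u => chkFix tab mwords u) u = true := ext_range (a := 8018) (len := 38) h211 m2_211
  have h213 : ∀ u < 8094, (fun u => chkFix tab mwords u) u = true := ext_range (a := 8056) (len := 38) h212 m2_212
  have h214 : ∀ u < 8132, (fun u => chkFix tab mwords u) u = true := ext_range (a := 8094) (len := 38) h213 m2_213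
  have h215 : ∀ u < 8170, (fun u => chkFix tab mwords u) u = true := ext_range (a := 8132) (len := 38) h214 m2_214
  have h216 : ∀ u < 8208, (fun u => chkFix tab mwords u) u = true := ext_range (a := 8170) (len := 38) h215 m2_215
  have h217 : ∀ u < 8246, (fun u => chkFix tab mwords u) u = true := ext_range (a := 8208) (len := 38) h216 m2_216
  have h218 : ∀ u < 8284, (fun u => chkFix tab mwords u) u = true := ext_range (a := 8246) (len := 38) h217 m2_217
  have h219 : ∀ u < 8322, (fun u => chkFix tab mwords u) u = true := ext_range (a := 8284) (len := 38) h218 m2_218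
  have h220 : ∀ u < 8360, (fun u => chkFix tab mwords u) u = true := ext_range (a := 8322) (len := 38) h219 m2_219
  have h221 : ∀ u < 8398, (fun u => chkFix tab mwords u) u = true := ext_range (a := 8360) (len := 38) h220 m2_220
  have h222 : ∀ u < 8436, (fun u => chkFix tab mwords u) u = true := ext_range (a := 8398) (len := 38) h221 m2_221
  have h223 : ∀ u < 8474, (fun u => chkFix tab mwords u) u = true := ext_range (a := 8436) (len := 38) h222 m2_222
  have h224 : ∀ u < 8512, (fun u => chkFix tab mwords u) u = true := ext_range (a := 8474) (len := 38) h223 m2_223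
  have h225 : ∀ u < 8550, (fun u => chkFix tab mwords u) u = true := ext_range (a := 8512) (len := 38) h224 m2_224
  have h226 : ∀ u < 8588, (fun u => chkFix tab mwords u) u = true := ext_range (a := 8550) (len := 38) h225 m2_225
  have h227 : ∀ u < 8626, (fun u => chkFix tab mwords u) u = true := ext_range (a := 8588) (len := 38) h226 m2_226
  have h228 : ∀ u < 8664, (fun u => chkFix tab mwords u) u = true := ext_range (a := 8626) (len := 38) h227 m2_227
  have h229 : ∀ u < 8702, (fun u => chkFix tab mwords u) u = true := ext_range (a := 8664) (len := 38) h228 m2_228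
  have h230 : ∀ u < 8740, (fun u => chkFix tab mwords u) u = true := ext_range (a := 8702) (len := 38) h229 m2_229
  have h231 : ∀ u < 8778, (fun u => chkFix tab mwords u) u = true := ext_range (a := 8740) (len := 38) h230 m2_230
  have h232 : ∀ u < 8816, (fun u => chkFix tab mwords u) u = true := ext_range (a := 8778) (len := 38) h231 m2_231
  have h233 : ∀ u < 8854, (fun u => chkFix tab mwords u) u = true := ext_range (a := 8816) (len := 38) h232 m2_232
  have h234 : ∀ u < 8892, (fun u => chkFix tab mwords u) u = true := ext_range (a := 8854) (len := 38) h233 m2_233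
  have h235 : ∀ u < 8930, (fun u => chkFix tab mwords u) u = true := ext_range (a := 8892) (len := 38) h234 m2_234
  have h236 : ∀ u < 8968, (fun u => chkFix tab mwords u) u = true := ext_range (a := 8930) (len := 38) h235 m2_235
  have h237 : ∀ u < 9006, (fun u => chkFix tab mwords u) u = true := ext_range (a := 8968) (len := 38) h236 m2_236
  have h238 : ∀ u < 9044, (fun u => chkFix tab mwords u) u = true := ext_range (a := 9006) (len := 38) h237 m2_237
  have h239 : ∀ u < 9082, (fun u => chkFix tab mwords u) u = true := ext_range (a := 9044) (len := 38) h238 m2_238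
  have h240 : ∀ u < 9120, (fun u => chkFix tab mwords u) u = true := ext_range (a := 9082) (len := 38) h239 m2_239
  have h241 : ∀ u < 9158, (fun u => chkFix tab mwords u) u = true := ext_range (a := 9120) (len := 38) h240 m2_240
  have h242 : ∀ u < 9196, (fun u => chkFix tab mwords u) u = true := ext_range (a := 9158) (len := 38) h241 m2_241
  have h243 : ∀ u < 9234, (fun u => chkFix tab mwords u) u = true := ext_range (a := 9196) (len := 38) h242 m2_242
  have h244 : ∀ u < 9272, (fun u => chkFix tab mwords u) u = true := ext_range (a := 9234) (len := 38) h243 m2_243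
  have h245 : ∀ u < 9310, (fun u => chkFix tab mwords u) u = true := ext_range (a := 9272) (len := 38) h244 m2_244
  have h246 : ∀ u < 9348, (fun u => chkFix tab mwords u) u = true := ext_range (a := 9310) (len := 38) h245 m2_245
  have h247 : ∀ u < 9386, (fun u => chkFix tab mwords u) u = true := ext_range (a := 9348) (len := 38) h246 m2_246
  have h248 : ∀ u < 9424, (fun u => chkFix tab mwords u) u = true := ext_range (a := 9386) (len := 38) h247 m2_247
  have h249 : ∀ u < 9462, (fun u => chkFix tab mwords u) u = true := ext_range (a := 9424) (len := 38) h248 m2_248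
  have h250 : ∀ u < 9500, (fun u => chkFix tab mwords u) u = true := ext_range (a := 9462) (len := 38) h249 m2_249
  have h251 : ∀ u < 9538, (fun u => chkFix tab mwords u) u = true := ext_range (a := 9500) (len := 38) h250 m2_250
  have h252 : ∀ u < 9576, (fun u => chkFix tab mwords u) u = true := ext_range (a := 9538) (len := 38) h251 m2_251
  have h253 : ∀ u < 9614, (fun u => chkFix tab mwords u) u = true := ext_range (a := 9576) (len := 38) h252 m2_252
  have h254 : ∀ u < 9652, (fun u => chkFix tab mwords u) u = true := ext_range (a := 9614) (len := 38) h253 m2_253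
  have h255 : ∀ u < 9690, (fun u => chkFix tab mwords u) u = true := ext_range (a := 9652) (len := 38) h254 m2_254
  have h256 : ∀ u < 9728, (fun u => chkFix tab mwords u) u = true := ext_range (a := 9690) (len := 38) h255 m2_255
  have h257 : ∀ u < 9766, (fun u => chkFix tab mwords u) u = true := ext_range (a := 9728) (len := 38) h256 m2_256
  have h258 : ∀ u < 9804, (fun u => chkFix tab mwords u) u = true := ext_range (a := 9766) (len := 38) h257 m2_257
  have h259 : ∀ u < 9842, (fun u => chkFix tab mwords u) u = true := ext_range (a := 9804) (len := 38) h258 m2_258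
  have h260 : ∀ u < 9880, (fun u => chkFix tab mwords u) u = true := ext_range (a := 9842) (len := 38) h259 m2_259
  have h261 : ∀ u < 9918, (fun u => chkFix tab mwords u) u = true := ext_range (a := 9880) (len := 38) h260 m2_260
  have h262 : ∀ u < 9956, (fun u => chkFix tab mwords u) u = true := ext_range (a := 9918) (len := 38) h261 m2_261
  have h263 : ∀ u < 9994, (fun u => chkFix tab mwords u) u = true := ext_range (a := 9956) (len := 38) h262 m2_262
  have h264 : ∀ u < 10032, (fun u => chkFix tab mwords u) u = true := ext_range (a := 9994) (len := 38) h263 m2_263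
  have h265 : ∀ u < 10070, (fun u => chkFix tab mwords u) u = true := ext_range (a := 10032) (len := 38) h264 m2_264
  have h266 : ∀ u < 10108, (fun u => chkFix tab mwords u) u = true := ext_range (a := 10070) (len := 38) h265 m2_265
  have h267 : ∀ u < 10146, (fun u => chkFix tab mwords u) u = true := ext_range (a := 10108) (len := 38) h266 m2_266
  have h268 : ∀ u < 10184, (fun u => chkFix tab mwords u) u = true := ext_range (a := 10146) (len := 38) h267 m2_267
  have h269 : ∀ u < 10222, (fun u => chkFix tab mwords u) u = true := ext_range (a := 10184) (len := 38) h268 m2_268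
  have h270 : ∀ u < 10260, (fun u => chkFix tab mwords u) u = true := ext_range (a := 10222) (len := 38) h269 m2_269
  have h271 : ∀ u < 10298, (fun u => chkFix tab mwords u) u = true := ext_range (a := 10260) (len := 38) h270 m2_270
  have h272 : ∀ u < 10336, (fun u => chkFix tab mwords u) u = true := ext_range (a := 10298) (len := 38) h271 m2_271
  have h273 : ∀ u < 10374, (fun u => chkFix tab mwords u) u = true := ext_range (a := 10336) (len := 38) h272 m2_272
  have h274 : ∀ u < 10412, (fun u => chkFix tab mwords u) u = true := ext_range (a := 10374) (len := 38) h273 m2_273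
  have h275 : ∀ u < 10450, (fun u => chkFix tab mwords u) u = true := ext_range (a := 10412) (len := 38) h274 m2_274
  have h276 : ∀ u < 10488, (fun u => chkFix tab mwords u) u = true := ext_range (a := 10450) (len := 38) h275 m2_275
  have h277 : ∀ u < 10526, (fun u => chkFix tab mwords u) u = true := ext_range (a := 10488) (len := 38) h276 m2_276
  have h278 : ∀ u < 10564, (fun u => chkFix tab mwords u) u = true := ext_range (a := 10526) (len := 38) h277 m2_277
  have h279 : ∀ u < 10602, (fun u => chkFix tab mwords u) u = true := ext_range (a := 10564) (len := 38) h278 m2_278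
  have h280 : ∀ u < 10640, (fun u => chkFix tab mwords u) u = true := ext_range (a := 10602) (len := 38) h279 m2_279
  have h281 : ∀ u < 10678, (fun u => chkFix tab mwords u) u = true := ext_range (a := 10640) (len := 38) h280 m2_280
  have h282 : ∀ u < 10716, (fun u => chkFix tab mwords u) u = true := ext_range (a := 10678) (len := 38) h281 m2_281
  have h283 : ∀ u < 10754, (fun u => chkFix tab mwords u) u = true := ext_range (a := 10716) (len := 38) h282 m2_282
  have h284 : ∀ u < 10792, (fun u => chkFix tab mwords u) u = true := ext_range (a := 10754) (len := 38) h283 m2_283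
  have h285 : ∀ u < 10830, (fun u => chkFix tab mwords u) u = true := ext_range (a := 10792) (len := 38) h284 m2_284
  have h286 : ∀ u < 10868, (fun u => chkFix tab mwords u) u = true := ext_range (a := 10830) (len := 38) h285 m2_285
  have h287 : ∀ u < 10906, (fun u => chkFix tab mwords u) u = true := ext_range (a := 10868) (len := 38) h286 m2_286
  have h288 : ∀ u < 10944, (fun u => chkFix tab mwords u) u = true := ext_range (a := 10906) (len := 38) h287 m2_287
  have h289 : ∀ u < 10982, (fun u => chkFix tab mwords u) u = true := ext_range (a := 10944) (len := 38) h288 m2_288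
  have h290 : ∀ u < 11020, (fun u => chkFix tab mwords u) u = true := ext_range (a := 10982) (len := 38) h289 m2_289
  have h291 : ∀ u < 11058, (fun u => chkFix tab mwords u) u = true := ext_range (a := 11020) (len := 38) h290 m2_290
  have h292 : ∀ u < 11096, (fun u => chkFix tab mwords u) u = true := ext_range (a := 11058) (len := 38) h291 m2_291
  have h293 : ∀ u < 11134, (fun u => chkFix tab mwords u) u = true := ext_range (a := 11096) (len := 38) h292 m2_292
  have h294 : ∀ u < 11172, (fun u => chkFix tab mwords u) u = true := ext_range (a := 11134) (len := 38) h293 m2_293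
  have h295 : ∀ u < 11210, (fun u => chkFix tab mwords u) u = true := ext_range (a := 11172) (len := 38) h294 m2_294
  have h296 : ∀ u < 11248, (fun u => chkFix tab mwords u) u = true := ext_range (a := 11210) (len := 38) h295 m2_295
  have h297 : ∀ u < 11286, (fun u => chkFix tab mwords u) u = true := ext_range (a := 11248) (len := 38) h296 m2_296
  have h298 : ∀ u < 11324, (fun u => chkFix tab mwords u) u = true := ext_range (a := 11286) (len := 38) h297 m2_297
  have h299 : ∀ u < 11362, (fun u => chkFix tab mwords u) u = true := ext_range (a := 11324) (len := 38) h298 m2_298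
  have h300 : ∀ u < 11400, (fun u => chkFix tab mwords u) u = true := ext_range (a := 11362) (len := 38) h299 m2_299
  have h301 : ∀ u < 11438, (fun u => chkFix tab mwords u) u = true := ext_range (a := 11400) (len := 38) h300 m2_300
  have h302 : ∀ u < 11476, (fun u => chkFix tab mwords u) u = true := ext_range (a := 11438) (len := 38) h301 m2_301
  have h303 : ∀ u < 11514, (fun u => chkFix tab mwords u) u = true := ext_range (a := 11476) (len := 38) h302 m2_302
  have h304 : ∀ u < 11552, (fun u => chkFix tab mwords u) u = true := ext_range (a := 11514) (len := 38) h303 m2_303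
  have h305 : ∀ u < 11590, (fun u => chkFix tab mwords u) u = true := ext_range (a := 11552) (len := 38) h304 m2_304
  have h306 : ∀ u < 11628, (fun u => chkFix tab mwords u) u = true := ext_range (a := 11590) (len := 38) h305 m2_305
  have h307 : ∀ u < 11666, (fun u => chkFix tab mwords u) u = true := ext_range (a := 11628) (len := 38) h306 m2_306
  have h308 : ∀ u < 11704, (fun u => chkFix tab mwords u) u = true := ext_range (a := 11666) (len := 38) h307 m2_307
  have h309 : ∀ u < 11742, (fun u => chkFix tab mwords u) u = true := ext_range (a := 11704) (len := 38) h308 m2_308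
  have h310 : ∀ u < 11780, (fun u => chkFix tab mwords u) u = true := ext_range (a := 11742) (len := 38) h309 m2_309
  have h311 : ∀ u < 11818, (fun u => chkFix tab mwords u) u = true := ext_range (a := 11780) (len := 38) h310 m2_310
  have h312 : ∀ u < 11856, (fun u => chkFix tab mwords u) u = true := ext_range (a := 11818) (len := 38) h311 m2_311
  have h313 : ∀ u < 11894, (fun u => chkFix tab mwords u) u = true := ext_range (a := 11856) (len := 38) h312 m2_312
  have h314 : ∀ u < 11932, (fun u => chkFix tab mwords u) u = true := ext_range (a := 11894) (len := 38) h313 m2_313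
  have h315 : ∀ u < 11970, (fun u => chkFix tab mwords u) u = true := ext_range (a := 11932) (len := 38) h314 m2_314
  have h316 : ∀ u < 12008, (fun u => chkFix tab mwords u) u = true := ext_range (a := 11970) (len := 38) h315 m2_315
  have h317 : ∀ u < 12046, (fun u => chkFix tab mwords u) u = true := ext_range (a := 12008) (len := 38) h316 m2_316
  have h318 : ∀ u < 12084, (fun u => chkFix tab mwords u) u = true := ext_range (a := 12046) (len := 38) h317 m2_317
  have h319 : ∀ u < 12122, (fun u => chkFix tab mwords u) u = true := ext_range (a := 12084) (len := 38) h318 m2_318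
  have h320 : ∀ u < 12160, (fun u => chkFix tab mwords u) u = true := ext_range (a := 12122) (len := 38) h319 m2_319
  have h321 : ∀ u < 12198, (fun u => chkFix tab mwords u) u = true := ext_range (a := 12160) (len := 38) h320 m2_320
  have h322 : ∀ u < 12236, (fun u => chkFix tab mwords u) u = true := ext_range (a := 12198) (len := 38) h321 m2_321
  have h323 : ∀ u < 12274, (fun u => chkFix tab mwords u) u = true := ext_range (a := 12236) (len := 38) h322 m2_322
  have h324 : ∀ u < 12312, (fun u => chkFix tab mwords u) u = true := ext_range (a := 12274) (len := 38) h323 m2_323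
  have h325 : ∀ u < 12350, (fun u => chkFix tab mwords u) u = true := ext_range (a := 12312) (len := 38) h324 m2_324
  have h326 : ∀ u < 12388, (fun u => chkFix tab mwords u) u = true := ext_range (a := 12350) (len := 38) h325 m2_325
  have h327 : ∀ u < 12426, (fun u => chkFix tab mwords u) u = true := ext_range (a := 12388) (len := 38) h326 m2_326
  have h328 : ∀ u < 12464, (fun u => chkFix tab mwords u) u = true := ext_range (a := 12426) (len := 38) h327 m2_327
  have h329 : ∀ u < 12502, (fun u => chkFix tab mwords u) u = true := ext_range (a := 12464) (len := 38) h328 m2_328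
  have h330 : ∀ u < 12540, (fun u => chkFix tab mwords u) u = true := ext_range (a := 12502) (len := 38) h329 m2_329
  have h331 : ∀ u < 12578, (fun u => chkFix tab mwords u) u = true := ext_range (a := 12540) (len := 38) h330 m2_330
  have h332 : ∀ u < 12616, (fun u => chkFix tab mwords u) u = true := ext_range (a := 12578) (len := 38) h331 m2_331
  have h333 : ∀ u < 12654, (fun u => chkFix tab mwords u) u = true := ext_range (a := 12616) (len := 38) h332 m2_332
  have h334 : ∀ u < 12692, (fun u => chkFix tab mwords u) u = true := ext_range (a := 12654) (len := 38) h333 m2_333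
  have h335 : ∀ u < 12730, (fun u => chkFix tab mwords u) u = true := ext_range (a := 12692) (len := 38) h334 m2_334
  have h336 : ∀ u < 12768, (fun u => chkFix tab mwords u) u = true := ext_range (a := 12730) (len := 38) h335 m2_335
  have h337 : ∀ u < 12806, (fun u => chkFix tab mwords u) u = true := ext_range (a := 12768) (len := 38) h336 m2_336
  have h338 : ∀ u < 12844, (fun u => chkFix tab mwords u) u = true := ext_range (a := 12806) (len := 38) h337 m2_337
  have h339 : ∀ u < 12882, (fun u => chkFix tab mwords u) u = true := ext_range (a := 12844) (len := 38) h338 m2_338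
  have h340 : ∀ u < 12920, (fun u => chkFix tab mwords u) u = true := ext_range (a := 12882) (len := 38) h339 m2_339
  have h341 : ∀ u < 12958, (fun u => chkFix tab mwords u) u = true := ext_range (a := 12920) (len := 38) h340 m2_340
  have h342 : ∀ u < 12996, (fun u => chkFix tab mwords u) u = true := ext_range (a := 12958) (len := 38) h341 m2_341
  have h343 : ∀ u < 13034, (fun u => chkFix tab mwords u) u = true := ext_range (a := 12996) (len := 38) h342 m2_342
  have h344 : ∀ u < 13072, (fun u => chkFix tab mwords u) u = true := ext_range (a := 13034) (len := 38) h343 m2_343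
  have h345 : ∀ u < 13110, (fun u => chkFix tab mwords u) u = true := ext_range (a := 13072) (len := 38) h344 m2_344
  have h346 : ∀ u < 13148, (fun u => chkFix tab mwords u) u = true := ext_range (a := 13110) (len := 38) h345 m2_345
  have h347 : ∀ u < 13186, (fun u => chkFix tab mwords u) u = true := ext_range (a := 13148) (len := 38) h346 m2_346
  have h348 : ∀ u < 13224, (fun u => chkFix tab mwords u) u = true := ext_range (a := 13186) (len := 38) h347 m2_347
  have h349 : ∀ u < 13262, (fun u => chkFix tab mwords u) u = true := ext_range (a := 13224) (len := 38) h348 m2_348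
  have h350 : ∀ u < 13300, (fun u => chkFix tab mwords u) u = true := ext_range (a := 13262) (len := 38) h349 m2_349
  have h351 : ∀ u < 13338, (fun u => chkFix tab mwords u) u = true := ext_range (a := 13300) (len := 38) h350 m2_350
  have h352 : ∀ u < 13376, (fun u => chkFix tab mwords u) u = true := ext_range (a := 13338) (len := 38) h351 m2_351
  have h353 : ∀ u < 13414, (fun u => chkFix tab mwords u) u = true := ext_range (a := 13376) (len := 38) h352 m2_352
  have h354 : ∀ u < 13452, (fun u => chkFix tab mwords u) u = true := ext_range (a := 13414) (len := 38) h353 m2_353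
  have h355 : ∀ u < 13490, (fun u => chkFix tab mwords u) u = true := ext_range (a := 13452) (len := 38) h354 m2_354
  have h356 : ∀ u < 13528, (fun u => chkFix tab mwords u) u = true := ext_range (a := 13490) (len := 38) h355 m2_355
  have h357 : ∀ u < 13566, (fun u => chkFix tab mwords u) u = true := ext_range (a := 13528) (len := 38) h356 m2_356
  have h358 : ∀ u < 13604, (fun u => chkFix tab mwords u) u = true := ext_range (a := 13566) (len := 38) h357 m2_357
  have h359 : ∀ u < 13642, (fun u => chkFix tab mwords u) u = true := ext_range (a := 13604) (len := 38) h358 m2_358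
  have h360 : ∀ u < 13680, (fun u => chkFix tab mwords u) u = true := ext_range (a := 13642) (len := 38) h359 m2_359
  have h361 : ∀ u < 13718, (fun u => chkFix tab mwords u) u = true := ext_range (a := 13680) (len := 38) h360 m2_360
  have h362 : ∀ u < 13756, (fun u => chkFix tab mwords u) u = true := ext_range (a := 13718) (len := 38) h361 m2_361
  have h363 : ∀ u < 13794, (fun u => chkFix tab mwords u) u = true := ext_range (a := 13756) (len := 38) h362 m2_362
  have h364 : ∀ u < 13832, (fun u => chkFix tab mwords u) u = true := ext_range (a := 13794) (len := 38) h363 m2_363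
  have h365 : ∀ u < 13870, (fun u => chkFix tab mwords u) u = true := ext_range (a := 13832) (len := 38) h364 m2_364
  have h366 : ∀ u < 13908, (fun u => chkFix tab mwords u) u = true := ext_range (a := 13870) (len := 38) h365 m2_365
  have h367 : ∀ u < 13946, (fun u => chkFix tab mwords u) u = true := ext_range (a := 13908) (len := 38) h366 m2_366
  have h368 : ∀ u < 13984, (fun u => chkFix tab mwords u) u = true := ext_range (a := 13946) (len := 38) h367 m2_367
  have h369 : ∀ u < 14022, (fun u => chkFix tab mwords u) u = true := ext_range (a := 13984) (len := 38) h368 m2_368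
  have h370 : ∀ u < 14060, (fun u => chkFix tab mwords u) u = true := ext_range (a := 14022) (len := 38) h369 m2_369
  have h371 : ∀ u < 14098, (fun u => chkFix tab mwords u) u = true := ext_range (a := 14060) (len := 38) h370 m2_370
  have h372 : ∀ u < 14136, (fun u => chkFix tab mwords u) u = true := ext_range (a := 14098) (len := 38) h371 m2_371
  have h373 : ∀ u < 14174, (fun u => chkFix tab mwords u) u = true := ext_range (a := 14136) (len := 38) h372 m2_372
  have h374 : ∀ u < 14212, (fun u => chkFix tab mwords u) u = true := ext_range (a := 14174) (len := 38) h373 m2_373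
  have h375 : ∀ u < 14250, (fun u => chkFix tab mwords u) u = true := ext_range (a := 14212) (len := 38) h374 m2_374
  have h376 : ∀ u < 14288, (fun u => chkFix tab mwords u) u = true := ext_range (a := 14250) (len := 38) h375 m2_375
  have h377 : ∀ u < 14326, (fun u => chkFix tab mwords u) u = true := ext_range (a := 14288) (len := 38) h376 m2_376
  have h378 : ∀ u < 14364, (fun u => chkFix tab mwords u) u = true := ext_range (a := 14326) (len := 38) h377 m2_377
  have h379 : ∀ u < 14402, (fun u => chkFix tab mwords u) u = true := ext_range (a := 14364) (len := 38) h378 m2_378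
  have h380 : ∀ u < 14440, (fun u => chkFix tab mwords u) u = true := ext_range (a := 14402) (len := 38) h379 m2_379
  have h381 : ∀ u < 14478, (fun u => chkFix tab mwords u) u = true := ext_range (a := 14440) (len := 38) h380 m2_380
  have h382 : ∀ u < 14516, (fun u => chkFix tab mwords u) u = true := ext_range (a := 14478) (len := 38) h381 m2_381
  have h383 : ∀ u < 14554, (fun u => chkFix tab mwords u) u = true := ext_range (a := 14516) (len := 38) h382 m2_382
  have h384 : ∀ u < 14592, (fun u => chkFix tab mwords u) u = true := ext_range (a := 14554) (len := 38) h383 m2_383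
  have h385 : ∀ u < 14630, (fun u => chkFix tab mwords u) u = true := ext_range (a := 14592) (len := 38) h384 m2_384
  have h386 : ∀ u < 14668, (fun u => chkFix tab mwords u) u = true := ext_range (a := 14630) (len := 38) h385 m2_385
  have h387 : ∀ u < 14706, (fun u => chkFix tab mwords u) u = true := ext_range (a := 14668) (len := 38) h386 m2_386
  have h388 : ∀ u < 14744, (fun u => chkFix tab mwords u) u = true := ext_range (a := 14706) (len := 38) h387 m2_387
  have h389 : ∀ u < 14782, (fun u => chkFix tab mwords u) u = true := ext_range (a := 14744) (len := 38) h388 m2_388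
  have h390 : ∀ u < 14820, (fun u => chkFix tab mwords u) u = true := ext_range (a := 14782) (len := 38) h389 m2_389
  have h391 : ∀ u < 14858, (fun u => chkFix tab mwords u) u = true := ext_range (a := 14820) (len := 38) h390 m2_390
  have h392 : ∀ u < 14896, (fun u => chkFix tab mwords u) u = true := ext_range (a := 14858) (len := 38) h391 m2_391
  have h393 : ∀ u < 14934, (fun u => chkFix tab mwords u) u = true := ext_range (a := 14896) (len := 38) h392 m2_392
  have h394 : ∀ u < 14972, (fun u => chkFix tab mwords u) u = true := ext_range (a := 14934) (len := 38) h393 m2_393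
  have h395 : ∀ u < 15010, (fun u => chkFix tab mwords u) u = true := ext_range (a := 14972) (len := 38) h394 m2_394
  have h396 : ∀ u < 15048, (fun u => chkFix tab mwords u) u = true := ext_range (a := 15010) (len := 38) h395 m2_395
  have h397 : ∀ u < 15086, (fun u => chkFix tab mwords u) u = true := ext_range (a := 15048) (len := 38) h396 m2_396
  have h398 : ∀ u < 15124, (fun u => chkFix tab mwords u) u = true := ext_range (a := 15086) (len := 38) h397 m2_397
  have h399 : ∀ u < 15162, (fun u => chkFix tab mwords u) u = true := ext_range (a := 15124) (len := 38) h398 m2_398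
  have h400 : ∀ u < 15200, (fun u => chkFix tab mwords u) u = true := ext_range (a := 15162) (len := 38) h399 m2_399
  have h401 : ∀ u < 15238, (fun u => chkFix tab mwords u) u = true := ext_range (a := 15200) (len := 38) h400 m2_400
  have h402 : ∀ u < 15276, (fun u => chkFix tab mwords u) u = true := ext_range (a := 15238) (len := 38) h401 m2_401
  have h403 : ∀ u < 15314, (fun u => chkFix tab mwords u) u = true := ext_range (a := 15276) (len := 38) h402 m2_402
  have h404 : ∀ u < 15352, (fun u => chkFix tab mwords u) u = true := ext_range (a := 15314) (len := 38) h403 m2_403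
  have h405 : ∀ u < 15390, (fun u => chkFix tab mwords u) u = true := ext_range (a := 15352) (len := 38) h404 m2_404
  have h406 : ∀ u < 15428, (fun u => chkFix tab mwords u) u = true := ext_range (a := 15390) (len := 38) h405 m2_405
  have h407 : ∀ u < 15466, (fun u => chkFix tab mwords u) u = true := ext_range (a := 15428) (len := 38) h406 m2_406
  have h408 : ∀ u < 15504, (fun u => chkFix tab mwords u) u = true := ext_range (a := 15466) (len := 38) h407 m2_407
  have h409 : ∀ u < 15542, (fun u => chkFix tab mwords u) u = true := ext_range (a := 15504) (len := 38) h408 m2_408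
  have h410 : ∀ u < 15580, (fun u => chkFix tab mwords u) u = true := ext_range (a := 15542) (len := 38) h409 m2_409
  have h411 : ∀ u < 15618, (fun u => chkFix tab mwords u) u = true := ext_range (a := 15580) (len := 38) h410 m2_410
  have h412 : ∀ u < 15656, (fun u => chkFix tab mwords u) u = true := ext_range (a := 15618) (len := 38) h411 m2_411
  have h413 : ∀ u < 15694, (fun u => chkFix tab mwords u) u = true := ext_range (a := 15656) (len := 38) h412 m2_412
  have h414 : ∀ u < 15732, (fun u => chkFix tab mwords u) u = true := ext_range (a := 15694) (len := 38) h413 m2_413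
  have h415 : ∀ u < 15770, (fun u => chkFix tab mwords u) u = true := ext_range (a := 15732) (len := 38) h414 m2_414
  have h416 : ∀ u < 15808, (fun u => chkFix tab mwords u) u = true := ext_range (a := 15770) (len := 38) h415 m2_415
  have h417 : ∀ u < 15846, (fun u => chkFix tab mwords u) u = true := ext_range (a := 15808) (len := 38) h416 m2_416
  have h418 : ∀ u < 15884, (fun u => chkFix tab mwords u) u = true := ext_range (a := 15846) (len := 38) h417 m2_417
  have h419 : ∀ u < 15922, (fun u => chkFix tab mwords u) u = true := ext_range (a := 15884) (len := 38) h418 m2_418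
  have h420 : ∀ u < 15960, (fun u => chkFix tab mwords u) u = true := ext_range (a := 15922) (len := 38) h419 m2_419
  have h421 : ∀ u < 15998, (fun u => chkFix tab mwords u) u = true := ext_range (a := 15960) (len := 38) h420 m2_420
  have h422 : ∀ u < 16036, (fun u => chkFix tab mwords u) u = true := ext_range (a := 15998) (len := 38) h421 m2_421
  have h423 : ∀ u < 16074, (fun u => chkFix tab mwords u) u = true := ext_range (a := 16036) (len := 38) h422 m2_422
  have h424 : ∀ u < 16112, (fun u => chkFix tab mwords u) u = true := ext_range (a := 16074) (len := 38) h423 m2_423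
  have h425 : ∀ u < 16150, (fun u => chkFix tab mwords u) u = true := ext_range (a := 16112) (len := 38) h424 m2_424
  have h426 : ∀ u < 16188, (fun u => chkFix tab mwords u) u = true := ext_range (a := 16150) (len := 38) h425 m2_425
  have h427 : ∀ u < 16226, (fun u => chkFix tab mwords u) u = true := ext_range (a := 16188) (len := 38) h426 m2_426
  have h428 : ∀ u < 16264, (fun u => chkFix tab mwords u) u = true := ext_range (a := 16226) (len := 38) h427 m2_427
  have h429 : ∀ u < 16302, (fun u => chkFix tab mwords u) u = true := ext_range (a := 16264) (len := 38) h428 m2_428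
  have h430 : ∀ u < 16340, (fun u => chkFix tab mwords u) u = true := ext_range (a := 16302) (len := 38) h429 m2_429
  have h431 : ∀ u < 16378, (fun u => chkFix tab mwords u) u = true := ext_range (a := 16340) (len := 38) h430 m2_430
  have h432 : ∀ u < 16416, (fun u => chkFix tab mwords u) u = true := ext_range (a := 16378) (len := 38) h431 m2_431
  have h433 : ∀ u < 16454, (fun u => chkFix tab mwords u) u = true := ext_range (a := 16416) (len := 38) h432 m2_432
  have h434 : ∀ u < 16492, (fun u => chkFix tab mwords u) u = true := ext_range (a := 16454) (len := 38) h433 m2_433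
  have h435 : ∀ u < 16530, (fun u => chkFix tab mwords u) u = true := ext_range (a := 16492) (len := 38) h434 m2_434
  have h436 : ∀ u < 16568, (fun u => chkFix tab mwords u) u = true := ext_range (a := 16530) (len := 38) h435 m2_435
  have h437 : ∀ u < 16606, (fun u => chkFix tab mwords u) u = true := ext_range (a := 16568) (len := 38) h436 m2_436
  have h438 : ∀ u < 16644, (fun u => chkFix tab mwords u) u = true := ext_range (a := 16606) (len := 38) h437 m2_437
  have h439 : ∀ u < 16682, (fun u => chkFix tab mwords u) u = true := ext_range (a := 16644) (len := 38) h438 m2_438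
  have h440 : ∀ u < 16720, (fun u => chkFix tab mwords u) u = true := ext_range (a := 16682) (len := 38) h439 m2_439
  have h441 : ∀ u < 16758, (fun u => chkFix tab mwords u) u = true := ext_range (a := 16720) (len := 38) h440 m2_440
  have h442 : ∀ u < 16796, (fun u => chkFix tab mwords u) u = true := ext_range (a := 16758) (len := 38) h441 m2_441
  have h443 : ∀ u < 16834, (fun u => chkFix tab mwords u) u = true := ext_range (a := 16796) (len := 38) h442 m2_442
  have h444 : ∀ u < 16872, (fun u => chkFix tab mwords u) u = true := ext_range (a := 16834) (len := 38) h443 m2_443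
  have h445 : ∀ u < 16910, (fun u => chkFix tab mwords u) u = true := ext_range (a := 16872) (len := 38) h444 m2_444
  have h446 : ∀ u < 16948, (fun u => chkFix tab mwords u) u = true := ext_range (a := 16910) (len := 38) h445 m2_445
  have h447 : ∀ u < 16986, (fun u => chkFix tab mwords u) u = true := ext_range (a := 16948) (len := 38) h446 m2_446
  have h448 : ∀ u < 17024, (fun u => chkFix tab mwords u) u = true := ext_range (a := 16986) (len := 38) h447 m2_447
  have h449 : ∀ u < 17062, (fun u => chkFix tab mwords u) u = true := ext_range (a := 17024) (len := 38) h448 m2_448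
  have h450 : ∀ u < 17100, (fun u => chkFix tab mwords u) u = true := ext_range (a := 17062) (len := 38) h449 m2_449
  have h451 : ∀ u < 17138, (fun u => chkFix tab mwords u) u = true := ext_range (a := 17100) (len := 38) h450 m2_450
  have h452 : ∀ u < 17176, (fun u => chkFix tab mwords u) u = true := ext_range (a := 17138) (len := 38) h451 m2_451
  have h453 : ∀ u < 17214, (fun u => chkFix tab mwords u) u = true := ext_range (a := 17176) (len := 38) h452 m2_452
  have h454 : ∀ u < 17252, (fun u => chkFix tab mwords u) u = true := ext_range (a := 17214) (len := 38) h453 m2_453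
  have h455 : ∀ u < 17290, (fun u => chkFix tab mwords u) u = true := ext_range (a := 17252) (len := 38) h454 m2_454
  have h456 : ∀ u < 17328, (fun u => chkFix tab mwords u) u = true := ext_range (a := 17290) (len := 38) h455 m2_455
  have h457 : ∀ u < 17366, (fun u => chkFix tab mwords u) u = true := ext_range (a := 17328) (len := 38) h456 m2_456
  have h458 : ∀ u < 17404, (fun u => chkFix tab mwords u) u = true := ext_range (a := 17366) (len := 38) h457 m2_457
  have h459 : ∀ u < 17442, (fun u => chkFix tab mwords u) u = true := ext_range (a := 17404) (len := 38) h458 m2_458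
  have h460 : ∀ u < 17480, (fun u => chkFix tab mwords u) u = true := ext_range (a := 17442) (len := 38) h459 m2_459
  have h461 : ∀ u < 17518, (fun u => chkFix tab mwords u) u = true := ext_range (a := 17480) (len := 38) h460 m2_460
  have h462 : ∀ u < 17556, (fun u => chkFix tab mwords u) u = true := ext_range (a := 17518) (len := 38) h461 m2_461
  have h463 : ∀ u < 17594, (fun u => chkFix tab mwords u) u = true := ext_range (a := 17556) (len := 38) h462 m2_462
  have h464 : ∀ u < 17632, (fun u => chkFix tab mwords u) u = true := ext_range (a := 17594) (len := 38) h463 m2_463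
  have h465 : ∀ u < 17670, (fun u => chkFix tab mwords u) u = true := ext_range (a := 17632) (len := 38) h464 m2_464
  have h466 : ∀ u < 17708, (fun u => chkFix tab mwords u) u = true := ext_range (a := 17670) (len := 38) h465 m2_465
  have h467 : ∀ u < 17746, (fun u => chkFix tab mwords u) u = true := ext_range (a := 17708) (len := 38) h466 m2_466
  have h468 : ∀ u < 17784, (fun u => chkFix tab mwords u) u = true := ext_range (a := 17746) (len := 38) h467 m2_467
  have h469 : ∀ u < 17822, (fun u => chkFix tab mwords u) u = true := ext_range (a := 17784) (len := 38) h468 m2_468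
  have h470 : ∀ u < 17860, (fun u => chkFix tab mwords u) u = true := ext_range (a := 17822) (len := 38) h469 m2_469
  have h471 : ∀ u < 17898, (fun u => chkFix tab mwords u) u = true := ext_range (a := 17860) (len := 38) h470 m2_470
  have h472 : ∀ u < 17936, (fun u => chkFix tab mwords u) u = true := ext_range (a := 17898) (len := 38) h471 m2_471
  have h473 : ∀ u < 17974, (fun u => chkFix tab mwords u) u = true := ext_range (a := 17936) (len := 38) h472 m2_472
  have h474 : ∀ u < 18012, (fun u => chkFix tab mwords u) u = true := ext_range (a := 17974) (len := 38) h473 m2_473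
  have h475 : ∀ u < 18050, (fun u => chkFix tab mwords u) u = true := ext_range (a := 18012) (len := 38) h474 m2_474
  have h476 : ∀ u < 18088, (fun u => chkFix tab mwords u) u = true := ext_range (a := 18050) (len := 38) h475 m2_475
  have h477 : ∀ u < 18126, (fun u => chkFix tab mwords u) u = true := ext_range (a := 18088) (len := 38) h476 m2_476
  have h478 : ∀ u < 18164, (fun u => chkFix tab mwords u) u = true := ext_range (a := 18126) (len := 38) h477 m2_477
  have h479 : ∀ u < 18202, (fun u => chkFix tab mwords u) u = true := ext_range (a := 18164) (len := 38) h478 m2_478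
  have h480 : ∀ u < 18240, (fun u => chkFix tab mwords u) u = true := ext_range (a := 18202) (len := 38) h479 m2_479
  have h481 : ∀ u < 18278, (fun u => chkFix tab mwords u) u = true := ext_range (a := 18240) (len := 38) h480 m2_480
  have h482 : ∀ u < 18316, (fun u => chkFix tab mwords u) u = true := ext_range (a := 18278) (len := 38) h481 m2_481
  have h483 : ∀ u < 18354, (fun u => chkFix tab mwords u) u = true := ext_range (a := 18316) (len := 38) h482 m2_482
  have h484 : ∀ u < 18392, (fun u => chkFix tab mwords u) u = true := ext_range (a := 18354) (len := 38) h483 m2_483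
  have h485 : ∀ u < 18430, (fun u => chkFix tab mwords u) u = true := ext_range (a := 18392) (len := 38) h484 m2_484
  have h486 : ∀ u < 18468, (fun u => chkFix tab mwords u) u = true := ext_range (a := 18430) (len := 38) h485 m2_485
  have h487 : ∀ u < 18506, (fun u => chkFix tab mwords u) u = true := ext_range (a := 18468) (len := 38) h486 m2_486
  have h488 : ∀ u < 18544, (fun u => chkFix tab mwords u) u = true := ext_range (a := 18506) (len := 38) h487 m2_487
  have h489 : ∀ u < 18582, (fun u => chkFix tab mwords u) u = true := ext_range (a := 18544) (len := 38) h488 m2_488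
  have h490 : ∀ u < 18620, (fun u => chkFix tab mwords u) u = true := ext_range (a := 18582) (len := 38) h489 m2_489
  have h491 : ∀ u < 18658, (fun u => chkFix tab mwords u) u = true := ext_range (a := 18620) (len := 38) h490 m2_490
  have h492 : ∀ u < 18696, (fun u => chkFix tab mwords u) u = true := ext_range (a := 18658) (len := 38) h491 m2_491
  have h493 : ∀ u < 18734, (fun u => chkFix tab mwords u) u = true := ext_range (a := 18696) (len := 38) h492 m2_492
  have h494 : ∀ u < 18772, (fun u => chkFix tab mwords u) u = true := ext_range (a := 18734) (len := 38) h493 m2_493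
  have h495 : ∀ u < 18810, (fun u => chkFix tab mwords u) u = true := ext_range (a := 18772) (len := 38) h494 m2_494
  have h496 : ∀ u < 18848, (fun u => chkFix tab mwords u) u = true := ext_range (a := 18810) (len := 38) h495 m2_495
  have h497 : ∀ u < 18886, (fun u => chkFix tab mwords u) u = true := ext_range (a := 18848) (len := 38) h496 m2_496
  have h498 : ∀ u < 18924, (fun u => chkFix tab mwords u) u = true := ext_range (a := 18886) (len := 38) h497 m2_497
  have h499 : ∀ u < 18962, (fun u => chkFix tab mwords u) u = true := ext_range (a := 18924) (len := 38) h498 m2_498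
  have h500 : ∀ u < 19000, (fun u => chkFix tab mwords u) u = true := ext_range (a := 18962) (len := 38) h499 m2_499
  have h501 : ∀ u < 19038, (fun u => chkFix tab mwords u) u = true := ext_range (a := 19000) (len := 38) h500 m2_500
  have h502 : ∀ u < 19076, (fun u => chkFix tab mwords u) u = true := ext_range (a := 19038) (len := 38) h501 m2_501
  have h503 : ∀ u < 19114, (fun u => chkFix tab mwords u) u = true := ext_range (a := 19076) (len := 38) h502 m2_502
  have h504 : ∀ u < 19152, (fun u => chkFix tab mwords u) u = true := ext_range (a := 19114) (len := 38) h503 m2_503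
  have h505 : ∀ u < 19190, (fun u => chkFix tab mwords u) u = true := ext_range (a := 19152) (len := 38) h504 m2_504
  have h506 : ∀ u < 19228, (fun u => chkFix tab mwords u) u = true := ext_range (a := 19190) (len := 38) h505 m2_505
  have h507 : ∀ u < 19266, (fun u => chkFix tab mwords u) u = true := ext_range (a := 19228) (len := 38) h506 m2_506
  have h508 : ∀ u < 19304, (fun u => chkFix tab mwords u) u = true := ext_range (a := 19266) (len := 38) h507 m2_507
  have h509 : ∀ u < 19342, (fun u => chkFix tab mwords u) u = true := ext_range (a := 19304) (len := 38) h508 m2_508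
  have h510 : ∀ u < 19380, (fun u => chkFix tab mwords u) u = true := ext_range (a := 19342) (len := 38) h509 m2_509
  have h511 : ∀ u < 19418, (fun u => chkFix tab mwords u) u = true := ext_range (a := 19380) (len := 38) h510 m2_510
  have h512 : ∀ u < 19456, (fun u => chkFix tab mwords u) u = true := ext_range (a := 19418) (len := 38) h511 m2_511
  have h513 : ∀ u < 19494, (fun u => chkFix tab mwords u) u = true := ext_range (a := 19456) (len := 38) h512 m2_512
  have h514 : ∀ u < 19532, (fun u => chkFix tab mwords u) u = true := ext_range (a := 19494) (len := 38) h513 m2_513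
  have h515 : ∀ u < 19570, (fun u => chkFix tab mwords u) u = true := ext_range (a := 19532) (len := 38) h514 m2_514
  have h516 : ∀ u < 19608, (fun u => chkFix tab mwords u) u = true := ext_range (a := 19570) (len := 38) h515 m2_515
  have h517 : ∀ u < 19646, (fun u => chkFix tab mwords u) u = true := ext_range (a := 19608) (len := 38) h516 m2_516
  have h518 : ∀ u < 19684, (fun u => chkFix tab mwords u) u = true := ext_range (a := 19646) (len := 38) h517 m2_517
  have h519 : ∀ u < 19722, (fun u => chkFix tab mwords u) u = true := ext_range (a := 19684) (len := 38) h518 m2_518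
  have h520 : ∀ u < 19760, (fun u => chkFix tab mwords u) u = true := ext_range (a := 19722) (len := 38) h519 m2_519
  have h521 : ∀ u < 19798, (fun u => chkFix tab mwords u) u = true := ext_range (a := 19760) (len := 38) h520 m2_520
  have h522 : ∀ u < 19836, (fun u => chkFix tab mwords u) u = true := ext_range (a := 19798) (len := 38) h521 m2_521
  have h523 : ∀ u < 19874, (fun u => chkFix tab mwords u) u = true := ext_range (a := 19836) (len := 38) h522 m2_522
  have h524 : ∀ u < 19912, (fun u => chkFix tab mwords u) u = true := ext_range (a := 19874) (len := 38) h523 m2_523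
  have h525 : ∀ u < 19950, (fun u => chkFix tab mwords u) u = true := ext_range (a := 19912) (len := 38) h524 m2_524
  have h526 : ∀ u < 19988, (fun u => chkFix tab mwords u) u = true := ext_range (a := 19950) (len := 38) h525 m2_525
  have h527 : ∀ u < 20026, (fun u => chkFix tab mwords u) u = true := ext_range (a := 19988) (len := 38) h526 m2_526
  have h528 : ∀ u < 20064, (fun u => chkFix tab mwords u) u = true := ext_range (a := 20026) (len := 38) h527 m2_527
  have h529 : ∀ u < 20102, (fun u => chkFix tab mwords u) u = true := ext_range (a := 20064) (len := 38) h528 m2_528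
  have h530 : ∀ u < 20140, (fun u => chkFix tab mwords u) u = true := ext_range (a := 20102) (len := 38) h529 m2_529
  have h531 : ∀ u < 20178, (fun u => chkFix tab mwords u) u = true := ext_range (a := 20140) (len := 38) h530 m2_530
  have h532 : ∀ u < 20216, (fun u => chkFix tab mwords u) u = true := ext_range (a := 20178) (len := 38) h531 m2_531
  have h533 : ∀ u < 20254, (fun u => chkFix tab mwords u) u = true := ext_range (a := 20216) (len := 38) h532 m2_532
  have h534 : ∀ u < 20292, (fun u => chkFix tab mwords u) u = true := ext_range (a := 20254) (len := 38) h533 m2_533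
  have h535 : ∀ u < 20330, (fun u => chkFix tab mwords u) u = true := ext_range (a := 20292) (len := 38) h534 m2_534
  have h536 : ∀ u < 20368, (fun u => chkFix tab mwords u) u = true := ext_range (a := 20330) (len := 38) h535 m2_535
  have h537 : ∀ u < 20406, (fun u => chkFix tab mwords u) u = true := ext_range (a := 20368) (len := 38) h536 m2_536
  have h538 : ∀ u < 20444, (fun u => chkFix tab mwords u) u = true := ext_range (a := 20406) (len := 38) h537 m2_537
  have h539 : ∀ u < 20482, (fun u => chkFix tab mwords u) u = true := ext_range (a := 20444) (len := 38) h538 m2_538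
  have h540 : ∀ u < 20520, (fun u => chkFix tab mwords u) u = true := ext_range (a := 20482) (len := 38) h539 m2_539
  have h541 : ∀ u < 20558, (fun u => chkFix tab mwords u) u = true := ext_range (a := 20520) (len := 38) h540 m2_540
  have h542 : ∀ u < 20596, (fun u => chkFix tab mwords u) u = true := ext_range (a := 20558) (len := 38) h541 m2_541
  have h543 : ∀ u < 20634, (fun u => chkFix tab mwords u) u = true := ext_range (a := 20596) (len := 38) h542 m2_542
  have h544 : ∀ u < 20672, (fun u => chkFix tab mwords u) u = true := ext_range (a := 20634) (len := 38) h543 m2_543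
  have h545 : ∀ u < 20710, (fun u => chkFix tab mwords u) u = true := ext_range (a := 20672) (len := 38) h544 m2_544
  have h546 : ∀ u < 20748, (fun u => chkFix tab mwords u) u = true := ext_range (a := 20710) (len := 38) h545 m2_545
  have h547 : ∀ u < 20786, (fun u => chkFix tab mwords u) u = true := ext_range (a := 20748) (len := 38) h546 m2_546
  have h548 : ∀ u < 20824, (fun u => chkFix tab mwords u) u = true := ext_range (a := 20786) (len := 38) h547 m2_547
  have h549 : ∀ u < 20862, (fun u => chkFix tab mwords u) u = true := ext_range (a := 20824) (len := 38) h548 m2_548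
  have h550 : ∀ u < 20900, (fun u => chkFix tab mwords u) u = true := ext_range (a := 20862) (len := 38) h549 m2_549
  have h551 : ∀ u < 20938, (fun u => chkFix tab mwords u) u = true := ext_range (a := 20900) (len := 38) h550 m2_550
  have h552 : ∀ u < 20976, (fun u => chkFix tab mwords u) u = true := ext_range (a := 20938) (len := 38) h551 m2_551
  have h553 : ∀ u < 21014, (fun u => chkFix tab mwords u) u = true := ext_range (a := 20976) (len := 38) h552 m2_552
  have h554 : ∀ u < 21052, (fun u => chkFix tab mwords u) u = true := ext_range (a := 21014) (len := 38) h553 m2_553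
  have h555 : ∀ u < 21090, (fun u => chkFix tab mwords u) u = true := ext_range (a := 21052) (len := 38) h554 m2_554
  have h556 : ∀ u < 21128, (fun u => chkFix tab mwords u) u = true := ext_range (a := 21090) (len := 38) h555 m2_555
  have h557 : ∀ u < 21166, (fun u => chkFix tab mwords u) u = true := ext_range (a := 21128) (len := 38) h556 m2_556
  have h558 : ∀ u < 21204, (fun u => chkFix tab mwords u) u = true := ext_range (a := 21166) (len := 38) h557 m2_557
  have h559 : ∀ u < 21242, (fun u => chkFix tab mwords u) u = true := ext_range (a := 21204) (len := 38) h558 m2_558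
  have h560 : ∀ u < 21280, (fun u => chkFix tab mwords u) u = true := ext_range (a := 21242) (len := 38) h559 m2_559
  have h561 : ∀ u < 21318, (fun u => chkFix tab mwords u) u = true := ext_range (a := 21280) (len := 38) h560 m2_560
  have h562 : ∀ u < 21356, (fun u => chkFix tab mwords u) u = true := ext_range (a := 21318) (len := 38) h561 m2_561
  have h563 : ∀ u < 21394, (fun u => chkFix tab mwords u) u = true := ext_range (a := 21356) (len := 38) h562 m2_562
  have h564 : ∀ u < 21432, (fun u => chkFix tab mwords u) u = true := ext_range (a := 21394) (len := 38) h563 m2_563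
  have h565 : ∀ u < 21470, (fun u => chkFix tab mwords u) u = true := ext_range (a := 21432) (len := 38) h564 m2_564
  have h566 : ∀ u < 21508, (fun u => chkFix tab mwords u) u = true := ext_range (a := 21470) (len := 38) h565 m2_565
  have h567 : ∀ u < 21546, (fun u => chkFix tab mwords u) u = true := ext_range (a := 21508) (len := 38) h566 m2_566
  have h568 : ∀ u < 21584, (fun u => chkFix tab mwords u) u = true := ext_range (a := 21546) (len := 38) h567 m2_567
  have h569 : ∀ u < 21622, (fun u => chkFix tab mwords u) u = true := ext_range (a := 21584) (len := 38) h568 m2_568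
  have h570 : ∀ u < 21660, (fun u => chkFix tab mwords u) u = true := ext_range (a := 21622) (len := 38) h569 m2_569
  have h571 : ∀ u < 21698, (fun u => chkFix tab mwords u) u = true := ext_range (a := 21660) (len := 38) h570 m2_570
  have h572 : ∀ u < 21736, (fun u => chkFix tab mwords u) u = true := ext_range (a := 21698) (len := 38) h571 m2_571
  have h573 : ∀ u < 21774, (fun u => chkFix tab mwords u) u = true := ext_range (a := 21736) (len := 38) h572 m2_572
  have h574 : ∀ u < 21812, (fun u => chkFix tab mwords u) u = true := ext_range (a := 21774) (len := 38) h573 m2_573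
  have h575 : ∀ u < 21850, (fun u => chkFix tab mwords u) u = true := ext_range (a := 21812) (len := 38) h574 m2_574
  have h576 : ∀ u < 21888, (fun u => chkFix tab mwords u) u = true := ext_range (a := 21850) (len := 38) h575 m2_575
  have h577 : ∀ u < 21926, (fun u => chkFix tab mwords u) u = true := ext_range (a := 21888) (len := 38) h576 m2_576
  have h578 : ∀ u < 21964, (fun u => chkFix tab mwords u) u = true := ext_range (a := 21926) (len := 38) h577 m2_577
  have h579 : ∀ u < 22002, (fun u => chkFix tab mwords u) u = true := ext_range (a := 21964) (len := 38) h578 m2_578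
  have h580 : ∀ u < 22040, (fun u => chkFix tab mwords u) u = true := ext_range (a := 22002) (len := 38) h579 m2_579
  have h581 : ∀ u < 22078, (fun u => chkFix tab mwords u) u = true := ext_range (a := 22040) (len := 38) h580 m2_580
  have h582 : ∀ u < 22116, (fun u => chkFix tab mwords u) u = true := ext_range (a := 22078) (len := 38) h581 m2_581
  have h583 : ∀ u < 22154, (fun u => chkFix tab mwords u) u = true := ext_range (a := 22116) (len := 38) h582 m2_582
  have h584 : ∀ u < 22192, (fun u => chkFix tab mwords u) u = true := ext_range (a := 22154) (len := 38) h583 m2_583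
  have h585 : ∀ u < 22230, (fun u => chkFix tab mwords u) u = true := ext_range (a := 22192) (len := 38) h584 m2_584
  have h586 : ∀ u < 22268, (fun u => chkFix tab mwords u) u = true := ext_range (a := 22230) (len := 38) h585 m2_585
  have h587 : ∀ u < 22306, (fun u => chkFix tab mwords u) u = true := ext_range (a := 22268) (len := 38) h586 m2_586
  have h588 : ∀ u < 22344, (fun u => chkFix tab mwords u) u = true := ext_range (a := 22306) (len := 38) h587 m2_587
  have h589 : ∀ u < 22382, (fun u => chkFix tab mwords u) u = true := ext_range (a := 22344) (len := 38) h588 m2_588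
  have h590 : ∀ u < 22420, (fun u => chkFix tab mwords u) u = true := ext_range (a := 22382) (len := 38) h589 m2_589
  have h591 : ∀ u < 22458, (fun u => chkFix tab mwords u) u = true := ext_range (a := 22420) (len := 38) h590 m2_590
  have h592 : ∀ u < 22496, (fun u => chkFix tab mwords u) u = true := ext_range (a := 22458) (len := 38) h591 m2_591
  have h593 : ∀ u < 22534, (fun u => chkFix tab mwords u) u = true := ext_range (a := 22496) (len := 38) h592 m2_592
  have h594 : ∀ u < 22572, (fun u => chkFix tab mwords u) u = true := ext_range (a := 22534) (len := 38) h593 m2_593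
  have h595 : ∀ u < 22610, (fun u => chkFix tab mwords u) u = true := ext_range (a := 22572) (len := 38) h594 m2_594
  have h596 : ∀ u < 22648, (fun u => chkFix tab mwords u) u = true := ext_range (a := 22610) (len := 38) h595 m2_595
  have h597 : ∀ u < 22686, (fun u => chkFix tab mwords u) u = true := ext_range (a := 22648) (len := 38) h596 m2_596
  have h598 : ∀ u < 22724, (fun u => chkFix tab mwords u) u = true := ext_range (a := 22686) (len := 38) h597 m2_597
  have h599 : ∀ u < 22762, (fun u => chkFix tab mwords u) u = true := ext_range (a := 22724) (len := 38) h598 m2_598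
  have h600 : ∀ u < 22800, (fun u => chkFix tab mwords u) u = true := ext_range (a := 22762) (len := 38) h599 m2_599
  have h601 : ∀ u < 22838, (fun u => chkFix tab mwords u) u = true := ext_range (a := 22800) (len := 38) h600 m2_600
  have h602 : ∀ u < 22876, (fun u => chkFix tab mwords u) u = true := ext_range (a := 22838) (len := 38) h601 m2_601
  have h603 : ∀ u < 22914, (fun u => chkFix tab mwords u) u = true := ext_range (a := 22876) (len := 38) h602 m2_602
  have h604 : ∀ u < 22952, (fun u => chkFix tab mwords u) u = true := ext_range (a := 22914) (len := 38) h603 m2_603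
  have h605 : ∀ u < 22990, (fun u => chkFix tab mwords u) u = true := ext_range (a := 22952) (len := 38) h604 m2_604
  have h606 : ∀ u < 23028, (fun u => chkFix tab mwords u) u = true := ext_range (a := 22990) (len := 38) h605 m2_605
  have h607 : ∀ u < 23066, (fun u => chkFix tab mwords u) u = true := ext_range (a := 23028) (len := 38) h606 m2_606
  have h608 : ∀ u < 23104, (fun u => chkFix tab mwords u) u = true := ext_range (a := 23066) (len := 38) h607 m2_607
  have h609 : ∀ u < 23142, (fun u => chkFix tab mwords u) u = true := ext_range (a := 23104) (len := 38) h608 m2_608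
  have h610 : ∀ u < 23180, (fun u => chkFix tab mwords u) u = true := ext_range (a := 23142) (len := 38) h609 m2_609
  have h611 : ∀ u < 23218, (fun u => chkFix tab mwords u) u = true := ext_range (a := 23180) (len := 38) h610 m2_610
  have h612 : ∀ u < 23256, (fun u => chkFix tab mwords u) u = true := ext_range (a := 23218) (len := 38) h611 m2_611
  have h613 : ∀ u < 23294, (fun u => chkFix tab mwords u) u = true := ext_range (a := 23256) (len := 38) h612 m2_612
  have h614 : ∀ u < 23332, (fun u => chkFix tab mwords u) u = true := ext_range (a := 23294) (len := 38) h613 m2_613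
  have h615 : ∀ u < 23370, (fun u => chkFix tab mwords u) u = true := ext_range (a := 23332) (len := 38) h614 m2_614
  have h616 : ∀ u < 23408, (fun u => chkFix tab mwords u) u = true := ext_range (a := 23370) (len := 38) h615 m2_615
  have h617 : ∀ u < 23446, (fun u => chkFix tab mwords u) u = true := ext_range (a := 23408) (len := 38) h616 m2_616
  have h618 : ∀ u < 23484, (fun u => chkFix tab mwords u) u = true := ext_range (a := 23446) (len := 38) h617 m2_617
  have h619 : ∀ u < 23522, (fun u => chkFix tab mwords u) u = true := ext_range (a := 23484) (len := 38) h618 m2_618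
  have h620 : ∀ u < 23560, (fun u => chkFix tab mwords u) u = true := ext_range (a := 23522) (len := 38) h619 m2_619
  have h621 : ∀ u < 23598, (fun u => chkFix tab mwords u) u = true := ext_range (a := 23560) (len := 38) h620 m2_620
  have h622 : ∀ u < 23636, (fun u => chkFix tab mwords u) u = true := ext_range (a := 23598) (len := 38) h621 m2_621
  have h623 : ∀ u < 23674, (fun u => chkFix tab mwords u) u = true := ext_range (a := 23636) (len := 38) h622 m2_622
  have h624 : ∀ u < 23712, (fun u => chkFix tab mwords u) u = true := ext_range (a := 23674) (len := 38) h623 m2_623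
  have h625 : ∀ u < 23750, (fun u => chkFix tab mwords u) u = true := ext_range (a := 23712) (len := 38) h624 m2_624
  have h626 : ∀ u < 23788, (fun u => chkFix tab mwords u) u = true := ext_range (a := 23750) (len := 38) h625 m2_625
  have h627 : ∀ u < 23826, (fun u => chkFix tab mwords u) u = true := ext_range (a := 23788) (len := 38) h626 m2_626
  have h628 : ∀ u < 23864, (fun u => chkFix tab mwords u) u = true := ext_range (a := 23826) (len := 38) h627 m2_627
  have h629 : ∀ u < 23902, (fun u => chkFix tab mwords u) u = true := ext_range (a := 23864) (len := 38) h628 m2_628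
  have h630 : ∀ u < 23940, (fun u => chkFix tab mwords u) u = true := ext_range (a := 23902) (len := 38) h629 m2_629
  have h631 : ∀ u < 23978, (fun u => chkFix tab mwords u) u = true := ext_range (a := 23940) (len := 38) h630 m2_630
  have h632 : ∀ u < 24016, (fun u => chkFix tab mwords u) u = true := ext_range (a := 23978) (len := 38) h631 m2_631
  have h633 : ∀ u < 24054, (fun u => chkFix tab mwords u) u = true := ext_range (a := 24016) (len := 38) h632 m2_632
  have h634 : ∀ u < 24092, (fun u => chkFix tab mwords u) u = true := ext_range (a := 24054) (len := 38) h633 m2_633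
  have h635 : ∀ u < 24130, (fun u => chkFix tab mwords u) u = true := ext_range (a := 24092) (len := 38) h634 m2_634
  have h636 : ∀ u < 24168, (fun u => chkFix tab mwords u) u = true := ext_range (a := 24130) (len := 38) h635 m2_635
  have h637 : ∀ u < 24206, (fun u => chkFix tab mwords u) u = true := ext_range (a := 24168) (len := 38) h636 m2_636
  have h638 : ∀ u < 24244, (fun u => chkFix tab mwords u) u = true := ext_range (a := 24206) (len := 38) h637 m2_637
  have h639 : ∀ u < 24282, (fun u => chkFix tab mwords u) u = true := ext_range (a := 24244) (len := 38) h638 m2_638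
  have h640 : ∀ u < 24320, (fun u => chkFix tab mwords u) u = true := ext_range (a := 24282) (len := 38) h639 m2_639
  have h641 : ∀ u < 24358, (fun u => chkFix tab mwords u) u = true := ext_range (a := 24320) (len := 38) h640 m2_640
  have h642 : ∀ u < 24396, (fun u => chkFix tab mwords u) u = true := ext_range (a := 24358) (len := 38) h641 m2_641
  have h643 : ∀ u < 24434, (fun u => chkFix tab mwords u) u = true := ext_range (a := 24396) (len := 38) h642 m2_642
  have h644 : ∀ u < 24472, (fun u => chkFix tab mwords u) u = true := ext_range (a := 24434) (len := 38) h643 m2_643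
  have h645 : ∀ u < 24510, (fun u => chkFix tab mwords u) u = true := ext_range (a := 24472) (len := 38) h644 m2_644
  have h646 : ∀ u < 24548, (fun u => chkFix tab mwords u) u = true := ext_range (a := 24510) (len := 38) h645 m2_645
  have h647 : ∀ u < 24586, (fun u => chkFix tab mwords u) u = true := ext_range (a := 24548) (len := 38) h646 m2_646
  have h648 : ∀ u < 24624, (fun u => chkFix tab mwords u) u = true := ext_range (a := 24586) (len := 38) h647 m2_647
  have h649 : ∀ u < 24662, (fun u => chkFix tab mwords u) u = true := ext_range (a := 24624) (len := 38) h648 m2_648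
  have h650 : ∀ u < 24700, (fun u => chkFix tab mwords u) u = true := ext_range (a := 24662) (len := 38) h649 m2_649
  have h651 : ∀ u < 24738, (fun u => chkFix tab mwords u) u = true := ext_range (a := 24700) (len := 38) h650 m2_650
  have h652 : ∀ u < 24776, (fun u => chkFix tab mwords u) u = true := ext_range (a := 24738) (len := 38) h651 m2_651
  have h653 : ∀ u < 24814, (fun u => chkFix tab mwords u) u = true := ext_range (a := 24776) (len := 38) h652 m2_652
  have h654 : ∀ u < 24852, (fun u => chkFix tab mwords u) u = true := ext_range (a := 24814) (len := 38) h653 m2_653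
  have h655 : ∀ u < 24890, (fun u => chkFix tab mwords u) u = true := ext_range (a := 24852) (len := 38) h654 m2_654
  have h656 : ∀ u < 24928, (fun u => chkFix tab mwords u) u = true := ext_range (a := 24890) (len := 38) h655 m2_655
  have h657 : ∀ u < 24966, (fun u => chkFix tab mwords u) u = true := ext_range (a := 24928) (len := 38) h656 m2_656
  have h658 : ∀ u < 25004, (fun u => chkFix tab mwords u) u = true := ext_range (a := 24966) (len := 38) h657 m2_657
  have h659 : ∀ u < 25042, (fun u => chkFix tab mwords u) u = true := ext_range (a := 25004) (len := 38) h658 m2_658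
  have h660 : ∀ u < 25080, (fun u => chkFix tab mwords u) u = true := ext_range (a := 25042) (len := 38) h659 m2_659
  have h661 : ∀ u < 25118, (fun u => chkFix tab mwords u) u = true := ext_range (a := 25080) (len := 38) h660 m2_660
  have h662 : ∀ u < 25156, (fun u => chkFix tab mwords u) u = true := ext_range (a := 25118) (len := 38) h661 m2_661
  have h663 : ∀ u < 25194, (fun u => chkFix tab mwords u) u = true := ext_range (a := 25156) (len := 38) h662 m2_662
  have h664 : ∀ u < 25232, (fun u => chkFix tab mwords u) u = true := ext_range (a := 25194) (len := 38) h663 m2_663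
  have h665 : ∀ u < 25270, (fun u => chkFix tab mwords u) u = true := ext_range (a := 25232) (len := 38) h664 m2_664
  have h666 : ∀ u < 25308, (fun u => chkFix tab mwords u) u = true := ext_range (a := 25270) (len := 38) h665 m2_665
  have h667 : ∀ u < 25346, (fun u => chkFix tab mwords u) u = true := ext_range (a := 25308) (len := 38) h666 m2_666
  have h668 : ∀ u < 25384, (fun u => chkFix tab mwords u) u = true := ext_range (a := 25346) (len := 38) h667 m2_667
  have h669 : ∀ u < 25422, (fun u => chkFix tab mwords u) u = true := ext_range (a := 25384) (len := 38) h668 m2_668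
  have h670 : ∀ u < 25460, (fun u => chkFix tab mwords u) u = true := ext_range (a := 25422) (len := 38) h669 m2_669
  have h671 : ∀ u < 25498, (fun u => chkFix tab mwords u) u = true := ext_range (a := 25460) (len := 38) h670 m2_670
  have h672 : ∀ u < 25536, (fun u => chkFix tab mwords u) u = true := ext_range (a := 25498) (len := 38) h671 m2_671
  have h673 : ∀ u < 25574, (fun u => chkFix tab mwords u) u = true := ext_range (a := 25536) (len := 38) h672 m2_672
  have h674 : ∀ u < 25612, (fun u => chkFix tab mwords u) u = true := ext_range (a := 25574) (len := 38) h673 m2_673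
  have h675 : ∀ u < 25650, (fun u => chkFix tab mwords u) u = true := ext_range (a := 25612) (len := 38) h674 m2_674
  have h676 : ∀ u < 25688, (fun u => chkFix tab mwords u) u = true := ext_range (a := 25650) (len := 38) h675 m2_675
  have h677 : ∀ u < 25726, (fun u => chkFix tab mwords u) u = true := ext_range (a := 25688) (len := 38) h676 m2_676
  have h678 : ∀ u < 25764, (fun u => chkFix tab mwords u) u = true := ext_range (a := 25726) (len := 38) h677 m2_677
  have h679 : ∀ u < 25802, (fun u => chkFix tab mwords u) u = true := ext_range (a := 25764) (len := 38) h678 m2_678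
  have h680 : ∀ u < 25840, (fun u => chkFix tab mwords u) u = true := ext_range (a := 25802) (len := 38) h679 m2_679
  have h681 : ∀ u < 25878, (fun u => chkFix tab mwords u) u = true := ext_range (a := 25840) (len := 38) h680 m2_680
  have h682 : ∀ u < 25916, (fun u => chkFix tab mwords u) u = true := ext_range (a := 25878) (len := 38) h681 m2_681
  have h683 : ∀ u < 25954, (fun u => chkFix tab mwords u) u = true := ext_range (a := 25916) (len := 38) h682 m2_682
  have h684 : ∀ u < 25992, (fun u => chkFix tab mwords u) u = true := ext_range (a := 25954) (len := 38) h683 m2_683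
  have h685 : ∀ u < 26030, (fun u => chkFix tab mwords u) u = true := ext_range (a := 25992) (len := 38) h684 m2_684
  have h686 : ∀ u < 26068, (fun u => chkFix tab mwords u) u = true := ext_range (a := 26030) (len := 38) h685 m2_685
  have h687 : ∀ u < 26106, (fun u => chkFix tab mwords u) u = true := ext_range (a := 26068) (len := 38) h686 m2_686
  have h688 : ∀ u < 26144, (fun u => chkFix tab mwords u) u = true := ext_range (a := 26106) (len := 38) h687 m2_687
  have h689 : ∀ u < 26182, (fun u => chkFix tab mwords u) u = true := ext_range (a := 26144) (len := 38) h688 m2_688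
  have h690 : ∀ u < 26220, (fun u => chkFix tab mwords u) u = true := ext_range (a := 26182) (len := 38) h689 m2_689
  have h691 : ∀ u < 26258, (fun u => chkFix tab mwords u) u = true := ext_range (a := 26220) (len := 38) h690 m2_690
  have h692 : ∀ u < 26296, (fun u => chkFix tab mwords u) u = true := ext_range (a := 26258) (len := 38) h691 m2_691
  have h693 : ∀ u < 26334, (fun u => chkFix tab mwords u) u = true := ext_range (a := 26296) (len := 38) h692 m2_692
  have h694 : ∀ u < 26372, (fun u => chkFix tab mwords u) u = true := ext_range (a := 26334) (len := 38) h693 m2_693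
  have h695 : ∀ u < 26410, (fun u => chkFix tab mwords u) u = true := ext_range (a := 26372) (len := 38) h694 m2_694
  have h696 : ∀ u < 26448, (fun u => chkFix tab mwords u) u = true := ext_range (a := 26410) (len := 38) h695 m2_695
  have h697 : ∀ u < 26486, (fun u => chkFix tab mwords u) u = true := ext_range (a := 26448) (len := 38) h696 m2_696
  have h698 : ∀ u < 26524, (fun u => chkFix tab mwords u) u = true := ext_range (a := 26486) (len := 38) h697 m2_697
  have h699 : ∀ u < 26562, (fun u => chkFix tab mwords u) u = true := ext_range (a := 26524) (len := 38) h698 m2_698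
  have h700 : ∀ u < 26600, (fun u => chkFix tab mwords u) u = true := ext_range (a := 26562) (len := 38) h699 m2_699
  have h701 : ∀ u < 26638, (fun u => chkFix tab mwords u) u = true := ext_range (a := 26600) (len := 38) h700 m2_700
  have h702 : ∀ u < 26676, (fun u => chkFix tab mwords u) u = true := ext_range (a := 26638) (len := 38) h701 m2_701
  have h703 : ∀ u < 26714, (fun u => chkFix tab mwords u) u = true := ext_range (a := 26676) (len := 38) h702 m2_702
  have h704 : ∀ u < 26752, (fun u => chkFix tab mwords u) u = true := ext_range (a := 26714) (len := 38) h703 m2_703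
  have h705 : ∀ u < 26790, (fun u => chkFix tab mwords u) u = true := ext_range (a := 26752) (len := 38) h704 m2_704
  have h706 : ∀ u < 26828, (fun u => chkFix tab mwords u) u = true := ext_range (a := 26790) (len := 38) h705 m2_705
  have h707 : ∀ u < 26866, (fun u => chkFix tab mwords u) u = true := ext_range (a := 26828) (len := 38) h706 m2_706
  have h708 : ∀ u < 26904, (fun u => chkFix tab mwords u) u = true := ext_range (a := 26866) (len := 38) h707 m2_707
  have h709 : ∀ u < 26942, (fun u => chkFix tab mwords u) u = true := ext_range (a := 26904) (len := 38) h708 m2_708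
  have h710 : ∀ u < 26980, (fun u => chkFix tab mwords u) u = true := ext_range (a := 26942) (len := 38) h709 m2_709
  have h711 : ∀ u < 27018, (fun u => chkFix tab mwords u) u = true := ext_range (a := 26980) (len := 38) h710 m2_710
  have h712 : ∀ u < 27056, (fun u => chkFix tab mwords u) u = true := ext_range (a := 27018) (len := 38) h711 m2_711
  have h713 : ∀ u < 27094, (fun u => chkFix tab mwords u) u = true := ext_range (a := 27056) (len := 38) h712 m2_712
  have h714 : ∀ u < 27132, (fun u => chkFix tab mwords u) u = true := ext_range (a := 27094) (len := 38) h713 m2_713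
  have h715 : ∀ u < 27170, (fun u => chkFix tab mwords u) u = true := ext_range (a := 27132) (len := 38) h714 m2_714
  have h716 : ∀ u < 27208, (fun u => chkFix tab mwords u) u = true := ext_range (a := 27170) (len := 38) h715 m2_715
  have h717 : ∀ u < 27246, (fun u => chkFix tab mwords u) u = true := ext_range (a := 27208) (len := 38) h716 m2_716
  have h718 : ∀ u < 27284, (fun u => chkFix tab mwords u) u = true := ext_range (a := 27246) (len := 38) h717 m2_717
  have h719 : ∀ u < 27322, (fun u => chkFix tab mwords u) u = true := ext_range (a := 27284) (len := 38) h718 m2_718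
  have h720 : ∀ u < 27360, (fun u => chkFix tab mwords u) u = true := ext_range (a := 27322) (len := 38) h719 m2_719
  have h721 : ∀ u < 27398, (fun u => chkFix tab mwords u) u = true := ext_range (a := 27360) (len := 38) h720 m2_720
  have h722 : ∀ u < 27436, (fun u => chkFix tab mwords u) u = true := ext_range (a := 27398) (len := 38) h721 m2_721
  have h723 : ∀ u < 27474, (fun u => chkFix tab mwords u) u = true := ext_range (a := 27436) (len := 38) h722 m2_722
  have h724 : ∀ u < 27512, (fun u => chkFix tab mwords u) u = true := ext_range (a := 27474) (len := 38) h723 m2_723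
  have h725 : ∀ u < 27550, (fun u => chkFix tab mwords u) u = true := ext_range (a := 27512) (len := 38) h724 m2_724
  have h726 : ∀ u < 27588, (fun u => chkFix tab mwords u) u = true := ext_range (a := 27550) (len := 38) h725 m2_725
  have h727 : ∀ u < 27626, (fun u => chkFix tab mwords u) u = true := ext_range (a := 27588) (len := 38) h726 m2_726
  have h728 : ∀ u < 27664, (fun u => chkFix tab mwords u) u = true := ext_range (a := 27626) (len := 38) h727 m2_727
  have h729 : ∀ u < 27702, (fun u => chkFix tab mwords u) u = true := ext_range (a := 27664) (len := 38) h728 m2_728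
  have h730 : ∀ u < 27740, (fun u => chkFix tab mwords u) u = true := ext_range (a := 27702) (len := 38) h729 m2_729
  have h731 : ∀ u < 27778, (fun u => chkFix tab mwords u) u = true := ext_range (a := 27740) (len := 38) h730 m2_730
  have h732 : ∀ u < 27816, (fun u => chkFix tab mwords u) u = true := ext_range (a := 27778) (len := 38) h731 m2_731
  have h733 : ∀ u < 27854, (fun u => chkFix tab mwords u) u = true := ext_range (a := 27816) (len := 38) h732 m2_732
  have h734 : ∀ u < 27892, (fun u => chkFix tab mwords u) u = true := ext_range (a := 27854) (len := 38) h733 m2_733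
  have h735 : ∀ u < 27930, (fun u => chkFix tab mwords u) u = true := ext_range (a := 27892) (len := 38) h734 m2_734
  have h736 : ∀ u < 27968, (fun u => chkFix tab mwords u) u = true := ext_range (a := 27930) (len := 38) h735 m2_735
  have h737 : ∀ u < 28006, (fun u => chkFix tab mwords u) u = true := ext_range (a := 27968) (len := 38) h736 m2_736
  have h738 : ∀ u < 28044, (fun u => chkFix tab mwords u) u = true := ext_range (a := 28006) (len := 38) h737 m2_737
  have h739 : ∀ u < 28082, (fun u => chkFix tab mwords u) u = true := ext_range (a := 28044) (len := 38) h738 m2_738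
  have h740 : ∀ u < 28120, (fun u => chkFix tab mwords u) u = true := ext_range (a := 28082) (len := 38) h739 m2_739
  have h741 : ∀ u < 28158, (fun u => chkFix tab mwords u) u = true := ext_range (a := 28120) (len := 38) h740 m2_740
  have h742 : ∀ u < 28196, (fun u => chkFix tab mwords u) u = true := ext_range (a := 28158) (len := 38) h741 m2_741
  have h743 : ∀ u < 28234, (fun u => chkFix tab mwords u) u = true := ext_range (a := 28196) (len := 38) h742 m2_742
  have h744 : ∀ u < 28272, (fun u => chkFix tab mwords u) u = true := ext_range (a := 28234) (len := 38) h743 m2_743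
  have h745 : ∀ u < 28310, (fun u => chkFix tab mwords u) u = true := ext_range (a := 28272) (len := 38) h744 m2_744
  have h746 : ∀ u < 28348, (fun u => chkFix tab mwords u) u = true := ext_range (a := 28310) (len := 38) h745 m2_745
  have h747 : ∀ u < 28386, (fun u => chkFix tab mwords u) u = true := ext_range (a := 28348) (len := 38) h746 m2_746
  have h748 : ∀ u < 28424, (fun u => chkFix tab mwords u) u = true := ext_range (a := 28386) (len := 38) h747 m2_747
  have h749 : ∀ u < 28462, (fun u => chkFix tab mwords u) u = true := ext_range (a := 28424) (len := 38) h748 m2_748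
  have h750 : ∀ u < 28500, (fun u => chkFix tab mwords u) u = true := ext_range (a := 28462) (len := 38) h749 m2_749
  have h751 : ∀ u < 28538, (fun u => chkFix tab mwords u) u = true := ext_range (a := 28500) (len := 38) h750 m2_750
  have h752 : ∀ u < 28576, (fun u => chkFix tab mwords u) u = true := ext_range (a := 28538) (len := 38) h751 m2_751
  have h753 : ∀ u < 28614, (fun u => chkFix tab mwords u) u = true := ext_range (a := 28576) (len := 38) h752 m2_752
  have h754 : ∀ u < 28652, (fun u => chkFix tab mwords u) u = true := ext_range (a := 28614) (len := 38) h753 m2_753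
  have h755 : ∀ u < 28690, (fun u => chkFix tab mwords u) u = true := ext_range (a := 28652) (len := 38) h754 m2_754
  have h756 : ∀ u < 28728, (fun u => chkFix tab mwords u) u = true := ext_range (a := 28690) (len := 38) h755 m2_755
  have h757 : ∀ u < 28766, (fun u => chkFix tab mwords u) u = true := ext_range (a := 28728) (len := 38) h756 m2_756
  have h758 : ∀ u < 28804, (fun u => chkFix tab mwords u) u = true := ext_range (a := 28766) (len := 38) h757 m2_757
  have h759 : ∀ u < 28842, (fun u => chkFix tab mwords u) u = true := ext_range (a := 28804) (len := 38) h758 m2_758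
  have h760 : ∀ u < 28880, (fun u => chkFix tab mwords u) u = true := ext_range (a := 28842) (len := 38) h759 m2_759
  have h761 : ∀ u < 28918, (fun u => chkFix tab mwords u) u = true := ext_range (a := 28880) (len := 38) h760 m2_760
  have h762 : ∀ u < 28956, (fun u => chkFix tab mwords u) u = true := ext_range (a := 28918) (len := 38) h761 m2_761
  have h763 : ∀ u < 28994, (fun u => chkFix tab mwords u) u = true := ext_range (a := 28956) (len := 38) h762 m2_762
  have h764 : ∀ u < 29032, (fun u => chkFix tab mwords u) u = true := ext_range (a := 28994) (len := 38) h763 m2_763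
  have h765 : ∀ u < 29070, (fun u => chkFix tab mwords u) u = true := ext_range (a := 29032) (len := 38) h764 m2_764
  have h766 : ∀ u < 29108, (fun u => chkFix tab mwords u) u = true := ext_range (a := 29070) (len := 38) h765 m2_765
  have h767 : ∀ u < 29146, (fun u => chkFix tab mwords u) u = true := ext_range (a := 29108) (len := 38) h766 m2_766
  have h768 : ∀ u < 29184, (fun u => chkFix tab mwords u) u = true := ext_range (a := 29146) (len := 38) h767 m2_767
  have h769 : ∀ u < 29222, (fun u => chkFix tab mwords u) u = true := ext_range (a := 29184) (len := 38) h768 m2_768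
  have h770 : ∀ u < 29260, (fun u => chkFix tab mwords u) u = true := ext_range (a := 29222) (len := 38) h769 m2_769
  have h771 : ∀ u < 29298, (fun u => chkFix tab mwords u) u = true := ext_range (a := 29260) (len := 38) h770 m2_770
  have h772 : ∀ u < 29336, (fun u => chkFix tab mwords u) u = true := ext_range (a := 29298) (len := 38) h771 m2_771
  have h773 : ∀ u < 29374, (fun u => chkFix tab mwords u) u = true := ext_range (a := 29336) (len := 38) h772 m2_772
  have h774 : ∀ u < 29412, (fun u => chkFix tab mwords u) u = true := ext_range (a := 29374) (len := 38) h773 m2_773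
  have h775 : ∀ u < 29450, (fun u => chkFix tab mwords u) u = true := ext_range (a := 29412) (len := 38) h774 m2_774
  have h776 : ∀ u < 29488, (fun u => chkFix tab mwords u) u = true := ext_range (a := 29450) (len := 38) h775 m2_775
  have h777 : ∀ u < 29526, (fun u => chkFix tab mwords u) u = true := ext_range (a := 29488) (len := 38) h776 m2_776
  have h778 : ∀ u < 29564, (fun u => chkFix tab mwords u) u = true := ext_range (a := 29526) (len := 38) h777 m2_777
  have h779 : ∀ u < 29602, (fun u => chkFix tab mwords u) u = true := ext_range (a := 29564) (len := 38) h778 m2_778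
  have h780 : ∀ u < 29640, (fun u => chkFix tab mwords u) u = true := ext_range (a := 29602) (len := 38) h779 m2_779
  have h781 : ∀ u < 29678, (fun u => chkFix tab mwords u) u = true := ext_range (a := 29640) (len := 38) h780 m2_780
  have h782 : ∀ u < 29716, (fun u => chkFix tab mwords u) u = true := ext_range (a := 29678) (len := 38) h781 m2_781
  have h783 : ∀ u < 29754, (fun u => chkFix tab mwords u) u = true := ext_range (a := 29716) (len := 38) h782 m2_782
  have h784 : ∀ u < 29792, (fun u => chkFix tab mwords u) u = true := ext_range (a := 29754) (len := 38) h783 m2_783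
  have h785 : ∀ u < 29830, (fun u => chkFix tab mwords u) u = true := ext_range (a := 29792) (len := 38) h784 m2_784
  have h786 : ∀ u < 29868, (fun u => chkFix tab mwords u) u = true := ext_range (a := 29830) (len := 38) h785 m2_785
  have h787 : ∀ u < 29906, (fun u => chkFix tab mwords u) u = true := ext_range (a := 29868) (len := 38) h786 m2_786
  have h788 : ∀ u < 29944, (fun u => chkFix tab mwords u) u = true := ext_range (a := 29906) (len := 38) h787 m2_787
  have h789 : ∀ u < 29982, (fun u => chkFix tab mwords u) u = true := ext_range (a := 29944) (len := 38) h788 m2_788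
  have h790 : ∀ u < 30020, (fun u => chkFix tab mwords u) u = true := ext_range (a := 29982) (len := 38) h789 m2_789
  have h791 : ∀ u < 30058, (fun u => chkFix tab mwords u) u = true := ext_range (a := 30020) (len := 38) h790 m2_790
  have h792 : ∀ u < 30096, (fun u => chkFix tab mwords u) u = true := ext_range (a := 30058) (len := 38) h791 m2_791
  have h793 : ∀ u < 30134, (fun u => chkFix tab mwords u) u = true := ext_range (a := 30096) (len := 38) h792 m2_792
  have h794 : ∀ u < 30172, (fun u => chkFix tab mwords u) u = true := ext_range (a := 30134) (len := 38) h793 m2_793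
  have h795 : ∀ u < 30210, (fun u => chkFix tab mwords u) u = true := ext_range (a := 30172) (len := 38) h794 m2_794
  have h796 : ∀ u < 30248, (fun u => chkFix tab mwords u) u = true := ext_range (a := 30210) (len := 38) h795 m2_795
  have h797 : ∀ u < 30286, (fun u => chkFix tab mwords u) u = true := ext_range (a := 30248) (len := 38) h796 m2_796
  have h798 : ∀ u < 30324, (fun u => chkFix tab mwords u) u = true := ext_range (a := 30286) (len := 38) h797 m2_797
  have h799 : ∀ u < 30362, (fun u => chkFix tab mwords u) u = true := ext_range (a := 30324) (len := 38) h798 m2_798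
  have h800 : ∀ u < 30400, (fun u => chkFix tab mwords u) u = true := ext_range (a := 30362) (len := 38) h799 m2_799
  have h801 : ∀ u < 30438, (fun u => chkFix tab mwords u) u = true := ext_range (a := 30400) (len := 38) h800 m2_800
  have h802 : ∀ u < 30476, (fun u => chkFix tab mwords u) u = true := ext_range (a := 30438) (len := 38) h801 m2_801
  have h803 : ∀ u < 30514, (fun u => chkFix tab mwords u) u = true := ext_range (a := 30476) (len := 38) h802 m2_802
  have h804 : ∀ u < 30552, (fun u => chkFix tab mwords u) u = true := ext_range (a := 30514) (len := 38) h803 m2_803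
  have h805 : ∀ u < 30590, (fun u => chkFix tab mwords u) u = true := ext_range (a := 30552) (len := 38) h804 m2_804
  have h806 : ∀ u < 30628, (fun u => chkFix tab mwords u) u = true := ext_range (a := 30590) (len := 38) h805 m2_805
  have h807 : ∀ u < 30666, (fun u => chkFix tab mwords u) u = true := ext_range (a := 30628) (len := 38) h806 m2_806
  have h808 : ∀ u < 30704, (fun u => chkFix tab mwords u) u = true := ext_range (a := 30666) (len := 38) h807 m2_807
  have h809 : ∀ u < 30742, (fun u => chkFix tab mwords u) u = true := ext_range (a := 30704) (len := 38) h808 m2_808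
  have h810 : ∀ u < 30780, (fun u => chkFix tab mwords u) u = true := ext_range (a := 30742) (len := 38) h809 m2_809
  have h811 : ∀ u < 30818, (fun u => chkFix tab mwords u) u = true := ext_range (a := 30780) (len := 38) h810 m2_810
  have h812 : ∀ u < 30856, (fun u => chkFix tab mwords u) u = true := ext_range (a := 30818) (len := 38) h811 m2_811
  have h813 : ∀ u < 30894, (fun u => chkFix tab mwords u) u = true := ext_range (a := 30856) (len := 38) h812 m2_812
  have h814 : ∀ u < 30932, (fun u => chkFix tab mwords u) u = true := ext_range (a := 30894) (len := 38) h813 m2_813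
  have h815 : ∀ u < 30970, (fun u => chkFix tab mwords u) u = true := ext_range (a := 30932) (len := 38) h814 m2_814
  have h816 : ∀ u < 31008, (fun u => chkFix tab mwords u) u = true := ext_range (a := 30970) (len := 38) h815 m2_815
  have h817 : ∀ u < 31046, (fun u => chkFix tab mwords u) u = true := ext_range (a := 31008) (len := 38) h816 m2_816
  have h818 : ∀ u < 31084, (fun u => chkFix tab mwords u) u = true := ext_range (a := 31046) (len := 38) h817 m2_817
  have h819 : ∀ u < 31122, (fun u => chkFix tab mwords u) u = true := ext_range (a := 31084) (len := 38) h818 m2_818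
  have h820 : ∀ u < 31160, (fun u => chkFix tab mwords u) u = true := ext_range (a := 31122) (len := 38) h819 m2_819
  have h821 : ∀ u < 31198, (fun u => chkFix tab mwords u) u = true := ext_range (a := 31160) (len := 38) h820 m2_820
  have h822 : ∀ u < 31236, (fun u => chkFix tab mwords u) u = true := ext_range (a := 31198) (len := 38) h821 m2_821
  have h823 : ∀ u < 31274, (fun u => chkFix tab mwords u) u = true := ext_range (a := 31236) (len := 38) h822 m2_822
  have h824 : ∀ u < 31312, (fun u => chkFix tab mwords u) u = true := ext_range (a := 31274) (len := 38) h823 m2_823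
  have h825 : ∀ u < 31350, (fun u => chkFix tab mwords u) u = true := ext_range (a := 31312) (len := 38) h824 m2_824
  have h826 : ∀ u < 31388, (fun u => chkFix tab mwords u) u = true := ext_range (a := 31350) (len := 38) h825 m2_825
  have h827 : ∀ u < 31426, (fun u => chkFix tab mwords u) u = true := ext_range (a := 31388) (len := 38) h826 m2_826
  have h828 : ∀ u < 31464, (fun u => chkFix tab mwords u) u = true := ext_range (a := 31426) (len := 38) h827 m2_827
  have h829 : ∀ u < 31502, (fun u => chkFix tab mwords u) u = true := ext_range (a := 31464) (len := 38) h828 m2_828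
  have h830 : ∀ u < 31540, (fun u => chkFix tab mwords u) u = true := ext_range (a := 31502) (len := 38) h829 m2_829
  have h831 : ∀ u < 31578, (fun u => chkFix tab mwords u) u = true := ext_range (a := 31540) (len := 38) h830 m2_830
  have h832 : ∀ u < 31616, (fun u => chkFix tab mwords u) u = true := ext_range (a := 31578) (len := 38) h831 m2_831
  have h833 : ∀ u < 31654, (fun u => chkFix tab mwords u) u = true := ext_range (a := 31616) (len := 38) h832 m2_832
  have h834 : ∀ u < 31671, (fun u => chkFix tab mwords u) u = true := ext_range (a := 31654) (len := 17) h833 m2_833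
  exact h834

theorem hO1 : ∀ u < 31671, chkO1 tab orb u = true := by
  have h0 : ∀ u < 0, (fun u => chkO1 tab orb u) u = true := range_zero
  have h1 : ∀ u < 342, (fun u => chkO1 tab orb u) u = true := ext_range (a := 0) (len := 342) h0 o1_0
  have h2 : ∀ u < 684, (fun u => chkO1 tab orb u) u = true := ext_range (a := 342) (len := 342) h1 o1_1
  have h3 : ∀ u < 1026, (fun u => chkO1 tab orb u) u = true := ext_range (a := 684) (len := 342) h2 o1_2
  have h4 : ∀ u < 1368, (fun u => chkO1 tab orb u) u = true := ext_range (a := 1026) (len := 342) h3 o1_3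
  have h5 : ∀ u < 1710, (fun u => chkO1 tab orb u) u = true := ext_range (a := 1368) (len := 342) h4 o1_4
  have h6 : ∀ u < 2052, (fun u => chkO1 tab orb u) u = true := ext_range (a := 1710) (len := 342) h5 o1_5
  have h7 : ∀ u < 2394, (fun u => chkO1 tab orb u) u = true := ext_range (a := 2052) (len := 342) h6 o1_6
  have h8 : ∀ u < 2736, (fun u => chkO1 tab orb u) u = true := ext_range (a := 2394) (len := 342) h7 o1_7
  have h9 : ∀ u < 3078, (fun u => chkO1 tab orb u) u = true := ext_range (a := 2736) (len := 342) h8 o1_8
  have h10 : ∀ u < 3420, (fun u => chkO1 tab orb u) u = true := ext_range (a := 3078) (len := 342) h9 o1_9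
  have h11 : ∀ u < 3762, (fun u => chkO1 tab orb u) u = true := ext_range (a := 3420) (len := 342) h10 o1_10
  have h12 : ∀ u < 4104, (fun u => chkO1 tab orb u) u = true := ext_range (a := 3762) (len := 342) h11 o1_11
  have h13 : ∀ u < 4446, (fun u => chkO1 tab orb u) u = true := ext_range (a := 4104) (len := 342) h12 o1_12
  have h14 : ∀ u < 4788, (fun u => chkO1 tab orb u) u = true := ext_range (a := 4446) (len := 342) h13 o1_13
  have h15 : ∀ u < 5130, (fun u => chkO1 tab orb u) u = true := ext_range (a := 4788) (len := 342) h14 o1_14
  have h16 : ∀ u < 5472, (fun u => chkO1 tab orb u) u = true := ext_range (a := 5130) (len := 342) h15 o1_15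
  have h17 : ∀ u < 5814, (fun u => chkO1 tab orb u) u = true := ext_range (a := 5472) (len := 342) h16 o1_16
  have h18 : ∀ u < 6156, (fun u => chkO1 tab orb u) u = true := ext_range (a := 5814) (len := 342) h17 o1_17
  have h19 : ∀ u < 6498, (fun u => chkO1 tab orb u) u = true := ext_range (a := 6156) (len := 342) h18 o1_18
  have h20 : ∀ u < 6840, (fun u => chkO1 tab orb u) u = true := ext_range (a := 6498) (len := 342) h19 o1_19
  have h21 : ∀ u < 7182, (fun u => chkO1 tab orb u) u = true := ext_range (a := 6840) (len := 342) h20 o1_20
  have h22 : ∀ u < 7524, (fun u => chkO1 tab orb u) u = true := ext_range (a := 7182) (len := 342) h21 o1_21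
  have h23 : ∀ u < 7866, (fun u => chkO1 tab orb u) u = true := ext_range (a := 7524) (len := 342) h22 o1_22
  have h24 : ∀ u < 8208, (fun u => chkO1 tab orb u) u = true := ext_range (a := 7866) (len := 342) h23 o1_23
  have h25 : ∀ u < 8550, (fun u => chkO1 tab orb u) u = true := ext_range (a := 8208) (len := 342) h24 o1_24
  have h26 : ∀ u < 8892, (fun u => chkO1 tab orb u) u = true := ext_range (a := 8550) (len := 342) h25 o1_25
  have h27 : ∀ u < 9234, (fun u => chkO1 tab orb u) u = true := ext_range (a := 8892) (len := 342) h26 o1_26
  have h28 : ∀ u < 9576, (fun u => chkO1 tab orb u) u = true := ext_range (a := 9234) (len := 342) h27 o1_27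
  have h29 : ∀ u < 9918, (fun u => chkO1 tab orb u) u = true := ext_range (a := 9576) (len := 342) h28 o1_28
  have h30 : ∀ u < 10260, (fun u => chkO1 tab orb u) u = true := ext_range (a := 9918) (len := 342) h29 o1_29
  have h31 : ∀ u < 10602, (fun u => chkO1 tab orb u) u = true := ext_range (a := 10260) (len := 342) h30 o1_30
  have h32 : ∀ u < 10944, (fun u => chkO1 tab orb u) u = true := ext_range (a := 10602) (len := 342) h31 o1_31
  have h33 : ∀ u < 11286, (fun u => chkO1 tab orb u) u = true := ext_range (a := 10944) (len := 342) h32 o1_32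
  have h34 : ∀ u < 11628, (fun u => chkO1 tab orb u) u = true := ext_range (a := 11286) (len := 342) h33 o1_33
  have h35 : ∀ u < 11970, (fun u => chkO1 tab orb u) u = true := ext_range (a := 11628) (len := 342) h34 o1_34
  have h36 : ∀ u < 12312, (fun u => chkO1 tab orb u) u = true := ext_range (a := 11970) (len := 342) h35 o1_35
  have h37 : ∀ u < 12654, (fun u => chkO1 tab orb u) u = true := ext_range (a := 12312) (len := 342) h36 o1_36
  have h38 : ∀ u < 12996, (fun u => chkO1 tab orb u) u = true := ext_range (a := 12654) (len := 342) h37 o1_37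
  have h39 : ∀ u < 13338, (fun u => chkO1 tab orb u) u = true := ext_range (a := 12996) (len := 342) h38 o1_38
  have h40 : ∀ u < 13680, (fun u => chkO1 tab orb u) u = true := ext_range (a := 13338) (len := 342) h39 o1_39
  have h41 : ∀ u < 14022, (fun u => chkO1 tab orb u) u = true := ext_range (a := 13680) (len := 342) h40 o1_40
  have h42 : ∀ u < 14364, (fun u => chkO1 tab orb u) u = true := ext_range (a := 14022) (len := 342) h41 o1_41
  have h43 : ∀ u < 14706, (fun u => chkO1 tab orb u) u = true := ext_range (a := 14364) (len := 342) h42 o1_42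
  have h44 : ∀ u < 15048, (fun u => chkO1 tab orb u) u = true := ext_range (a := 14706) (len := 342) h43 o1_43
  have h45 : ∀ u < 15390, (fun u => chkO1 tab orb u) u = true := ext_range (a := 15048) (len := 342) h44 o1_44
  have h46 : ∀ u < 15732, (fun u => chkO1 tab orb u) u = true := ext_range (a := 15390) (len := 342) h45 o1_45
  have h47 : ∀ u < 16074, (fun u => chkO1 tab orb u) u = true := ext_range (a := 15732) (len := 342) h46 o1_46
  have h48 : ∀ u < 16416, (fun u => chkO1 tab orb u) u = true := ext_range (a := 16074) (len := 342) h47 o1_47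
  have h49 : ∀ u < 16758, (fun u => chkO1 tab orb u) u = true := ext_range (a := 16416) (len := 342) h48 o1_48
  have h50 : ∀ u < 17100, (fun u => chkO1 tab orb u) u = true := ext_range (a := 16758) (len := 342) h49 o1_49
  have h51 : ∀ u < 17442, (fun u => chkO1 tab orb u) u = true := ext_range (a := 17100) (len := 342) h50 o1_50
  have h52 : ∀ u < 17784, (fun u => chkO1 tab orb u) u = true := ext_range (a := 17442) (len := 342) h51 o1_51
  have h53 : ∀ u < 18126, (fun u => chkO1 tab orb u) u = true := ext_range (a := 17784) (len := 342) h52 o1_52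
  have h54 : ∀ u < 18468, (fun u => chkO1 tab orb u) u = true := ext_range (a := 18126) (len := 342) h53 o1_53
  have h55 : ∀ u < 18810, (fun u => chkO1 tab orb u) u = true := ext_range (a := 18468) (len := 342) h54 o1_54
  have h56 : ∀ u < 19152, (fun u => chkO1 tab orb u) u = true := ext_range (a := 18810) (len := 342) h55 o1_55
  have h57 : ∀ u < 19494, (fun u => chkO1 tab orb u) u = true := ext_range (a := 19152) (len := 342) h56 o1_56
  have h58 : ∀ u < 19836, (fun u => chkO1 tab orb u) u = true := ext_range (a := 19494) (len := 342) h57 o1_57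
  have h59 : ∀ u < 20178, (fun u => chkO1 tab orb u) u = true := ext_range (a := 19836) (len := 342) h58 o1_58
  have h60 : ∀ u < 20520, (fun u => chkO1 tab orb u) u = true := ext_range (a := 20178) (len := 342) h59 o1_59
  have h61 : ∀ u < 20862, (fun u => chkO1 tab orb u) u = true := ext_range (a := 20520) (len := 342) h60 o1_60
  have h62 : ∀ u < 21204, (fun u => chkO1 tab orb u) u = true := ext_range (a := 20862) (len := 342) h61 o1_61
  have h63 : ∀ u < 21546, (fun u => chkO1 tab orb u) u = true := ext_range (a := 21204) (len := 342) h62 o1_62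
  have h64 : ∀ u < 21888, (fun u => chkO1 tab orb u) u = true := ext_range (a := 21546) (len := 342) h63 o1_63
  have h65 : ∀ u < 22230, (fun u => chkO1 tab orb u) u = true := ext_range (a := 21888) (len := 342) h64 o1_64
  have h66 : ∀ u < 22572, (fun u => chkO1 tab orb u) u = true := ext_range (a := 22230) (len := 342) h65 o1_65
  have h67 : ∀ u < 22914, (fun u => chkO1 tab orb u) u = true := ext_range (a := 22572) (len := 342) h66 o1_66
  have h68 : ∀ u < 23256, (fun u => chkO1 tab orb u) u = true := ext_range (a := 22914) (len := 342) h67 o1_67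
  have h69 : ∀ u < 23598, (fun u => chkO1 tab orb u) u = true := ext_range (a := 23256) (len := 342) h68 o1_68
  have h70 : ∀ u < 23940, (fun u => chkO1 tab orb u) u = true := ext_range (a := 23598) (len := 342) h69 o1_69
  have h71 : ∀ u < 24282, (fun u => chkO1 tab orb u) u = true := ext_range (a := 23940) (len := 342) h70 o1_70
  have h72 : ∀ u < 24624, (fun u => chkO1 tab orb u) u = true := ext_range (a := 24282) (len := 342) h71 o1_71
  have h73 : ∀ u < 24966, (fun u => chkO1 tab orb u) u = true := ext_range (a := 24624) (len := 342) h72 o1_72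
  have h74 : ∀ u < 25308, (fun u => chkO1 tab orb u) u = true := ext_range (a := 24966) (len := 342) h73 o1_73
  have h75 : ∀ u < 25650, (fun u => chkO1 tab orb u) u = true := ext_range (a := 25308) (len := 342) h74 o1_74
  have h76 : ∀ u < 25992, (fun u => chkO1 tab orb u) u = true := ext_range (a := 25650) (len := 342) h75 o1_75
  have h77 : ∀ u < 26334, (fun u => chkO1 tab orb u) u = true := ext_range (a := 25992) (len := 342) h76 o1_76
  have h78 : ∀ u < 26676, (fun u => chkO1 tab orb u) u = true := ext_range (a := 26334) (len := 342) h77 o1_77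
  have h79 : ∀ u < 27018, (fun u => chkO1 tab orb u) u = true := ext_range (a := 26676) (len := 342) h78 o1_78
  have h80 : ∀ u < 27360, (fun u => chkO1 tab orb u) u = true := ext_range (a := 27018) (len := 342) h79 o1_79
  have h81 : ∀ u < 27702, (fun u => chkO1 tab orb u) u = true := ext_range (a := 27360) (len := 342) h80 o1_80
  have h82 : ∀ u < 28044, (fun u => chkO1 tab orb u) u = true := ext_range (a := 27702) (len := 342) h81 o1_81
  have h83 : ∀ u < 28386, (fun u => chkO1 tab orb u) u = true := ext_range (a := 28044) (len := 342) h82 o1_82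
  have h84 : ∀ u < 28728, (fun u => chkO1 tab orb u) u = true := ext_range (a := 28386) (len := 342) h83 o1_83
  have h85 : ∀ u < 29070, (fun u => chkO1 tab orb u) u = true := ext_range (a := 28728) (len := 342) h84 o1_84
  have h86 : ∀ u < 29412, (fun u => chkO1 tab orb u) u = true := ext_range (a := 29070) (len := 342) h85 o1_85
  have h87 : ∀ u < 29754, (fun u => chkO1 tab orb u) u = true := ext_range (a := 29412) (len := 342) h86 o1_86
  have h88 : ∀ u < 30096, (fun u => chkO1 tab orb u) u = true := ext_range (a := 29754) (len := 342) h87 o1_87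
  have h89 : ∀ u < 30438, (fun u => chkO1 tab orb u) u = true := ext_range (a := 30096) (len := 342) h88 o1_88
  have h90 : ∀ u < 30780, (fun u => chkO1 tab orb u) u = true := ext_range (a := 30438) (len := 342) h89 o1_89
  have h91 : ∀ u < 31122, (fun u => chkO1 tab orb u) u = true := ext_range (a := 30780) (len := 342) h90 o1_90
  have h92 : ∀ u < 31464, (fun u => chkO1 tab orb u) u = true := ext_range (a := 31122) (len := 342) h91 o1_91
  have h93 : ∀ u < 31671, (fun u => chkO1 tab orb u) u = true := ext_range (a := 31464) (len := 207) h92 o1_92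
  exact h93

theorem hO2 : ∀ u < 31671, chkO2 tab orb u = true := by
  have h0 : ∀ u < 0, (fun u => chkO2 tab orb u) u = true := range_zero
  have h1 : ∀ u < 1334, (fun u => chkO2 tab orb u) u = true := ext_range (a := 0) (len := 1334) h0 o2_0
  have h2 : ∀ u < 2668, (fun u => chkO2 tab orb u) u = true := ext_range (a := 1334) (len := 1334) h1 o2_1
  have h3 : ∀ u < 4002, (fun u => chkO2 tab orb u) u = true := ext_range (a := 2668) (len := 1334) h2 o2_2
  have h4 : ∀ u < 5336, (fun u => chkO2 tab orb u) u = true := ext_range (a := 4002) (len := 1334) h3 o2_3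
  have h5 : ∀ u < 6670, (fun u => chkO2 tab orb u) u = true := ext_range (a := 5336) (len := 1334) h4 o2_4
  have h6 : ∀ u < 8004, (fun u => chkO2 tab orb u) u = true := ext_range (a := 6670) (len := 1334) h5 o2_5
  have h7 : ∀ u < 9338, (fun u => chkO2 tab orb u) u = true := ext_range (a := 8004) (len := 1334) h6 o2_6
  have h8 : ∀ u < 10672, (fun u => chkO2 tab orb u) u = true := ext_range (a := 9338) (len := 1334) h7 o2_7
  have h9 : ∀ u < 12006, (fun u => chkO2 tab orb u) u = true := ext_range (a := 10672) (len := 1334) h8 o2_8
  have h10 : ∀ u < 13340, (fun u => chkO2 tab orb u) u = true := ext_range (a := 12006) (len := 1334) h9 o2_9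
  have h11 : ∀ u < 14674, (fun u => chkO2 tab orb u) u = true := ext_range (a := 13340) (len := 1334) h10 o2_10
  have h12 : ∀ u < 16008, (fun u => chkO2 tab orb u) u = true := ext_range (a := 14674) (len := 1334) h11 o2_11
  have h13 : ∀ u < 17342, (fun u => chkO2 tab orb u) u = true := ext_range (a := 16008) (len := 1334) h12 o2_12
  have h14 : ∀ u < 18676, (fun u => chkO2 tab orb u) u = true := ext_range (a := 17342) (len := 1334) h13 o2_13
  have h15 : ∀ u < 20010, (fun u => chkO2 tab orb u) u = true := ext_range (a := 18676) (len := 1334) h14 o2_14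
  have h16 : ∀ u < 21344, (fun u => chkO2 tab orb u) u = true := ext_range (a := 20010) (len := 1334) h15 o2_15
  have h17 : ∀ u < 22678, (fun u => chkO2 tab orb u) u = true := ext_range (a := 21344) (len := 1334) h16 o2_16
  have h18 : ∀ u < 24012, (fun u => chkO2 tab orb u) u = true := ext_range (a := 22678) (len := 1334) h17 o2_17
  have h19 : ∀ u < 25346, (fun u => chkO2 tab orb u) u = true := ext_range (a := 24012) (len := 1334) h18 o2_18
  have h20 : ∀ u < 26680, (fun u => chkO2 tab orb u) u = true := ext_range (a := 25346) (len := 1334) h19 o2_19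
  have h21 : ∀ u < 28014, (fun u => chkO2 tab orb u) u = true := ext_range (a := 26680) (len := 1334) h20 o2_20
  have h22 : ∀ u < 29348, (fun u => chkO2 tab orb u) u = true := ext_range (a := 28014) (len := 1334) h21 o2_21
  have h23 : ∀ u < 30682, (fun u => chkO2 tab orb u) u = true := ext_range (a := 29348) (len := 1334) h22 o2_22
  have h24 : ∀ u < 31671, (fun u => chkO2 tab orb u) u = true := ext_range (a := 30682) (len := 989) h23 o2_23
  exact h24

theorem hE : ∀ c < 10, ∀ u < 64481, chkE tab c u = true := by
  intro c hc
  interval_cases c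
  · exact hE0
  · exact hE1
  · exact hE2
  · exact hE3
  · exact hE4
  · exact hE5
  · exact hE6
  · exact hE7
  · exact hE8
  · exact hE9

end Cfsg.Agent.Helper9.TCData.X1689
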