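import Cfsg.Agent.Lib.Helper9.TCData.X1689.Main

set_option autoImplicit false
set_option maxRecDepth 1000000

namespace Cfsg.Agent.Helper9.TCData.X1689
open Cfsg.Agent.Helper9.TC2

theorem e3_10 : allRange 22415 2315 (fun u => chkE tab 3 u) = true := by decide +kernel

theorem e3_11 : allRange 24730 2329 (fun u => chkE tab 3 u) = true := by decide +kernel

theorem e3_12 : allRange 27059 2348 (fun u => chkE tab 3 u) = true := by decide +kernel

theorem e3_13 : allRange 29407 2455 (fun u => chkE tab 3 u) = true := by decide +kernel

theorem e3_14 : allRange 31862 4794 (fun u => chkE tab 3 u) = true := by decide +kernel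

theorem e3_15 : allRange 36656 5412 (fun u => chkE tab 3 u) = true := by decide +kernel

theorem e3_16 : allRange 42068 3732 (fun u => chkE tab 3 u) = true := by decide +kernel

theorem e3_17 : allRange 45800 2729 (fun u => chkE tab 3 u) = true := by decide +kernel


end Cfsg.Agent.Helper9.TCData.X1689
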