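import Cfsg.Agent.Lib.Helper9.TCData.X1689.Main

set_option autoImplicit false
set_option maxRecDepth 1000000

namespace Cfsg.Agent.Helper9.TCData.X1689
open Cfsg.Agent.Helper9.TC2

theorem m2_478 : allRange 18164 38 (fun u => chkFix tab mwords u) = true := by decide +kernel

theorem m2_479 : allRange 18202 38 (fun u => chkFix tab mwords u) = true := by decide +kernel

theorem m2_480 : allRange 18240 38 (fun u => chkFix tab mwords u) = true := by decide +kernel

theorem m2_481 : allRange 18278 38 (fun u => chkFix tab mwords u) = true := by decide +kernel

theorem m2_482 : allRange 18316 38 (fun u => chkFix tab mwords u) = true := by decide +kernel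

theorem m2_483 : allRange 18354 38 (fun u => chkFix tab mwords u) = true := by decide +kernel

theorem m2_484 : allRange 18392 38 (fun u => chkFix tab mwords u) = true := by decide +kernel

theorem m2_485 : allRange 18430 38 (fun u => chkFix tab mwords u) = true := by decide +kernel


end Cfsg.Agent.Helper9.TCData.X1689
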