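import Cfsg.Agent.Lib.Helper9.TCData.X1689.Main

set_option autoImplicit false
set_option maxRecDepth 1000000

namespace Cfsg.Agent.Helper9.TCData.X1689
open Cfsg.Agent.Helper9.TC2

theorem m2_670 : allRange 25460 38 (fun u => chkFix tab mwords u) = true := by decide +kernel

theorem m2_671 : allRange 25498 38 (fun u => chkFix tab mwords u) = true := by decide +kernel

theorem m2_672 : allRange 25536 38 (fun u => chkFix tab mwords u) = true := by decide +kernel

theorem m2_673 : allRange 25574 38 (fun u => chkFix tab mwords u) = true := by decide +kernel

theorem m2_674 : allRange 25612 38 (fun u => chkFix tab mwords u) = true := by decide +kernel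

theorem m2_675 : allRange 25650 38 (fun u => chkFix tab mwords u) = true := by decide +kernel

theorem m2_676 : allRange 25688 38 (fun u => chkFix tab mwords u) = true := by decide +kernel

theorem m2_677 : allRange 25726 38 (fun u => chkFix tab mwords u) = true := by decide +kernel


end Cfsg.Agent.Helper9.TCData.X1689
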